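/-
Stabilisers of non-degenerate subspaces of small dimension, and of a nonsingular point in characteristic two, are
maximal in `omegaGL`: the larger summand may have dimension five.
-/
import Cfsg.Agent.Lib.MaxCl.OrthNondeg

set_option autoImplicit false

namespace Cfsg.Agent.MaxCl.Orth.Small

open scoped MatrixGroups Matrix
open Module (finrank)

variable {ι : Type} [Fintype ι] [DecidableEq ι] {F : Type*} [Field F] {Q : QuadraticForm F (ι → F)}

set_option quotPrecheck false in
local notation "B" => QuadraticMap.polar (⇑Q)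

variable (hQ : (QuadraticMap.polarBilin Q).Nondegenerate) {W : Submodule F (ι → F)} (hW : NonDeg Q W)
include hQ hW

/-- A totally isotropic subspace of a non-degenerate subspace has at most half its dimension. -/
theorem two_mul_finrank_le_of_isotropic {U : Submodule F (ι → F)} (hUW : U ≤ W)
    (hU : ∀ x ∈ U, ∀ y ∈ U, B x y = 0) : 2 * finrank F U ≤ finrank F W := by
  have h1 : perp Q W ⊓ U = ⊥ := by
    rw [eq_bot_iff]
    rintro x ⟨hx, hxU⟩
    exact (inf_perp hW).le ⟨hUW hxU, hx⟩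
  have h2 := Submodule.finrank_sup_add_finrank_inf_eq (perp Q W) U
  have h3 : perp Q W ⊔ U ≤ perp Q U := sup_le (fun x hx u hu => hx u (hUW hu)) fun x hx u hu => hU u hu x hx
  have h4 := Submodule.finrank_mono h3
  have h5 : finrank F W ≤ Fintype.card ι := (Submodule.finrank_le W).trans_eq (Module.finrank_pi F)
  rw [h1, finrank_bot, finrank_perp hQ] at h2
  rw [finrank_perp hQ U] at h4
  have h6 : finrank F U ≤ Fintype.card ι := (Submodule.finrank_le U).trans_eq (Module.finrank_pi F)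
  omega

omit hW in
theorem finrank_inf_perp_ge (D E : Submodule F (ι → F)) :
    finrank F D ≤ finrank F ↥(D ⊓ perp Q E) + finrank F E := by
  have h1 := Submodule.finrank_sup_add_finrank_inf_eq D (perp Q E)
  have h2 : finrank F ↥(D ⊔ perp Q E) ≤ Fintype.card ι := (Submodule.finrank_le _).trans_eq (Module.finrank_pi F)
  have h3 : finrank F E ≤ Fintype.card ι := (Submodule.finrank_le E).trans_eq (Module.finrank_pi F)
  rw [finrank_perp hQ] at h1
  omega

section Transfer

variable {M : Subgroup (GL ι F)} (hS : ∀ u ∈ W, ∀ w ∈ W, sg Q u w ∈ M)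
include hS

omit hW in
/-- A transfer at a given singular vector of `W`. -/
theorem transfer_at {x b x₁ x₂ b₁ b₂ t s : ι → F} (hQx : Q x = 0) (hxb : B x b = 0) (hr : sg Q x b ∈ M)
    (hx₁ : x₁ ∈ W) (hx₂ : x₂ ∈ perp Q W) (hxe : x = x₁ + x₂) (hb₁ : b₁ ∈ W) (hb₂ : b₂ ∈ perp Q W)
    (hbe : b = b₁ + b₂) (ht : t ∈ W) (hs : s ∈ W) (hQs : Q s = 0) (hst : B s t = 0) (hx1s : B x₁ s = 0)
    (hb1s : B b₁ s = 0) : sg Q s (B x₁ t • b₂ - (B b₁ t + Q b * B x₁ t) • x₂) ∈ M := by
  have hxs : B x s = 0 := by rw [hxe, B_add_left Q, hx1s, B_comm Q x₂, orth hx₂ hs, add_zero]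
  have hbs : B b s = 0 := by rw [hbe, B_add_left Q, hb1s, B_comm Q b₂, orth hb₂ hs, add_zero]
  have hxt : B x t = B x₁ t := by rw [hxe, B_add_left Q, B_comm Q x₂, orth hx₂ ht, add_zero]
  have hbt : B b t = B b₁ t := by rw [hbe, B_add_left Q, B_comm Q b₂, orth hb₂ ht, add_zero]
  have key := sg_sub_mem hQ hQx hxb hr hQs hst (hS s hs t ht) hxs hbs
  rw [hxt, hbt] at key
  set a := B x₁ t • b₂ - (B b₁ t + Q b * B x₁ t) • x₂ with ha
  set w₁ := B x₁ t • b₁ - (B b₁ t + Q b * B x₁ t) • x₁ with hw₁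
  have hw₁W : w₁ ∈ W := W.sub_mem (W.smul_mem _ hb₁) (W.smul_mem _ hx₁)
  have hsa : B s a = 0 :=
    orth ((perp Q W).sub_mem ((perp Q W).smul_mem _ hb₂) ((perp Q W).smul_mem _ hx₂)) hs
  have hsw : B s w₁ = 0 := by
    rw [hw₁, B_sub_right Q, B_smul_right Q, B_smul_right Q, B_comm Q s b₁, hb1s, B_comm Q s x₁, hx1s]; ring
  have e : B x₁ t • b - (B b₁ t + Q b * B x₁ t) • x = w₁ + a := by
    rw [ha, hw₁, hxe, hbe]; module
  rw [e, ← sg_add Q hQs hsw hsa] at key
  exact (mul_mem_cancel_left (hS s hs w₁ hw₁W)).1 key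

omit hQ hW hS in
variable (Q W M) in
/-- `M` has no transfer out of `W`. -/
def NoTransfer : Prop :=
  ∀ s ∈ W, s ≠ 0 → Q s = 0 → ∀ a ∈ perp Q W, sg Q s a ∈ M → a = 0

variable (hno : NoTransfer Q W M)
include hno

/-- Without a transfer, a Siegel element of `M` is confined by the singular vectors orthogonal to its `W`-part. -/
theorem confine {x b x₁ x₂ b₁ b₂ s : ι → F} (hQx : Q x = 0) (hxb : B x b = 0) (hr : sg Q x b ∈ M)
    (hx₁ : x₁ ∈ W) (hx₂ : x₂ ∈ perp Q W) (hxe : x = x₁ + x₂) (hb₁ : b₁ ∈ W) (hb₂ : b₂ ∈ perp Q W)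
    (hbe : b = b₁ + b₂) (hx20 : x₂ ≠ 0) (hs : s ∈ W) (hs0 : s ≠ 0) (hQs : Q s = 0) (hx1s : B x₁ s = 0)
    (hb1s : B b₁ s = 0) :
    b₁ ∈ Submodule.span F (Set.range ![x₁, s]) ∧
      (x₁ ∉ F ∙ s → ∃ α β : F, b = α • s + β • x + Q b • x₂) := by
  have hA : ∀ t ∈ W, B s t = 0 → B x₁ t • b₂ - (B b₁ t + Q b * B x₁ t) • x₂ = 0 := fun t ht hst =>
    hno s hs hs0 hQs _ ((perp Q W).sub_mem ((perp Q W).smul_mem _ hb₂) ((perp Q W).smul_mem _ hx₂))
      (transfer_at hQ hS hQx hxb hr hx₁ hx₂ hxe hb₁ hb₂ hbe ht hs hQs hst hx1s hb1s)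
  have hin : b₁ ∈ Submodule.span F (Set.range ![x₁, s]) := by
    by_contra hb
    obtain ⟨t, ht, htP, hbt⟩ := exists_one_in hQ hW (P := Submodule.span F (Set.range ![x₁, s]))
      (Submodule.span_le.2 (by rintro _ ⟨i, rfl⟩; fin_cases i <;> assumption)) hb₁ hb
    have h := hA t ht (htP s (Submodule.subset_span ⟨1, rfl⟩))
    rw [htP x₁ (Submodule.subset_span ⟨0, rfl⟩), hbt] at h
    exact hx20 (by simpa using h)
  refine ⟨hin, fun hxs => ?_⟩
  obtain ⟨t, ht, htP, hxt⟩ := exists_one_in hQ hW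
    ((Submodule.span_singleton_le_iff_mem _ _).2 hs) hx₁ hxs
  have hst := htP s (Submodule.mem_span_singleton_self s)
  obtain ⟨β, α, hab⟩ := mem_span_pair_iff_range.1 hin
  have h := hA t ht hst
  rw [← hab, B_add_left Q, B_smul_left Q, B_smul_left Q, hxt, hst, one_smul, sub_eq_zero] at h
  refine ⟨α, β, ?_⟩
  conv_lhs => rw [hbe, h, ← hab]
  rw [hxe]
  module

end Transfer

section Five

variable [Finite F] (h5 : 5 ≤ finrank F W) {M : Subgroup (GL ι F)} (hS : ∀ u ∈ W, ∀ w ∈ W, sg Q u w ∈ M)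
include h5 hS

/-- The Siegel elements supported on `W` move singular vectors of `W` transitively and fix `perp W`. -/
theorem exists_move_in {x y : ι → F} (hx : x ∈ W) (hy : y ∈ W) (hx0 : x ≠ 0) (hy0 : y ≠ 0) (hQx : Q x = 0)
    (hQy : Q y = 0) :
    ∃ g ∈ M, g ∈ isometryGroup F Q ∧ act g x = y ∧ ∀ a ∈ perp Q W, act g a = a := by
  have step : ∀ x ∈ W, ∀ y ∈ W, Q x = 0 → Q y = 0 → B x y = 0 → x ∉ F ∙ y → y ∉ F ∙ x →
      ∃ g ∈ M, g ∈ isometryGroup F Q ∧ act g x = y ∧ ∀ a ∈ perp Q W, act g a = a := by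
    intro x hx y hy hQx hQy hxy hx' hy'
    obtain ⟨z₁, hz₁, h1, h1'⟩ := exists_one_in hQ hW
      ((Submodule.span_singleton_le_iff_mem _ _).2 hy) hx hx'
    obtain ⟨z₂, hz₂, h2, h2'⟩ := exists_one_in hQ hW
      ((Submodule.span_singleton_le_iff_mem _ _).2 hx) hy hy'
    have hy1 := h1 y (Submodule.mem_span_singleton_self y)
    have hx2 := h2 x (Submodule.mem_span_singleton_self x)
    set z := z₁ + z₂ - Q (z₁ + z₂) • x with hz
    have hxz : B x z = 1 := by
      rw [hz, B_sub_right Q, B_add_right Q, B_smul_right Q, B_self_of_singular Q hQx, h1', hx2]; ring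
    have hyz : B y z = 1 := by
      rw [hz, B_sub_right Q, B_add_right Q, B_smul_right Q, B_comm Q y x, hxy, hy1, h2']; ring
    have hQz : Q z = 0 := by
      rw [hz, Q_sub Q, Q_smul Q, B_smul_right Q, hQx, B_add_left Q, B_comm Q z₁ x, B_comm Q z₂ x, h1', hx2]
      ring
    have hzW : z ∈ W := W.sub_mem (W.add_mem hz₁ hz₂) (W.smul_mem _ hx)
    have hzw : B z (y - x) = 0 := by rw [B_sub_right Q, B_comm Q z y, B_comm Q z x, hxz, hyz, sub_self]
    refine ⟨sg Q z (y - x), hS z hzW _ (W.sub_mem hy hx), sg_mem_iso Q _ _, ?_, fun a ha => ?_⟩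
    · rw [act_sg Q hQz hzw, B_comm Q z x, hxz, B_sub_left Q, B_comm Q y x, hxy, B_self_of_singular Q hQx,
        Q_sub Q, hQx, hQy, B_comm Q y x, hxy]
      module
    · exact act_sg_fix Q hQz hzw (ha z hzW) (ha _ (W.sub_mem hy hx))
  have hflip : ∀ p q : ι → F, p ≠ 0 → p ∈ F ∙ q → q ∈ F ∙ p := by
    intro p q hp h
    obtain ⟨c, rfl⟩ := Submodule.mem_span_singleton.1 h
    have hc : c ≠ 0 := fun e => hp (by rw [e, zero_smul])
    exact Submodule.mem_span_singleton.2 ⟨c⁻¹, by rw [smul_smul, inv_mul_cancel₀ hc, one_smul]⟩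
  obtain ⟨w, hw, hQw, hxw, hyw, hwx, hwy⟩ : ∃ w ∈ W, Q w = 0 ∧ B x w = 0 ∧ B y w = 0 ∧ w ∉ F ∙ x ∧ w ∉ F ∙ y := by
    by_cases hdep : y ∈ F ∙ x
    · obtain ⟨w, hw, hwP, hwE, hQw⟩ := exists_singular_in hQ (W := W) (P := F ∙ x) (E := F ∙ x) (by
        rw [finrank_span_singleton hx0]; omega)
      have hxw := hwP x (Submodule.mem_span_singleton_self x)
      refine ⟨w, hw, hQw, hxw, hwP y hdep, hwE, fun h => hwE ?_⟩
      exact (Submodule.span_singleton_le_iff_mem _ _).2 hdep h
    by_cases hxy : B x y = 0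
    · obtain ⟨w, hw, hwP, hwE, hQw⟩ := exists_singular_in hQ (W := W) (P := F ∙ x) (E := F ∙ x) (by
        rw [finrank_span_singleton hx0]; omega)
      by_cases hwy : B y w = 0 ∧ w ∉ F ∙ y
      · exact ⟨w, hw, hQw, hwP x (Submodule.mem_span_singleton_self x), hwy.1, hwE, hwy.2⟩
      · refine ⟨x + y, W.add_mem hx hy, by rw [Q_add Q, hQx, hQy, hxy]; ring, ?_, ?_, fun h => hdep ?_,
          fun h => hdep (hflip x y hx0 ?_)⟩
        · rw [B_add_right Q, B_self_of_singular Q hQx, hxy, add_zero]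
        · rw [B_add_right Q, B_self_of_singular Q hQy, B_comm Q y x, hxy, add_zero]
        · have := (F ∙ x).sub_mem h (Submodule.mem_span_singleton_self x)
          rwa [add_sub_cancel_left] at this
        · have := (F ∙ y).sub_mem h (Submodule.mem_span_singleton_self y)
          rwa [add_sub_cancel_right] at this
    have hP := finrank_span_list_le ![x, y]
    obtain ⟨w, hw, hwP, hw0, hQw⟩ := exists_singular_in hQ (W := W) (P := Submodule.span F (Set.range ![x, y]))
      (E := ⊥) (by rw [finrank_bot]; omega)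
    rw [Submodule.mem_bot] at hw0
    have hxw := hwP x (Submodule.subset_span ⟨0, rfl⟩)
    have hyw := hwP y (Submodule.subset_span ⟨1, rfl⟩)
    refine ⟨w, hw, hQw, hxw, hyw, fun h => ?_, fun h => ?_⟩ <;> obtain ⟨c, rfl⟩ := Submodule.mem_span_singleton.1 h
    · rw [B_smul_right Q, B_comm Q y x, mul_eq_zero, or_iff_left hxy] at hyw
      exact hw0 (by rw [hyw, zero_smul])
    · rw [B_smul_right Q, mul_eq_zero, or_iff_left hxy] at hxw
      exact hw0 (by rw [hxw, zero_smul])
  obtain ⟨g, hgM, hgI, hgx, hgf⟩ := step x hx w hw hQx hQw hxw (fun h => hwx (hflip x w hx0 h)) hwx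
  obtain ⟨h, hhM, hhI, hhw, hhf⟩ := step w hw y hy hQw hQy ((B_comm Q w y).trans hyw) hwy
    fun h => hwy (hflip y w hy0 h)
  exact ⟨h * g, mul_mem hhM hgM, mul_mem hhI hgI, by rw [act_mul, hgx, hhw],
    fun a ha => by rw [act_mul, hgf a ha, hhf a ha]⟩

/-- One Siegel element suffices. -/
theorem mem_transferSet {u a : ι → F} (hu : u ∈ W) (hu0 : u ≠ 0) (hQu : Q u = 0) (ha : a ∈ perp Q W)
    (h : sg Q u a ∈ M) : a ∈ transferSet Q W M := by
  refine ⟨ha, fun v hv hQv => ?_⟩
  rcases eq_or_ne v 0 with rfl | hv0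
  · have : sg Q 0 a = 1 := gl_ext fun x => by
      rw [act_sg Q hQv (B_zero_left Q a), act_one, B_zero_left Q]; simp
    rw [this]; exact one_mem _
  obtain ⟨g, hgM, hgI, hgu, hgf⟩ := exists_move_in hQ hW h5 hS hu hv hu0 hv0 hQu hQv
  have := mul_mem (mul_mem hgM h) (inv_mem hgM)
  rwa [conj_sg Q hgI, hgu, hgf a ha] at this

variable (hn : 5 ≤ Fintype.card ι)
include hn

theorem omega_le_of_transfer (hT : perp Q W ≤ Submodule.span F (transferSet Q W M)) :
    Cfsg.Geo.omegaGL Q ≤ M := by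
  have hall : ∀ a ∈ perp Q W, ∀ u ∈ W, Q u = 0 → sg Q u a ∈ M := by
    intro a ha
    have hTa := hT ha
    have key : a = 0 ∨ a ∈ transferSet Q W M := by
      clear ha
      induction hTa using Submodule.span_induction with
      | mem y hy => exact Or.inr hy
      | zero => exact Or.inl rfl
      | add y z _ _ hy hz =>
        rcases hy with rfl | hy
        · rwa [zero_add]
        rcases hz with rfl | hz
        · rw [add_zero]; exact Or.inr hy
        · exact Or.inr (transferSet_add hy hz)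
      | smul c y _ hy =>
        rcases hy with rfl | hy
        · exact Or.inl (smul_zero c)
        · exact Or.inr (transferSet_smul c hy)
    rcases key with rfl | h
    · intro u _ _
      rw [sg_zero]; exact one_mem _
    · exact h.2
  have full : ∀ u ∈ W, Q u = 0 → Full Q M u := by
    intro u hu hQu w hw
    obtain ⟨w₁, hw₁, w₂, hw₂, rfl⟩ := exists_split hQ hW w
    have h2 : B u w₂ = 0 := hw₂ u hu
    have h1 : B u w₁ = 0 := by rw [B_add_right Q, h2, add_zero] at hw; exact hw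
    rw [← sg_add Q hQu h1 h2]
    exact mul_mem (hS u hu w₁ hw₁) (hall w₂ hw₂ u hu hQu)
  obtain ⟨s, hs, t, ht, hQs, hQt, hst⟩ := exists_pair_in hQ hW (by omega)
  exact omega_le_of_full hQ hn hQs hQt (by rw [hst]; exact one_ne_zero) (full s hs hQs) (full t ht hQt)

omit hS hn in
theorem exists_sg_notMem_stab (hn : 5 ≤ Fintype.card ι) (hW2 : perp Q W ≠ ⊥) :
    ∃ g ∈ Cfsg.Geo.omegaGL Q, g ∉ Cfsg.Geo.subspaceStabilizer W := by
  obtain ⟨a, ha, ha0⟩ := Submodule.exists_mem_ne_zero_of_ne_bot hW2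
  obtain ⟨s, hs, t, ht, hQs, -, hst⟩ := exists_pair_in hQ hW (by omega)
  refine ⟨sg Q s a, sg_mem_omega hQ hn s a, fun h => ha0 ?_⟩
  have h1 := (mem_subspaceStabilizer.1 h t).1 ht
  rw [act_sg Q hQs (orth ha hs), hst, B_comm Q a t, orth ha ht] at h1
  have : a ∈ W := by
    have e : a = (t + (1 : F) • a - (0 + Q a * 1) • s) - t + Q a • s := by module
    rw [e]; exact W.add_mem (W.sub_mem h1 ht) (W.smul_mem _ hs)
  exact (Submodule.eq_bot_iff _).1 (inf_perp hW) a ⟨this, ha⟩

omit hn in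
/-- An element of `M` moving `W` outside itself and outside `perp W` yields a transfer. -/
theorem move_to_perp (hno : NoTransfer Q W M) {g : GL ι F} (hgM : g ∈ M) (hgI : g ∈ isometryGroup F Q)
    {u : ι → F} (hu : u ∈ W) (hQu : Q u = 0) (hx : act g u ∉ W) :
    act g u ∈ perp Q W ∧ ∀ b ∈ W, B u b = 0 → act g b ∈ perp Q W := by
  have hu0 : u ≠ 0 := fun e => hx (by rw [e, map_zero]; exact W.zero_mem)
  set x := act g u with hxdef
  have hQx : Q x = 0 := by rw [hxdef, Q_act hgI, hQu]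
  obtain ⟨x₁, hx₁, x₂, hx₂, hxe⟩ := exists_split hQ hW x
  have hx20 : x₂ ≠ 0 := fun e => hx (by rw [hxe, e, add_zero]; exact hx₁)
  have hWW' : ∀ p ∈ W, ∀ q ∈ perp Q W, B q p = 0 := fun p hp q hq => (B_comm Q q p).trans (orth hq hp)
  have L : ∀ b₀ ∈ W, B u b₀ = 0 → B x (act g b₀) = 0 ∧ sg Q x (act g b₀) ∈ M := by
    intro b₀ hb₀ h0
    refine ⟨by rw [hxdef, B_act hgI, h0], ?_⟩
    have := mul_mem (mul_mem hgM (hS u hu b₀ hb₀)) (inv_mem hgM)
    rwa [conj_sg Q hgI] at this
  have hx10 : x₁ = 0 := by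
    by_contra hx10
    obtain ⟨s, hs, hsP, hsE, hQs⟩ := exists_singular_in hQ (W := W) (P := F ∙ x₁) (E := F ∙ x₁)
      (by rw [finrank_span_singleton hx10]; omega)
    have hx1s := hsP x₁ (Submodule.mem_span_singleton_self x₁)
    have hs0 : s ≠ 0 := fun e => hsE (by rw [e]; exact Submodule.zero_mem _)
    have hxs : x₁ ∉ F ∙ s := fun h => by
      obtain ⟨c, hc⟩ := Submodule.mem_span_singleton.1 h
      refine hsE (Submodule.mem_span_singleton.2 ⟨c⁻¹, ?_⟩)
      rw [← hc, smul_smul, inv_mul_cancel₀ (fun e => hx10 (by rw [← hc, e, zero_smul])), one_smul]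
    set G := (W ⊓ perp Q (F ∙ u)).map (act g) ⊓ perp Q (F ∙ s) with hG
    have hGdim : finrank F W ≤ finrank F G + 2 := by
      have h1 := finrank_inf_perp_ge hQ W (F ∙ u)
      have h2 := finrank_inf_perp_ge hQ ((W ⊓ perp Q (F ∙ u)).map (act g)) (F ∙ s)
      rw [finrank_map_act, finrank_span_singleton hs0, ← hG] at h2
      rw [finrank_span_singleton hu0] at h1
      omega
    have hGle : ∀ b ∈ G, ∃ α β γ : F, b = α • s + β • x + γ • x₂ ∧ B x b = 0 ∧
        ∃ b₀ ∈ W, act g b₀ = b := by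
      rintro b ⟨⟨b₀, ⟨hb₀, hub⟩, rfl⟩, hbs⟩
      obtain ⟨hxb, hr⟩ := L b₀ hb₀ (hub u (Submodule.mem_span_singleton_self u))
      obtain ⟨b₁, hb₁, b₂, hb₂, hbe⟩ := exists_split hQ hW (act g b₀)
      have hb1s : B b₁ s = 0 := by
        have : B s (act g b₀) = 0 := hbs s (Submodule.mem_span_singleton_self s)
        rwa [B_comm Q, hbe, B_add_left Q, hWW' s hs b₂ hb₂, add_zero] at this
      obtain ⟨α, β, e⟩ := (confine hQ hW hS hno hQx hxb hr hx₁ hx₂ hxe hb₁ hb₂ hbe hx20 hs hs0 hQs hx1s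
        hb1s).2 hxs
      exact ⟨α, β, _, e, hxb, b₀, hb₀, rfl⟩
    have hBxs : B x s = 0 := by rw [hxe, B_add_left Q, hx1s, hWW' s hs x₂ hx₂, add_zero]
    have hBxx2 : B x x₂ = 2 * Q x₂ := by
      rw [hxe, B_add_left Q, orth hx₂ hx₁, zero_add, B_self Q]
    by_cases h2 : 2 * Q x₂ = 0
    · -- all of `G` is totally isotropic
      have hiso : ∀ a ∈ G, ∀ b ∈ G, B a b = 0 := by
        intro a ha b hb
        obtain ⟨α, β, γ, rfl, -⟩ := hGle a ha
        obtain ⟨α', β', γ', rfl, -⟩ := hGle b hb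
        simp only [B_add_left Q, B_add_right Q, B_smul_left Q, B_smul_right Q, B_self_of_singular Q hQs,
          B_self_of_singular Q hQx, B_comm Q s x, hBxs, hBxx2, B_comm Q x₂ x, h2, hWW' s hs x₂ hx₂,
          B_comm Q s x₂, B_self Q x₂]
        ring
      have hU : 2 * finrank F (G.map (act g⁻¹)) ≤ finrank F W := by
        refine two_mul_finrank_le_of_isotropic hQ hW ?_ ?_
        · rintro _ ⟨b, hb, rfl⟩
          obtain ⟨α, β, γ, -, -, b₀, hb₀, e⟩ := hGle b hb
          rw [← e, act_inv_act]; exact hb₀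
        · rintro _ ⟨a, ha, rfl⟩ _ ⟨b, hb, rfl⟩
          rw [B_act (inv_mem hgI)]; exact hiso a ha b hb
      rw [finrank_map_act] at hU
      have h3 : finrank F G ≤ 3 := by
        refine (Submodule.finrank_mono fun b hb => ?_).trans (finrank_span_list_le ![s, x, x₂])
        obtain ⟨α, β, γ, rfl, -⟩ := hGle b hb
        exact (Submodule.mem_span_range_iff_exists_fun _).2 ⟨![α, β, γ], by rw [Fin.sum_univ_three]; rfl⟩
      omega
    · have h3 : finrank F G ≤ 2 := by
        refine (Submodule.finrank_mono fun b hb => ?_).trans (finrank_span_list_le ![s, x])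
        obtain ⟨α, β, γ, rfl, hxb, -⟩ := hGle b hb
        simp only [B_add_right Q, B_smul_right Q, hBxs, B_self_of_singular Q hQx, hBxx2, mul_zero,
          zero_add] at hxb
        rw [(mul_eq_zero.1 hxb).resolve_right h2, zero_smul, add_zero, mem_span_pair_iff_range]
        exact ⟨α, β, rfl⟩
      omega
  subst hx10
  refine ⟨by rw [hxe, zero_add]; exact hx₂, fun b₀ hb₀ hbu => ?_⟩
  obtain ⟨hxb, hr⟩ := L b₀ hb₀ hbu
  obtain ⟨b₁, hb₁, b₂, hb₂, hbe⟩ := exists_split hQ hW (act g b₀)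
  rcases eq_or_ne b₁ 0 with rfl | hb10
  · rw [hbe, zero_add]; exact hb₂
  obtain ⟨s, hs, hsP, hsE, hQs⟩ := exists_singular_in hQ (W := W) (P := F ∙ b₁) (E := F ∙ b₁)
    (by rw [finrank_span_singleton hb10]; omega)
  obtain ⟨p, q, hpq⟩ := mem_span_pair_iff_range.1 (confine hQ hW hS hno hQx hxb hr hx₁ hx₂ hxe hb₁ hb₂ hbe
    hx20 hs (fun e => hsE (by rw [e]; exact Submodule.zero_mem _)) hQs (B_zero_left Q s)
    (hsP b₁ (Submodule.mem_span_singleton_self b₁))).1
  rw [smul_zero, zero_add] at hpq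
  refine absurd (Submodule.mem_span_singleton.2 ⟨q⁻¹, ?_⟩) hsE
  rw [← hpq, smul_smul, inv_mul_cancel₀ (fun e => hb10 (by rw [← hpq, e, zero_smul])), one_smul]

end Five

section Main

variable [Fintype F]

/-- Stabilisers of non-degenerate subspaces, stated for the larger summand. -/
theorem nondeg_maximal (h5 : 5 ≤ finrank F W) (hW2 : perp Q W ≠ ⊥)
    (hle : finrank F (perp Q W) ≤ finrank F W)
    (hex : ¬ (Fintype.card F ≤ 3 ∧ finrank F (perp Q W) = 2 ∧
      ∃ s ∈ perp Q W, s ≠ 0 ∧ Q s = 0))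
    (hiso : ∀ g ∈ isometryGroup F Q, W.map (act g) ≠ perp Q W) :
    Cfsg.Geo.IsMaximalIn (Cfsg.Geo.omegaGL Q) (Cfsg.Geo.subspaceStabilizer W ⊓ Cfsg.Geo.omegaGL Q) := by
  have hn : 5 ≤ Fintype.card ι := by
    have := (Submodule.finrank_le W).trans_eq (Module.finrank_pi F); omega
  refine isMaximalIn_inf (exists_sg_notMem_stab hQ hW h5 hn hW2) fun M hM hMK hout => ?_
  obtain ⟨g, hgM, hgS⟩ := hout
  have hgI := omega_le_iso (hMK hgM)
  have hS : ∀ u ∈ W, ∀ w ∈ W, sg Q u w ∈ M := by
    intro u hu w hw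
    by_cases h : Q u = 0 ∧ B u w = 0
    · refine hM ⟨mem_subspaceStabilizer_of_le fun y hy => ?_, sg_mem_omega hQ hn u w⟩
      rw [act_sg Q h.1 h.2]
      exact W.sub_mem (W.add_mem hy (W.smul_mem _ hw)) (W.smul_mem _ hu)
    · rw [sg_of_not Q h]; exact one_mem _
  -- a non-zero transfer
  obtain ⟨a, haT, ha0⟩ : ∃ a ∈ transferSet Q W M, a ≠ 0 := by
    by_contra hnone
    push Not at hnone
    have hno : NoTransfer Q W M := fun s hs hs0 hQs a ha h =>
      hnone a (mem_transferSet hQ hW h5 hS hs hs0 hQs ha h)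
    have main := fun {u : ι → F} (hu : u ∈ W) (hQu : Q u = 0) (hx : act g u ∉ W) =>
      move_to_perp hQ hW h5 hS hno hgM hgI hu hQu hx
    obtain ⟨u, hu, hQu, hx⟩ : ∃ u ∈ W, Q u = 0 ∧ act g u ∉ W := by
      by_contra hc
      push Not at hc
      exact hgS (mem_subspaceStabilizer_of_le
        (le_of_singular_le hQ hW (by omega) (N := W.comap (act g)) hc))
    have hu0 : u ≠ 0 := fun e => hx (by rw [e, map_zero]; exact W.zero_mem)
    obtain ⟨hgu, hperp⟩ := main hu hQu hx
    obtain ⟨z, hz, -, huz⟩ := exists_one_in hQ hW (P := ⊥) bot_le hu (by simpa using hu0)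
    obtain ⟨v, hv, hQv, huv⟩ := exists_partner Q hQu hu hz (by rw [huz]; exact one_ne_zero)
    have hgv : act g v ∈ perp Q W := by
      refine (main hv hQv fun h => ?_).1
      have := (mem_perp Q).1 hgu _ h
      rw [B_comm Q, B_act hgI, huv] at this
      exact one_ne_zero this
    refine hiso g hgI (Submodule.eq_of_le_of_finrank_le ?_ ?_)
    · rintro _ ⟨w, hw, rfl⟩
      have h1 := hperp (w - B u w • v) (W.sub_mem hw (W.smul_mem _ hv))
        (by rw [B_sub_right Q, B_smul_right Q, huv]; ring)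
      rw [map_sub, map_smul] at h1
      simpa using (perp Q W).add_mem h1 ((perp Q W).smul_mem (B u w) hgv)
    · rwa [finrank_map_act]
  -- the transfers form an invariant subspace
  let N : Submodule F (ι → F) := {
    carrier := transferSet Q W M
    add_mem' := fun ha hb => transferSet_add ha hb
    zero_mem' := ⟨(perp Q W).zero_mem, fun u _ _ => by rw [sg_zero]; exact one_mem _⟩
    smul_mem' := fun c _ ha => transferSet_smul c ha }
  have hNle : N ≤ perp Q W := fun y hy => hy.1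
  have hinv : ∀ h ∈ Cfsg.Geo.subspaceStabilizer W ⊓ Cfsg.Geo.omegaGL Q, ∀ y ∈ N, act h y ∈ N := by
    intro h hh y hy
    have hhI := omega_le_iso hh.2
    have hh' : h ∈ Cfsg.Geo.subspaceStabilizer (perp Q W) := ((stab_inf_omega_perp hQ hW).ge hh).1
    refine ⟨(mem_subspaceStabilizer.1 hh' y).1 hy.1, fun u hu hQu => ?_⟩
    have hu' : act h⁻¹ u ∈ W := (mem_subspaceStabilizer.1 hh.1 _).2 (by rwa [act_act_inv])
    have := mul_mem (mul_mem (hM hh) (hy.2 _ hu'
      (by rw [← Q_act hhI (act h⁻¹ u), act_act_inv, hQu]))) (inv_mem (hM hh))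
    rwa [conj_sg Q hhI, act_act_inv] at this
  suffices hN : perp Q W ≤ N by
    refine omega_le_of_transfer hQ hW h5 hS hn fun y hy => Submodule.subset_span (hN hy)
  have hW' := nonDeg_perp hQ hW
  rcases Nat.lt_or_ge (finrank F (perp Q W)) 3 with hlt | hge
  swap
  · have step : ∀ x ∈ N, ∀ s ∈ perp Q W, Q s = 0 → B s x = 0 → x ∉ F ∙ s → s ∈ N := by
      intro x hx s hs hQs hsx hxs
      obtain ⟨w, hw, hws, hxw⟩ := exists_one_in hQ hW' ((Submodule.span_singleton_le_iff_mem _ _).2 hs)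
        (hNle hx) hxs
      have hsw : B s w = 0 := hws s (Submodule.mem_span_singleton_self s)
      have h1 := hinv _ ⟨mem_subspaceStabilizer_of_le fun y hy => by
        rwa [act_sg_fix Q hQs hsw ((B_comm Q s y).trans (hs y hy)) ((B_comm Q w y).trans (hw y hy))],
        sg_mem_omega hQ hn s w⟩ x hx
      rw [act_sg Q hQs hsw, hsx, B_comm Q w x, hxw] at h1
      have h2 := N.sub_mem hx h1
      simpa using h2
    refine le_of_singular_le hQ hW' hge fun s hs hQs => ?_
    rcases eq_or_ne s 0 with rfl | hs0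
    · exact N.zero_mem
    by_cases has : a ∈ F ∙ s
    · obtain ⟨c, rfl⟩ := Submodule.mem_span_singleton.1 has
      have hc : c ≠ 0 := fun e => ha0 (by rw [e, zero_smul])
      simpa [smul_smul, inv_mul_cancel₀ hc] using N.smul_mem c⁻¹ (show c • s ∈ N from haT)
    rcases eq_or_ne (B s a) 0 with h0 | h0
    · exact step a haT s hs hQs h0 has
    obtain ⟨w, hw, hwP, hwE⟩ : ∃ w ∈ perp Q W, B s w = 0 ∧ w ∉ F ∙ s := by
      by_contra hc
      push Not at hc
      have h1 := Submodule.finrank_sup_add_finrank_inf_eq (perp Q W) (perp Q (F ∙ s))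
      have h2 : finrank F ↥(perp Q W ⊔ perp Q (F ∙ s)) ≤ Fintype.card ι :=
        (Submodule.finrank_le _).trans_eq (Module.finrank_pi F)
      rw [finrank_perp hQ (F ∙ s), finrank_span_singleton hs0] at h1
      have h3 : finrank F ↥(perp Q W ⊓ perp Q (F ∙ s)) ≤ 1 :=
        (Submodule.finrank_mono (fun w (hw : w ∈ perp Q W ⊓ perp Q (F ∙ s)) => hc w hw.1
          ((mem_perp Q).1 hw.2 s (Submodule.mem_span_singleton_self s)))).trans_eq (finrank_span_singleton hs0)
      omega
    have h1 := N.sub_mem (hinv _ ⟨mem_subspaceStabilizer_of_le fun y hy => by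
        rwa [act_sg_fix Q hQs hwP ((B_comm Q s y).trans (hs y hy)) ((B_comm Q w y).trans (hw y hy))],
        sg_mem_omega hQ hn s w⟩ a haT) (show a ∈ N from haT)
    rw [act_sg Q hQs hwP] at h1
    refine step _ h1 s hs hQs ?_ fun hm => hwE ?_
    · simp only [B_sub_right Q, B_add_right Q, B_smul_right Q, hwP, B_self_of_singular Q hQs]
      ring
    · obtain ⟨c, hc⟩ := Submodule.mem_span_singleton.1 hm
      refine Submodule.mem_span_singleton.2 ⟨(B s a)⁻¹ * (c + (B w a + Q w * B s a)), ?_⟩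
      rw [← smul_smul, add_smul, hc]
      match_scalars <;> field_simp <;> ring
  -- small complement
  have hpos : finrank F N ≤ finrank F (perp Q W) := Submodule.finrank_mono hNle
  have hN1 : 1 ≤ finrank F N := by
    rw [← finrank_span_singleton (K := F) ha0]
    exact Submodule.finrank_mono ((Submodule.span_singleton_le_iff_mem _ _).2 haT)
  rcases Nat.lt_or_ge (finrank F N) (finrank F (perp Q W)) with hlt' | hge'
  swap
  · exact (Submodule.eq_of_le_of_finrank_le hNle hge').ge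
  exfalso
  have hN : N = F ∙ a := (Submodule.eq_of_le_of_finrank_le
    ((Submodule.span_singleton_le_iff_mem _ _).2 haT) (by rw [finrank_span_singleton ha0]; omega)).symm
  obtain ⟨b, hb, hbN, hba, hQb⟩ : ∃ b ∈ perp Q W, b ∉ F ∙ a ∧ B b a ≠ 0 ∧ Q b ≠ 0 := by
    have hA : F ∙ a ≤ perp Q W := (Submodule.span_singleton_le_iff_mem _ _).2 haT.1
    obtain ⟨y, hy, -, hay⟩ := exists_one_in hQ hW' (P := ⊥) bot_le haT.1 (by simpa using ha0)
    have hya : B y a ≠ 0 := by rw [B_comm Q, hay]; exact one_ne_zero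
    obtain ⟨z, hz, hzA⟩ : ∃ z ∈ perp Q W, z ∉ F ∙ a := SetLike.not_le_iff_exists.1 fun h => by
      have := (Submodule.finrank_mono h).trans_eq (finrank_span_singleton ha0); omega
    by_cases hiso' : ∃ s ∈ perp Q W, s ≠ 0 ∧ Q s = 0
    · obtain ⟨s, hs, hs0, hQs⟩ := hiso'
      obtain ⟨t₀, ht₀, -, hst₀⟩ := exists_one_in hQ hW' (P := ⊥) bot_le hs (by simpa using hs0)
      obtain ⟨t, ht, hQt, hst⟩ := exists_partner Q hQs hs ht₀ (by rw [hst₀]; exact one_ne_zero)
      by_contra hc
      push Not at hc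
      have hq : ¬ Fintype.card F ≤ 3 := fun hq => hex ⟨hq, by omega, s, hs, hs0, hQs⟩
      classical
      have hcases : ∀ c : F, c ≠ 0 → s + c • t ∈ F ∙ a ∨ B (s + c • t) a = 0 := by
        intro c hc0
        by_contra h
        push Not at h
        refine hc0 ?_
        have := hc _ ((perp Q W).add_mem hs ((perp Q W).smul_mem c ht)) h.1 h.2
        rwa [Q_add Q, Q_smul Q, B_smul_right Q, hQs, hQt, hst, mul_zero, zero_add, zero_add, mul_one] at this
      have huniq1 : ∀ c d : F, s + c • t ∈ F ∙ a → s + d • t ∈ F ∙ a → c = d := by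
        intro c d h1 h2
        by_contra hne
        have h3 : (c - d) • t ∈ F ∙ a := by
          have := (F ∙ a).sub_mem h1 h2
          rwa [show s + c • t - (s + d • t) = (c - d) • t by module] at this
        have ht' : t ∈ F ∙ a := by
          simpa [smul_smul, inv_mul_cancel₀ (sub_ne_zero.2 hne)] using (F ∙ a).smul_mem (c - d)⁻¹ h3
        have hs' : s ∈ F ∙ a := by simpa using (F ∙ a).sub_mem h1 ((F ∙ a).smul_mem c ht')
        obtain ⟨α, rfl⟩ := Submodule.mem_span_singleton.1 hs'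
        obtain ⟨β, rfl⟩ := Submodule.mem_span_singleton.1 ht'
        have hα : α ≠ 0 := fun e => hs0 (by rw [e, zero_smul])
        rw [Q_smul Q, mul_eq_zero, mul_eq_zero, or_self] at hQs
        rw [B_smul_left Q, B_smul_right Q, B_self_of_singular Q (hQs.resolve_left hα)] at hst
        simp at hst
      have huniq2 : ∀ c d : F, B (s + c • t) a = 0 → B (s + d • t) a = 0 → c = d := by
        intro c d h1 h2
        by_contra hne
        rw [B_add_left Q, B_smul_left Q] at h1 h2
        have hta : B t a = 0 := by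
          have : (c - d) * B t a = 0 := by linear_combination h1 - h2
          exact (mul_eq_zero.1 this).resolve_left (sub_ne_zero.2 hne)
        have hsa : B s a = 0 := by rw [hta] at h1; linear_combination h1
        -- `s, t` span the plane
        have hspan : Submodule.span F (Set.range ![s, t]) = perp Q W := by
          refine Submodule.eq_of_le_of_finrank_le (Submodule.span_le.2 ?_) ?_
          · rintro _ ⟨i, rfl⟩; fin_cases i <;> assumption
          · have hli : LinearIndependent F ![s, t] := by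
              refine LinearIndependent.pair_iff.2 fun p r hpr => ?_
              have e1 := congrArg (B s) hpr
              have e2 := congrArg (B t) hpr
              simp only [B_add_right Q, B_smul_right Q, B_self_of_singular Q hQs, B_self_of_singular Q hQt,
                B_comm Q t s, hst, B_zero_right Q, mul_zero, mul_one, zero_add, add_zero] at e1 e2
              exact ⟨e2, e1⟩
            rw [finrank_span_eq_card hli, Fintype.card_fin]; omega
        have := (hspan.ge hy : y ∈ Submodule.span F (Set.range ![s, t]))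
        obtain ⟨p, r, rfl⟩ := mem_span_pair_iff_range.1 this
        rw [B_add_left Q, B_smul_left Q, B_smul_left Q, hsa, hta] at hya
        simp at hya
      have hcard : (Finset.univ.filter fun c : F => c ≠ 0).card ≤ 2 := by
        have hsub : (Finset.univ.filter fun c : F => c ≠ 0) ⊆
            (Finset.univ.filter fun c : F => s + c • t ∈ F ∙ a) ∪
              (Finset.univ.filter fun c : F => B (s + c • t) a = 0) := by
          intro c hc'
          simpa using hcases c (by simpa using hc')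
        refine (Finset.card_le_card hsub).trans ((Finset.card_union_le _ _).trans ?_)
        have c1 : (Finset.univ.filter fun c : F => s + c • t ∈ F ∙ a).card ≤ 1 :=
          Finset.card_le_one.2 fun x hx y hy => huniq1 x y (by simpa using hx) (by simpa using hy)
        have c2 : (Finset.univ.filter fun c : F => B (s + c • t) a = 0).card ≤ 1 :=
          Finset.card_le_one.2 fun x hx y hy => huniq2 x y (by simpa using hx) (by simpa using hy)
        omega
      rw [Finset.filter_ne', Finset.card_erase_of_mem (Finset.mem_univ _), Finset.card_univ] at hcard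
      omega
    · push Not at hiso'
      -- a vector outside two proper subspaces
      by_cases hyA : y ∈ F ∙ a
      · by_cases hza : B z a = 0
        · have hm : z + y ∉ F ∙ a := fun h => hzA (by simpa using (F ∙ a).sub_mem h hyA)
          exact ⟨z + y, (perp Q W).add_mem hz hy, hm, by rwa [B_add_left Q, hza, zero_add],
            hiso' _ ((perp Q W).add_mem hz hy) fun e => hm (by rw [e]; exact zero_mem _)⟩
        · exact ⟨z, hz, hzA, hza, hiso' z hz fun e => hzA (by rw [e]; exact zero_mem _)⟩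
      · exact ⟨y, hy, hyA, hya, hiso' y hy fun e => hyA (by rw [e]; exact zero_mem _)⟩
  obtain ⟨s, hs, t, ht, hQs, hQt, hst⟩ := exists_pair_in hQ hW (by omega)
  have h1 := hinv _ (refl_pair_mem hQ hW hn (W.add_mem hs (W.smul_mem (Q b) ht)) hb
    (by rw [Q_add Q, Q_smul Q, B_smul_right Q, hQs, hQt, hst]; ring) hQb) a haT
  rw [act_mul, act_refl Q hQb, map_sub, map_smul] at h1
  have hQh : Q (s + Q b • t) = Q b := by rw [Q_add Q, Q_smul Q, B_smul_right Q, hQs, hQt, hst]; ring
  have hfix : ∀ y ∈ perp Q W, act (refl Q (s + Q b • t)) y = y := fun y hy =>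
    act_refl_fix Q (by rwa [hQh]) (hy _ (W.add_mem hs (W.smul_mem _ ht)))
  rw [hfix a haT.1, hfix b hb, hN] at h1
  apply hbN
  have h2 := (F ∙ a).sub_mem (Submodule.mem_span_singleton_self a) h1
  rw [sub_sub_cancel] at h2
  have h3 := (F ∙ a).smul_mem ((Q b)⁻¹ * B b a)⁻¹ h2
  rwa [smul_smul, inv_mul_cancel₀ (mul_ne_zero (inv_ne_zero hQb) hba), one_smul] at h3

end Main

end Cfsg.Agent.MaxCl.Orth.Small
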