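/-
Stabilisers of non-degenerate four-spaces with a three-dimensional complement are maximal in `omegaGL`, odd
characteristic.

Both summands contain singular vectors, so one Siegel element between them, conjugated by those supported on either
summand, gives a whole root group. Without such an element, the image of a singular vector of the four-space lies in
one of the summands.
-/
import Cfsg.Agent.Lib.MaxCl.Small.OrthNondegFive
import Cfsg.Agent.Lib.MaxCl.OrthSubfield

set_option autoImplicit false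

namespace Cfsg.Agent.MaxCl.Orth.Small

open scoped MatrixGroups Matrix
open Module (finrank)

variable {ι : Type} [Fintype ι] [DecidableEq ι] {F : Type*} [Field F] {Q : QuadraticForm F (ι → F)}

set_option quotPrecheck false in
local notation "B" => QuadraticMap.polar (⇑Q)

variable [Finite F] (hQ : (QuadraticMap.polarBilin Q).Nondegenerate) {W : Submodule F (ι → F)} (hW : NonDeg Q W)
include hQ hW

/-- A nonsingular vector of `W` orthogonal to a hyperbolic pair. -/
theorem exists_middle (h3 : 3 ≤ finrank F W) {s t : ι → F} (hs : s ∈ W) (ht : t ∈ W) (hQs : Q s = 0) (hQt : Q t = 0)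
    (hst : B s t = 1) : ∃ w ∈ W, B s w = 0 ∧ B t w = 0 ∧ Q w ≠ 0 := by
  by_contra hno
  push Not at hno
  set D := W ⊓ perp Q (Submodule.span F (Set.range ![s, t])) with hDdef
  have hmem : ∀ w ∈ D, w ∈ W ∧ B s w = 0 ∧ B t w = 0 := fun w hw =>
    ⟨hw.1, hw.2 s (Submodule.subset_span ⟨0, rfl⟩), hw.2 t (Submodule.subset_span ⟨1, rfl⟩)⟩
  have hzero : ∀ a ∈ D, a = 0 := by
    intro a ha
    refine hW a ha.1 fun y hy => ?_
    set y' := y - B t y • s - B s y • t with hy'
    have hy'D : y' ∈ D := by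
      refine ⟨W.sub_mem (W.sub_mem hy (W.smul_mem _ hs)) (W.smul_mem _ ht), (mem_perp_span Q).2 ?_⟩
      rintro _ ⟨i, rfl⟩
      fin_cases i
      · show B s y' = 0
        rw [hy', B_sub_right Q, B_sub_right Q, B_smul_right Q, B_smul_right Q, B_self_of_singular Q hQs, hst]; ring
      · show B t y' = 0
        rw [hy', B_sub_right Q, B_sub_right Q, B_smul_right Q, B_smul_right Q, B_self_of_singular Q hQt,
          B_comm Q t s, hst]; ring
    have h0 : B a y' = 0 := by
      have e := Q_add Q a y'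
      rw [hno _ (D.add_mem ha hy'D).1 (hmem _ (D.add_mem ha hy'D)).2.1 (hmem _ (D.add_mem ha hy'D)).2.2,
        hno _ ha.1 (hmem _ ha).2.1 (hmem _ ha).2.2, hno _ hy'D.1 (hmem _ hy'D).2.1 (hmem _ hy'D).2.2] at e
      linear_combination -e
    rw [hy', B_sub_right Q, B_sub_right Q, B_smul_right Q, B_smul_right Q, B_comm Q a s, (hmem a ha).2.1,
      B_comm Q a t, (hmem a ha).2.2] at h0
    linear_combination h0
  have h1 := finrank_inf_perp_ge hQ W (Submodule.span F (Set.range ![s, t]))
  have h2 := finrank_span_list_le ![s, t]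
  rw [← hDdef, show finrank F D = 0 from Submodule.finrank_eq_zero.2 ((Submodule.eq_bot_iff _).2 hzero)] at h1
  omega

/-- One Siegel element between two summands that both carry their root elements generates everything. -/
theorem omega_le_of_between (hn : 5 ≤ Fintype.card ι) (h2 : (2 : F) ≠ 0) (h3 : 3 ≤ finrank F W)
    (h3' : 3 ≤ finrank F (perp Q W)) {M : Subgroup (GL ι F)} (hS : ∀ u ∈ W, ∀ w ∈ W, sg Q u w ∈ M)
    (hS' : ∀ u ∈ perp Q W, ∀ w ∈ perp Q W, sg Q u w ∈ M) {s a : ι → F} (hs : s ∈ W) (hs0 : s ≠ 0)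
    (hQs : Q s = 0) (ha : a ∈ perp Q W) (ha0 : a ≠ 0) (hmem : sg Q s a ∈ M) : Cfsg.Geo.omegaGL Q ≤ M := by
  have hP := nonDeg_perp hQ hW
  have hsP : ∀ p ∈ perp Q W, B s p = 0 := fun p hp => orth hp hs
  have hPs : ∀ p ∈ perp Q W, B p s = 0 := fun p hp => (B_comm Q p s).trans (hsP p hp)
  -- singular vectors of the complement not orthogonal to a parameter are parameters with all scalars
  have step : ∀ n ∈ perp Q W, sg Q s n ∈ M → ∀ v ∈ perp Q W, Q v = 0 → B v n ≠ 0 →
      ∀ c : F, sg Q s (c • v) ∈ M := by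
    intro n hn' hnm v hv hQv hvn
    obtain ⟨z, hz, -, hvz⟩ := exists_one_in hQ hP (P := ⊥) bot_le hv
      (by simpa using fun e : v = 0 => hvn (by rw [e, B_zero_left Q]))
    obtain ⟨t, ht, hQt, hvt⟩ := exists_partner Q hQv hv hz (by rw [hvz]; exact one_ne_zero)
    obtain ⟨w, hw, hvw, -, hQw⟩ := exists_middle hQ hP h3' hv ht hQv hQt hvt
    have hY : ∀ c : F, sg Q s ((c * B v n) • w - (c * B w n + c * c * Q w * B v n) • v) ∈ M := by
      intro c
      have hvcw : B v (c • w) = 0 := by rw [B_smul_right Q, hvw, mul_zero]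
      have hfix : act (sg Q v (c • w)) s = s :=
        act_sg_fix Q hQv hvcw (hPs v hv) (by rw [B_smul_left Q, hPs w hw, mul_zero])
      have hd := (sg_diff_mem (sg_mem_iso Q v (c • w)) (hS' v hv _ ((perp Q W).smul_mem c hw)) hQs (hsP n hn') hnm
        hfix).2
      convert hd using 2
      rw [act_sg Q hQv hvcw, B_smul_left Q, Q_smul Q]
      module
    set K := -(2 * Q w * B v n) with hK
    have hK0 : K ≠ 0 := neg_ne_zero.2 (mul_ne_zero (mul_ne_zero h2 hQw) hvn)
    have hsq : ∀ c : F, sg Q s ((c * c * K) • v) ∈ M := by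
      intro c
      have hmm := mul_mem (hY c) (hY (-c))
      have hB : ∀ c : F, B s ((c * B v n) • w - (c * B w n + c * c * Q w * B v n) • v) = 0 := fun c => by
        rw [B_sub_right Q, B_smul_right Q, B_smul_right Q, hsP w hw, hsP v hv]; ring
      rw [sg_add Q hQs (hB _) (hB _)] at hmm
      convert hmm using 2
      rw [hK]
      module
    intro c
    have hB : ∀ c : F, B s (c • v) = 0 := fun c => by rw [B_smul_right Q, hsP v hv, mul_zero]
    have key := mul_mem (hsq ((c / K + 1) / 2)) (inv_mem (hsq ((c / K - 1) / 2)))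
    rw [← sg_neg Q hQs (hB _), sg_add Q hQs (hB _) (by rw [B_neg_right Q, hB, neg_zero]), ← neg_smul, ← add_smul]
      at key
    convert key using 3
    field_simp
    ring
  have hall : ∀ v ∈ perp Q W, Q v = 0 → ∀ c : F, sg Q s (c • v) ∈ M := by
    intro v hv hQv
    rcases eq_or_ne v 0 with rfl | hv0
    · intro c; rw [smul_zero, sg_zero]; exact one_mem _
    by_cases hva : B v a ≠ 0
    · exact step a ha hmem v hv hQv hva
    push Not at hva
    obtain ⟨z, hz, -, hvz⟩ := exists_one_in hQ hP (P := ⊥) bot_le hv (by simpa using hv0)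
    obtain ⟨t, ht, hQt, hvt⟩ := exists_partner Q hQv hv hz (by rw [hvz]; exact one_ne_zero)
    by_cases hta : B t a ≠ 0
    · refine step t ht ?_ v hv hQv (by rw [hvt]; exact one_ne_zero)
      simpa using step a ha hmem t ht hQt hta 1
    push Not at hta
    have hout : a ∉ Submodule.span F (Set.range ![v, t]) := by
      intro h
      obtain ⟨p, r, hpr⟩ := mem_span_pair_iff_range.1 h
      have e1 := hva
      have e2 := hta
      rw [← hpr, B_add_right Q, B_smul_right Q, B_smul_right Q, B_self_of_singular Q hQv, hvt] at e1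
      rw [← hpr, B_add_right Q, B_smul_right Q, B_smul_right Q, B_self_of_singular Q hQt, B_comm Q t v, hvt] at e2
      simp only [mul_zero, mul_one, zero_add, add_zero] at e1 e2
      exact ha0 (by rw [← hpr, e1, e2]; simp)
    obtain ⟨w, hw, hwP, haw⟩ := exists_one_in hQ hP
      (Submodule.span_le.2 (by rintro _ ⟨i, rfl⟩; fin_cases i <;> assumption)) ha hout
    have hvw : B v w = 0 := hwP v (Submodule.subset_span ⟨0, rfl⟩)
    have htw : B t w = 0 := hwP t (Submodule.subset_span ⟨1, rfl⟩)
    set r := t + w - Q w • v with hr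
    have hrP : r ∈ perp Q W := (perp Q W).sub_mem ((perp Q W).add_mem ht hw) ((perp Q W).smul_mem _ hv)
    have hQr : Q r = 0 := by
      rw [hr, Q_sub Q, Q_add Q, Q_smul Q, B_smul_right Q, B_add_left Q, hQt, hQv, htw, B_comm Q t v, hvt,
        B_comm Q w v, hvw]
      ring
    have hra : B r a ≠ 0 := by
      rw [hr, B_sub_left Q, B_add_left Q, B_smul_left Q, hta, hva, B_comm Q w a, haw]
      simp
    refine step r hrP ?_ v hv hQv ?_
    · simpa using step a ha hmem r hrP hQr hra 1
    · rw [hr, B_sub_right Q, B_add_right Q, B_smul_right Q, hvt, hvw, B_self_of_singular Q hQv]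
      simp
  let N : Submodule F (ι → F) :=
    { carrier := {p | p ∈ perp Q W ∧ ∀ c : F, sg Q s (c • p) ∈ M}
      add_mem' := fun {p q} hp hq => ⟨(perp Q W).add_mem hp.1 hq.1, fun c => by
        rw [smul_add, ← sg_add Q hQs (by rw [B_smul_right Q, hsP p hp.1, mul_zero])
          (by rw [B_smul_right Q, hsP q hq.1, mul_zero])]
        exact mul_mem (hp.2 c) (hq.2 c)⟩
      zero_mem' := ⟨(perp Q W).zero_mem, fun c => by rw [smul_zero, sg_zero]; exact one_mem _⟩
      smul_mem' := fun d p hp => ⟨(perp Q W).smul_mem d hp.1, fun c => by rw [smul_smul]; exact hp.2 _⟩ }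
  have hN : perp Q W ≤ N := le_of_singular_le hQ hP h3' fun v hv hQv => ⟨hv, hall v hv hQv⟩
  have hfull : Full Q M s := by
    intro w hw
    obtain ⟨w₁, hw₁, w₂, hw₂, rfl⟩ := exists_split hQ hW w
    have h2' : B s w₂ = 0 := hsP w₂ hw₂
    have h1 : B s w₁ = 0 := by rw [B_add_right Q, h2', add_zero] at hw; exact hw
    rw [← sg_add Q hQs h1 h2']
    exact mul_mem (hS s hs w₁ hw₁) (by simpa using (hN hw₂).2 1)
  obtain ⟨z, hz, -, hsz⟩ := exists_one_in hQ hW (P := ⊥) bot_le hs (by simpa using hs0)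
  obtain ⟨t, ht, hQt, hst⟩ := exists_partner Q hQs hs hz (by rw [hsz]; exact one_ne_zero)
  obtain ⟨w, hw, hsw, htw, hQw⟩ := exists_middle hQ hW h3 hs ht hQs hQt hst
  have hgI := sg_mem_iso Q t w
  refine omega_le_of_full hQ hn hQs (by rw [Q_act hgI, hQs]) ?_ hfull (hfull.act (hS t ht w hw) hgI)
  rw [act_sg Q hQt htw, B_comm Q t s, hst, B_comm Q w s, hsw, B_sub_right Q, B_add_right Q, B_smul_right Q,
    B_smul_right Q, B_self_of_singular Q hQs, hsw, hst]
  simpa using hQw

/-- The stabiliser of a non-degenerate four-space with three-dimensional complement is maximal. -/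
theorem four_three_maximal (h2 : (2 : F) ≠ 0) (h4 : finrank F W = 4) (h3' : finrank F (perp Q W) = 3) :
    Cfsg.Geo.IsMaximalIn (Cfsg.Geo.omegaGL Q) (Cfsg.Geo.subspaceStabilizer W ⊓ Cfsg.Geo.omegaGL Q) := by
  haveI := Fintype.ofFinite F
  have hn : 5 ≤ Fintype.card ι := by
    have h := finrank_perp hQ W
    omega
  have hP := nonDeg_perp hQ hW
  refine isMaximalIn_inf ?_ fun M hM hMK hout => ?_
  · obtain ⟨a, ha, ha0⟩ := Submodule.exists_mem_ne_zero_of_ne_bot
      (p := perp Q W) (fun e => by rw [e, finrank_bot] at h3'; omega)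
    obtain ⟨s, hs, t, ht, hQs, -, hst⟩ := exists_pair_in hQ hW (by omega)
    refine ⟨sg Q s a, sg_mem_omega hQ hn s a, fun h => ha0 ?_⟩
    have h1 := (mem_subspaceStabilizer.1 h t).1 ht
    rw [act_sg Q hQs (orth ha hs), hst, B_comm Q a t, orth ha ht] at h1
    have : a ∈ W := by
      have e : a = (t + (1 : F) • a - (0 + Q a * 1) • s) - t + Q a • s := by module
      rw [e]; exact W.add_mem (W.sub_mem h1 ht) (W.smul_mem _ hs)
    exact (Submodule.eq_bot_iff _).1 (inf_perp hW) a ⟨this, ha⟩
  obtain ⟨g, hgM, hgS⟩ := hout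
  have hgI := omega_le_iso (hMK hgM)
  have hside : ∀ (X : Submodule F (ι → F)), Cfsg.Geo.subspaceStabilizer X ⊓ Cfsg.Geo.omegaGL Q ≤ M →
      ∀ u ∈ X, ∀ w ∈ X, sg Q u w ∈ M := by
    intro X hX u hu w hw
    by_cases h : Q u = 0 ∧ B u w = 0
    · refine hX ⟨mem_subspaceStabilizer_of_le fun y hy => ?_, sg_mem_omega hQ hn u w⟩
      rw [act_sg Q h.1 h.2]
      exact X.sub_mem (X.add_mem hy (X.smul_mem _ hw)) (X.smul_mem _ hu)
    · rw [sg_of_not Q h]; exact one_mem _
  have hS := hside W hM
  have hS' := hside (perp Q W) ((stab_inf_omega_perp hQ hW).le.trans hM)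
  by_cases hno : NoTransfer Q W M
  swap
  · simp only [NoTransfer, not_forall] at hno
    obtain ⟨s, hs, hs0, hQs, a, ha, hm, ha0⟩ := hno
    exact omega_le_of_between hQ hW hn h2 (by omega) (by omega) hS hS' hs hs0 hQs ha ha0 hm
  by_cases hno' : NoTransfer Q (perp Q W) M
  swap
  · simp only [NoTransfer, not_forall] at hno'
    obtain ⟨s, hs, hs0, hQs, a, ha, hm, ha0⟩ := hno'
    exact omega_le_of_between hQ hP hn h2 (by omega) (by rw [perp_perp hQ]; omega) hS'
      (by rw [perp_perp hQ]; exact hS) hs hs0 hQs ha ha0 hm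
  exfalso
  -- the image of a singular vector of `W` lies in one of the summands
  have main : ∀ u ∈ W, Q u = 0 → act g u ∈ W ∨ act g u ∈ perp Q W := by
    intro u hu hQu
    rcases eq_or_ne u 0 with rfl | hu0
    · exact Or.inl (by rw [map_zero]; exact W.zero_mem)
    refine or_iff_not_imp_left.2 fun hx => ?_
    set x := act g u with hxdef
    have hQx : Q x = 0 := by rw [hxdef, Q_act hgI, hQu]
    obtain ⟨x₁, hx₁, x₂, hx₂, hxe⟩ := exists_split hQ hW x
    have hx20 : x₂ ≠ 0 := fun e => hx (by rw [hxe, e, add_zero]; exact hx₁)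
    rcases eq_or_ne x₁ 0 with rfl | hx10
    · rw [hxe, zero_add]; exact hx₂
    exfalso
    have hWW' : ∀ p ∈ W, ∀ q ∈ perp Q W, B q p = 0 := fun p hp q hq => (B_comm Q q p).trans (orth hq hp)
    have hxW : ∀ s ∈ W, B x s = B x₁ s := fun s hs => by rw [hxe, B_add_left Q, hWW' s hs x₂ hx₂, add_zero]
    have hxx2 : B x x₂ = 2 * Q x₂ := by rw [hxe, B_add_left Q, orth hx₂ hx₁, zero_add, B_self Q]
    set G0 := (W ⊓ perp Q (F ∙ u)).map (act g) with hG0
    have hG0ge : 3 ≤ finrank F G0 := by
      have h1 := finrank_inf_perp_ge hQ W (F ∙ u)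
      rw [finrank_span_singleton hu0] at h1
      rw [hG0, finrank_map_act]; omega
    have hG0le : finrank F G0 ≤ 3 := by
      rw [hG0, finrank_map_act]
      by_contra hc
      have he : W ⊓ perp Q (F ∙ u) = W := Submodule.eq_of_le_of_finrank_le inf_le_left (by omega)
      exact hu0 (hW u hu fun y hy => (he.ge hy).2 u (Submodule.mem_span_singleton_self u))
    have hxG : x ∈ G0 := by
      refine ⟨u, ⟨hu, fun w hw => ?_⟩, rfl⟩
      obtain ⟨c, rfl⟩ := Submodule.mem_span_singleton.1 hw
      show B (c • u) u = 0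
      rw [B_smul_left Q, B_self_of_singular Q hQu, mul_zero]
    have L : ∀ b ∈ G0, B x b = 0 ∧ sg Q x b ∈ M := by
      rintro _ ⟨b₀, ⟨hb₀, hub⟩, rfl⟩
      have h0 : B u b₀ = 0 := hub u (Submodule.mem_span_singleton_self u)
      refine ⟨by rw [hxdef, B_act hgI, h0], ?_⟩
      have := mul_mem (mul_mem hgM (hS u hu b₀ hb₀)) (inv_mem hgM)
      rwa [conj_sg Q hgI] at this
    have hslice : ∀ s : ι → F, s ≠ 0 → ∃ b ∈ G0, B s b = 0 ∧ b ∉ F ∙ x := by
      intro s hs0
      by_contra hc
      push Not at hc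
      have h1 := finrank_inf_perp_ge hQ G0 (F ∙ s)
      have h2' : finrank F ↥(G0 ⊓ perp Q (F ∙ s)) ≤ 1 :=
        (Submodule.finrank_mono fun b (hb : b ∈ G0 ⊓ perp Q (F ∙ s)) =>
          hc b hb.1 (hb.2 s (Submodule.mem_span_singleton_self s))).trans_eq
            (finrank_span_singleton fun e : x = 0 => hu0 (act_injective g (e.trans (map_zero _).symm)))
      rw [finrank_span_singleton hs0] at h1
      omega
    have hin : ∀ s ∈ W, Q s = 0 → B x₁ s = 0 → s ∉ F ∙ x₁ → s ∈ G0 := by
      intro s hs hQs hx1s hsx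
      have hs0 : s ≠ 0 := fun e => hsx (by rw [e]; exact Submodule.zero_mem _)
      obtain ⟨b, hbG, hsb, hbx⟩ := hslice s hs0
      obtain ⟨hxb, hr⟩ := L b hbG
      obtain ⟨b₁, hb₁, b₂, hb₂, hbe⟩ := exists_split hQ hW b
      have hb1s : B b₁ s = 0 := by
        rwa [B_comm Q, hbe, B_add_left Q, hWW' s hs b₂ hb₂, add_zero] at hsb
      have hxs : x₁ ∉ F ∙ s := fun h => hsx (by
        obtain ⟨c, hc⟩ := Submodule.mem_span_singleton.1 h
        exact Submodule.mem_span_singleton.2 ⟨c⁻¹, by
          rw [← hc, smul_smul, inv_mul_cancel₀ (fun e => hx10 (by rw [← hc, e, zero_smul])), one_smul]⟩)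
      obtain ⟨α, β, e⟩ := (confine hQ hW hS hno hQx hxb hr hx₁ hx₂ hxe hb₁ hb₂ hbe hx20 hs hs0 hQs hx1s hb1s).2
        hxs
      have hBxs : B x s = 0 := (hxW s hs).trans hx1s
      have hQb : Q b = 0 := by
        rcases eq_or_ne (Q x₂) 0 with hq | hq
        · rw [e]
          simp only [Q_add Q, Q_smul Q, B_add_left Q, B_smul_left Q, B_smul_right Q, hQs, hQx, hq,
            B_comm Q s x, hBxs, B_comm Q s x₂, hWW' s hs x₂ hx₂, hxx2]
          ring
        · rw [e, B_add_right Q, B_add_right Q, B_smul_right Q, B_smul_right Q, B_smul_right Q, hBxs,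
            B_self_of_singular Q hQx, hxx2] at hxb
          have : Q b * (2 * Q x₂) = 0 := by linear_combination hxb
          exact (mul_eq_zero.1 this).resolve_right (mul_ne_zero h2 hq)
      rw [hQb, zero_smul, add_zero] at e
      have hα : α ≠ 0 := fun h => hbx (Submodule.mem_span_singleton.2 ⟨β, by rw [e, h, zero_smul, zero_add]⟩)
      have hαs : α • s ∈ G0 := by
        rw [show α • s = b - β • x by rw [e, add_sub_cancel_right]]
        exact G0.sub_mem hbG (G0.smul_mem _ hxG)
      simpa [smul_smul, inv_mul_cancel₀ hα] using G0.smul_mem α⁻¹ hαs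
    by_cases hex : ∃ s ∈ W, Q s = 0 ∧ B x₁ s = 0 ∧ s ∉ F ∙ x₁
    · obtain ⟨s, hs, hQs, hx1s, hsx⟩ := hex
      obtain ⟨z, hz, hzx, hsz⟩ := exists_one_in hQ hW ((Submodule.span_singleton_le_iff_mem _ _).2 hx₁) hs hsx
      have hx1z : B x₁ z = 0 := hzx x₁ (Submodule.mem_span_singleton_self x₁)
      set t := z - Q z • s with ht
      have htW : t ∈ W := W.sub_mem hz (W.smul_mem _ hs)
      have hQt : Q t = 0 := by rw [ht, Q_sub Q, Q_smul Q, B_smul_right Q, hQs, B_comm Q z s, hsz]; ring
      have hst : B s t = 1 := by rw [ht, B_sub_right Q, B_smul_right Q, hsz, B_self_of_singular Q hQs]; ring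
      have hx1t : B x₁ t = 0 := by rw [ht, B_sub_right Q, B_smul_right Q, hx1z, hx1s]; ring
      have hoff : ∀ r : ι → F, B r t = 1 → r ∉ F ∙ x₁ := fun r hr h => by
        obtain ⟨c, rfl⟩ := Submodule.mem_span_singleton.1 h
        rw [B_smul_left Q, hx1t, mul_zero] at hr
        exact zero_ne_one hr
      have htG : t ∈ G0 := hin t htW hQt hx1t fun h => by
        obtain ⟨c, hc⟩ := Submodule.mem_span_singleton.1 h
        have e := hst
        rw [← hc, B_smul_right Q, B_comm Q s x₁, hx1s, mul_zero] at e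
        exact zero_ne_one e
      obtain ⟨w, hw, hw0⟩ := Submodule.exists_mem_ne_zero_of_ne_bot
        (p := W ⊓ perp Q (Submodule.span F (Set.range ![x₁, s, t]))) (fun e => by
          have h1 := finrank_inf_perp_ge hQ W (Submodule.span F (Set.range ![x₁, s, t]))
          have h2' := finrank_span_list_le ![x₁, s, t]
          rw [e, finrank_bot] at h1
          omega)
      have hx1w : B x₁ w = 0 := hw.2 x₁ (Submodule.subset_span ⟨0, rfl⟩)
      have hsw : B s w = 0 := hw.2 s (Submodule.subset_span ⟨1, rfl⟩)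
      have htw : B t w = 0 := hw.2 t (Submodule.subset_span ⟨2, rfl⟩)
      set r := s + w - Q w • t with hr
      have hrG : r ∈ G0 := hin r (W.sub_mem (W.add_mem hs hw.1) (W.smul_mem _ htW))
        (by rw [hr, Q_sub Q, Q_add Q, Q_smul Q, B_smul_right Q, B_add_left Q, hQs, hQt, hsw, hst, B_comm Q w t,
              htw]; ring)
        (by rw [hr, B_sub_right Q, B_add_right Q, B_smul_right Q, hx1s, hx1w, hx1t]; ring)
        (hoff r (by rw [hr, B_sub_left Q, B_add_left Q, B_smul_left Q, hst, B_comm Q w t, htw,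
              B_self_of_singular Q hQt]; ring))
      have hwG : w ∈ G0 := by
        rw [show w = r - s + Q w • t by rw [hr]; abel]
        exact G0.add_mem (G0.sub_mem hrG (hin s hs hQs hx1s hsx)) (G0.smul_mem _ htG)
      have hli : LinearIndependent F ![x, s, t, w] := by
        rw [Fintype.linearIndependent_iff]
        intro c hc
        rw [Fin.sum_univ_four] at hc
        simp only [Matrix.cons_val] at hc
        have hc0 : c 0 = 0 := by
          by_contra h
          refine hx ?_
          have : c 0 • x ∈ W := by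
            rw [show c 0 • x = -(c 1 • s + c 2 • t + c 3 • w) from eq_neg_of_add_eq_zero_left (by rw [← hc]; abel)]
            exact W.neg_mem (W.add_mem (W.add_mem (W.smul_mem _ hs) (W.smul_mem _ htW)) (W.smul_mem _ hw.1))
          simpa [smul_smul, inv_mul_cancel₀ h] using W.smul_mem (c 0)⁻¹ this
        rw [hc0, zero_smul, zero_add] at hc
        have e1 := congrArg (B s) hc
        have e2 := congrArg (B t) hc
        simp only [B_add_right Q, B_smul_right Q, B_zero_right Q, B_self_of_singular Q hQs,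
          B_self_of_singular Q hQt, hst, hsw, htw, B_comm Q t s, mul_zero, mul_one, zero_add, add_zero] at e1 e2
        rw [e1, e2, zero_smul, zero_smul, zero_add, zero_add] at hc
        intro i
        fin_cases i
        exacts [hc0, e2, e1, (smul_eq_zero.1 hc).resolve_right hw0]
      have hsG := hin s hs hQs hx1s hsx
      have hle4 : Submodule.span F (Set.range ![x, s, t, w]) ≤ G0 :=
        Submodule.span_le.2 (by rintro _ ⟨i, rfl⟩; fin_cases i <;> assumption)
      have h4' := Submodule.finrank_mono hle4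
      rw [finrank_span_eq_card hli, Fintype.card_fin] at h4'
      omega
    push Not at hex
    -- no other singular vector of `W` is orthogonal to `x₁`
    obtain ⟨s, hs, hsP, hs0, hQs⟩ := exists_singular_in hQ (W := W) (P := F ∙ x₁) (E := ⊥)
      (by rw [finrank_span_singleton hx10, finrank_bot]; omega)
    obtain ⟨c, rfl⟩ := Submodule.mem_span_singleton.1 (hex s hs hQs (hsP x₁ (Submodule.mem_span_singleton_self x₁)))
    rw [Submodule.mem_bot] at hs0
    have hQx1 : Q x₁ = 0 := by
      rw [Q_smul Q] at hQs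
      exact (mul_eq_zero.1 hQs).resolve_left (mul_ne_zero (fun e => hs0 (by rw [e, zero_smul]))
        fun e => hs0 (by rw [e, zero_smul]))
    have hQx2 : Q x₂ = 0 := by
      rw [hxe, Q_add Q, hQx1, orth hx₂ hx₁] at hQx
      linear_combination hQx
    have hW2 : ∀ p ∈ W, p ∈ perp Q (perp Q W) := fun p hp => by rwa [perp_perp hQ]
    have hsub : ∀ b ∈ G0 ⊓ perp Q (F ∙ x₁), b ∈ Submodule.span F (Set.range ![x₁, x₂]) := by
      rintro b ⟨hbG, hbx⟩
      obtain ⟨hxb, hr⟩ := L b hbG
      obtain ⟨b₁, hb₁, b₂, hb₂, hbe⟩ := exists_split hQ hW b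
      have hb1x : B b₁ x₁ = 0 := by
        have : B x₁ b = 0 := hbx x₁ (Submodule.mem_span_singleton_self x₁)
        rwa [B_comm Q, hbe, B_add_left Q, hWW' x₁ hx₁ b₂ hb₂, add_zero] at this
      have hb2x : B b₂ x₂ = 0 := by
        rw [hxe, hbe, B_add_left Q, B_add_right Q, B_add_right Q, B_comm Q x₁ b₁, hb1x, orth hb₂ hx₁,
          hWW' b₁ hb₁ x₂ hx₂, B_comm Q x₂ b₂] at hxb
        linear_combination hxb
      have e1 := (confine hQ hW hS hno hQx hxb hr hx₁ hx₂ hxe hb₁ hb₂ hbe hx20 hx₁ hx10 hQx1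
        (B_self_of_singular Q hQx1) hb1x).1
      have e2 := (confine hQ hP hS' hno' hQx hxb hr hx₂ (hW2 _ hx₁) (hxe.trans (add_comm _ _)) hb₂ (hW2 _ hb₁)
        (hbe.trans (add_comm _ _)) hx10 hx₂ hx20 hQx2 (B_self_of_singular Q hQx2) hb2x).1
      obtain ⟨p, q, hpq⟩ := mem_span_pair_iff_range.1 e1
      obtain ⟨p', q', hpq'⟩ := mem_span_pair_iff_range.1 e2
      exact mem_span_pair_iff_range.2 ⟨p + q, p' + q', by rw [hbe, ← hpq, ← hpq']; module⟩
    have hU : ∀ y ∈ Submodule.span F (Set.range ![x₁, x₂]), Q y = 0 := by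
      intro y hy
      obtain ⟨p, q, rfl⟩ := mem_span_pair_iff_range.1 hy
      rw [Q_add Q, Q_smul Q, Q_smul Q, B_smul_left Q, B_smul_right Q, hQx1, hQx2, orth hx₂ hx₁]; ring
    set U := (G0 ⊓ perp Q (F ∙ x₁)).map (act g⁻¹) with hUdef
    have hUdim : 2 ≤ finrank F U := by
      have h1 := finrank_inf_perp_ge hQ G0 (F ∙ x₁)
      rw [finrank_span_singleton hx10] at h1
      rw [hUdef, finrank_map_act]; omega
    have hUmem : ∀ y ∈ U, y ∈ W ∧ Q y = 0 := by
      rintro _ ⟨b, hb, rfl⟩
      obtain ⟨b₀, hb₀, rfl⟩ := hb.1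
      rw [act_inv_act]
      exact ⟨hb₀.1, by rw [← Q_act hgI, hU _ (hsub _ hb)]⟩
    have h1 := finrank_inf_perp_ge hQ U (F ∙ x₁)
    rw [finrank_span_singleton hx10] at h1
    by_cases hxU : x₁ ∈ U
    · have hUx : U ≤ F ∙ x₁ := fun y hy => hex y (hUmem y hy).1 (hUmem y hy).2 (by
        have := Q_add Q x₁ y
        rw [(hUmem _ (U.add_mem hxU hy)).2, (hUmem y hy).2, hQx1] at this
        linear_combination -this)
      have := (Submodule.finrank_mono hUx).trans_eq (finrank_span_singleton hx10)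
      omega
    · obtain ⟨y, hy, hy0⟩ := Submodule.exists_mem_ne_zero_of_ne_bot (p := U ⊓ perp Q (F ∙ x₁))
        (fun e => by rw [e, finrank_bot] at h1; omega)
      obtain ⟨c, rfl⟩ := Submodule.mem_span_singleton.1
        (hex y (hUmem y hy.1).1 (hUmem y hy.1).2 (hy.2 x₁ (Submodule.mem_span_singleton_self x₁)))
      have hc : c ≠ 0 := fun e => hy0 (by rw [e, zero_smul])
      exact hxU (by simpa [smul_smul, inv_mul_cancel₀ hc] using U.smul_mem c⁻¹ hy.1)
  obtain ⟨u, hu, hQu, hx⟩ : ∃ u ∈ W, Q u = 0 ∧ act g u ∉ W := by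
    by_contra hc
    push Not at hc
    exact hgS (mem_subspaceStabilizer_of_le (le_of_singular_le hQ hW (by omega) (N := W.comap (act g)) hc))
  have hu0 : u ≠ 0 := fun e => hx (by rw [e, map_zero]; exact W.zero_mem)
  have hgu := (main u hu hQu).resolve_left hx
  obtain ⟨z, hz, -, huz⟩ := exists_one_in hQ hW (P := ⊥) bot_le hu (by simpa using hu0)
  obtain ⟨v, hv, hQv, huv⟩ := exists_partner Q hQu hu hz (by rw [huz]; exact one_ne_zero)
  have hgv : act g v ∈ perp Q W := (main v hv hQv).resolve_left fun h => by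
    have := (mem_perp Q).1 hgu _ h
    rw [B_comm Q, B_act hgI, huv] at this
    exact one_ne_zero this
  have hle : W.map (act g) ≤ perp Q W := by
    rintro _ ⟨y, hy, rfl⟩
    set w := y - B v y • u - B u y • v with hw
    have hwW : w ∈ W := W.sub_mem (W.sub_mem hy (W.smul_mem _ hu)) (W.smul_mem _ hv)
    have huw : B u w = 0 := by
      rw [hw, B_sub_right Q, B_sub_right Q, B_smul_right Q, B_smul_right Q, B_self_of_singular Q hQu, huv]; ring
    have hvw : B v w = 0 := by
      rw [hw, B_sub_right Q, B_sub_right Q, B_smul_right Q, B_smul_right Q, B_self_of_singular Q hQv,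
        B_comm Q v u, huv]; ring
    set r := u + w - Q w • v with hr
    have hQr : Q r = 0 := by
      rw [hr, Q_sub Q, Q_add Q, Q_smul Q, B_smul_right Q, B_add_left Q, hQu, hQv, huw, huv, B_comm Q w v, hvw]
      ring
    have hrv : B r v = 1 := by
      rw [hr, B_sub_left Q, B_add_left Q, B_smul_left Q, huv, B_comm Q w v, hvw, B_self_of_singular Q hQv]; ring
    have hgr : act g r ∈ perp Q W := (main r (W.sub_mem (W.add_mem hu hwW) (W.smul_mem _ hv)) hQr).resolve_left
      fun h => by
        have := (mem_perp Q).1 hgv _ h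
        rw [B_act hgI, hrv] at this
        exact one_ne_zero this
    have e : y = r + (B v y - 1) • u + (B u y + Q w) • v := by rw [hr, hw]; module
    rw [e, map_add, map_add, map_smul, map_smul]
    exact (perp Q W).add_mem ((perp Q W).add_mem hgr ((perp Q W).smul_mem _ hgu)) ((perp Q W).smul_mem _ hgv)
  have h5 := Submodule.finrank_mono hle
  rw [finrank_map_act] at h5
  omega

end Cfsg.Agent.MaxCl.Orth.Small
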