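/-
Maximality in `omegaGL` of the odd-dimensional standard form, small rank: subspace stabilisers and subfield groups.
-/
import Cfsg.Agent.Lib.MaxCl.Small.OrthNondegFive
import Cfsg.Agent.Lib.MaxCl.Small.OrthNondegMid
import Cfsg.Agent.Lib.MaxCl.OrthSubfieldMax

set_option autoImplicit false

namespace Cfsg.Agent.MaxCl.Orth.Small

open scoped MatrixGroups Matrix
open Module (finrank)

variable {F : Type*} [Field F] [Fintype F]

/-- Stabilisers of totally singular subspaces, odd dimension at least five. -/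
theorem parabolic_odd (hodd : Odd (Fintype.card F)) (m : ℕ) (hm : 2 ≤ m)
    (W : Submodule F (Unit ⊕ (Fin m ⊕ Fin m) → F)) (hW0 : W ≠ ⊥)
    (hW : Cfsg.Geo.IsTotallySingularQuad (Cfsg.quadFormOdd m F) W) :
    Cfsg.Geo.IsMaximalIn (Cfsg.Geo.omegaGL (Cfsg.quadFormOdd m F))
      (Cfsg.Geo.subspaceStabilizer W ⊓ Cfsg.Geo.omegaGL (Cfsg.quadFormOdd m F)) := by
  obtain ⟨q, hq, hnd⟩ := exists_form_odd hodd m
  rw [← hq] at hW ⊢
  refine parabolic_maximal hnd ?_ hW0 hW fun U _ _ h => ?_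
  · rw [card_odd_index]; omega
  · rw [card_odd_index] at h; omega

/-- Stabilisers of non-degenerate subspaces of even dimension, odd dimension at least seven. -/
theorem nondeg_odd (hodd : Odd (Fintype.card F)) (m : ℕ) (hm : 3 ≤ m)
    (W : Submodule F (Unit ⊕ (Fin m ⊕ Fin m) → F)) (hW0 : W ≠ ⊥) (hev : Even (finrank F W))
    (hW : Cfsg.Geo.IsNondegenerateOn (QuadraticMap.polar (Cfsg.quadFormOdd m F)) W)
    (hex : ¬ (Fintype.card F = 3 ∧ finrank F W = 2 ∧ Cfsg.Geo.IsPlusTypeOn (Cfsg.quadFormOdd m F) W)) :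
    Cfsg.Geo.IsMaximalIn (Cfsg.Geo.omegaGL (Cfsg.quadFormOdd m F))
      (Cfsg.Geo.subspaceStabilizer W ⊓ Cfsg.Geo.omegaGL (Cfsg.quadFormOdd m F)) := by
  obtain ⟨q, hq, hnd⟩ := exists_form_odd hodd m
  rw [← hq] at hW hex ⊢
  have hcard := card_odd_index m
  have hWn := nonDeg_of_isNondegenerateOn hW
  have hp := finrank_perp hnd W
  have hk : finrank F W ≤ Fintype.card (Unit ⊕ (Fin m ⊕ Fin m)) :=
    (Submodule.finrank_le W).trans_eq (Module.finrank_pi F)
  obtain ⟨j, hj⟩ := hev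
  have h3 : Fintype.card F ≤ 3 → Fintype.card F = 3 := fun h => by
    obtain ⟨k, hk⟩ := hodd
    have := Fintype.one_lt_card (α := F)
    omega
  have hperp0 : perp q W ≠ ⊥ := fun e => by rw [e, finrank_bot] at hp; omega
  have h2 : (2 : F) ≠ 0 := Ring.two_ne_zero fun hc => by
    obtain ⟨k, hk⟩ := hodd
    have := FiniteField.even_card_iff_char_two.1 hc
    omega
  by_cases hmid : finrank F W = 4 ∧ finrank F (perp q W) = 3
  · exact four_three_maximal hnd hWn h2 hmid.1 hmid.2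
  rcases Nat.lt_or_ge (finrank F W) (finrank F (perp q W)) with hlt | hge
  · rw [← stab_inf_omega_perp hnd hWn]
    refine nondeg_maximal hnd (nonDeg_perp hnd hWn) (by omega) (by rwa [perp_perp hnd])
      (by rw [perp_perp hnd]; omega) ?_ fun g _ e => ?_
    · rw [perp_perp hnd]
      rintro ⟨hq3, h2, s, hs, hs0, hQs⟩
      exact hex ⟨h3 hq3, h2, isPlusTypeOn_of_singular h2 hs hs0 hQs⟩
    · have := finrank_map_act g (perp q W)
      rw [e, perp_perp hnd] at this
      omega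
  · refine nondeg_maximal hnd hWn (by omega) hperp0 hge (fun h => by omega) fun g _ e => ?_
    have := finrank_map_act g W
    rw [e] at this
    omega

/-- Subfield groups of prime index, odd dimension at least seven. -/
theorem subfield_odd (hodd : Odd (Fintype.card F)) (m : ℕ) (hm : 3 ≤ m) (F₀ : Subfield F) (r : ℕ)
    (P : GL (Unit ⊕ (Fin m ⊕ Fin m)) F) (hr : r.Prime) (hcard : Fintype.card F = Nat.card F₀ ^ r)
    (hP : Cfsg.Geo.IsQuadFormRationalStructure (Cfsg.quadFormOdd m F) F₀ P) :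
    Cfsg.Geo.IsMaximalIn (Cfsg.Geo.omegaGL (Cfsg.quadFormOdd m F))
      (Cfsg.Geo.subfieldSubgroup F₀ P ⊓ Cfsg.Geo.omegaGL (Cfsg.quadFormOdd m F)) := by
  obtain ⟨q, hq, hnd⟩ := exists_form_odd hodd m
  rw [← hq] at hP ⊢
  have h2 : (2 : F) ≠ 0 := Ring.two_ne_zero fun hc => by
    obtain ⟨k, hk⟩ := hodd
    have := FiniteField.even_card_iff_char_two.1 hc
    omega
  have hcd := card_odd_index m
  refine orth_subfield_maximal' (Q := q) ?_ hnd (by omega) ?_ hr
    (by rw [Nat.card_eq_fintype_card (α := F)]; exact hcard)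
  rotate_left
  · exact (Nat.lt_or_ge m 4).elim (fun h => Or.inr ⟨by omega, h2⟩) fun h => Or.inl (by omega)
  rintro _ ⟨u, hu, rfl⟩
  rw [act_apply]
  exact hP u hu

end Cfsg.Agent.MaxCl.Orth.Small
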