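/-
The normaliser of a quadratic field of self-adjoint maps is maximal in the derived orthogonal group of an
eight-dimensional form of minus type: the four-dimensional form over the field has an anisotropic plane orthogonal to
a hyperbolic pair, and the squares of rotations of that plane spread a root element over all of it.
-/
import Cfsg.Agent.Lib.MaxCl.OrthExtMax

set_option autoImplicit false
set_option linter.unusedSectionVars false

namespace Cfsg.Agent.MaxCl.OExt

open scoped MatrixGroups Matrix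
open Module (finrank)

variable {ι : Type} [Fintype ι] [DecidableEq ι] {F : Type*} [Field F] [Finite F]
  {K : Type*} [Field K] [Algebra F K] [Module K (ι → F)] [IsScalarTower F K (ι → F)] [Module.Finite F K]
variable {Q : QuadraticForm F (ι → F)} {Φ : (ι → F) →ₗ[K] (ι → F) →ₗ[K] K} {M : Subgroup (GL ι F)}

set_option quotPrecheck false in
local notation "B" => QuadraticMap.polar (⇑Q)

local notation "tr" => Algebra.trace F K

/-- In a quadratic extension every element of the base field is a square. -/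
theorem isSquare_base (hr : finrank F K = 2) (hF : (2 : F) ≠ 0) (f : F) : IsSquare (algebraMap F K f) := by
  classical
  haveI := Fintype.ofFinite F
  haveI : Finite K := Module.finite_of_finite F
  haveI := Fintype.ofFinite K
  rcases eq_or_ne f 0 with rfl | hf
  · exact ⟨0, by simp⟩
  have hc : ringChar F ≠ 2 := fun hc => hF (by
    haveI := ringChar.of_eq hc
    exact CharTwo.two_eq_zero)
  have hK : ringChar K ≠ 2 := by
    rwa [← Algebra.ringChar_eq F K]
  rw [FiniteField.isSquare_iff hK (fun h => hf ((map_eq_zero (algebraMap F K)).1 h))]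
  obtain ⟨m, hm⟩ := Nat.odd_iff.2 (FiniteField.odd_card_of_char_ne_two hc)
  have hcard : Fintype.card K / 2 = (Fintype.card F - 1) * (m + 1) := by
    rw [Module.card_eq_pow_finrank (K := F) (V := K), hr, hm, show (2 * m + 1) ^ 2 = 1 + 2 * (2 * m * (m + 1)) by ring,
      Nat.add_mul_div_left _ _ (by norm_num)]
    simp
  rw [hcard, ← map_pow, pow_mul, FiniteField.pow_card_sub_one_eq_one f hf, one_pow, map_one]

variable (hA : Amb Q Φ M)
include hA

/-- The reflection of the form over the field in a nonsingular vector. -/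
theorem exists_reflection {z : ι → F} (hz : Φ z z ≠ 0) :
    ∃ R : GL ι F, R ∈ isometryGroup F Q ∧ (∀ x, act R x = x - (2 * Φ z x / Φ z z) • z) ∧
      ∀ (c : K) x, act R (c • x) = c • act R x := by
  let T : (ι → F) → (ι → F) := fun x => x - (2 * Φ z x / Φ z z) • z
  have hTT : ∀ x, T (T x) = x := fun x => by
    simp only [T, map_sub, map_smul, smul_eq_mul]
    match_scalars <;> field_simp <;> ring
  let e : (ι → F) ≃ₗ[F] (ι → F) :=
    { toFun := T
      map_add' := fun x y => by simp only [T, map_add]; match_scalars <;> field_simp <;> ring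
      map_smul' := fun t x => by
        simp only [T, RingHom.id_apply, ← algebraMap_smul K t, map_smul, smul_eq_mul]
        match_scalars <;> field_simp <;> ring
      invFun := T
      left_inv := hTT
      right_inv := hTT }
  have hx : ∀ x, act (ExtF.ofEquiv e) x = x - (2 * Φ z x / Φ z z) • z := fun x => by
    rw [ExtF.act_ofEquiv]; rfl
  refine ⟨ExtF.ofEquiv e, ?_, hx, fun c x => ?_⟩
  · rw [Orth.mem_iso Q]
    intro x
    refine mul_left_cancel₀ hA.two ?_
    rw [two_mul_Q hA, two_mul_Q hA, hx]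
    congr 1
    simp only [map_sub, map_smul, LinearMap.sub_apply, LinearMap.smul_apply, smul_eq_mul, hA.symm x z]
    field_simp
    ring
  · rw [hx, hx, map_smul, smul_eq_mul]
    match_scalars <;> field_simp <;> ring

/-- The squares of rotations of an anisotropic plane spread a non-zero vector over the plane. -/
theorem spread_plane (hr : finrank F K = 2) {W : Submodule K (ι → F)} (hW : NDeg Φ W)
    (han : ∀ s ∈ W, Φ s s = 0 → s = 0) (hWd : 2 ≤ finrank K W) {N : Submodule F (ι → F)}
    (hN : ∀ u ∈ M, (∀ x, (∀ w ∈ W, Φ w x = 0) → act u x = x) → ∀ x ∈ N, act u x ∈ N)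
    {ω : ι → F} (hω : ω ∈ W) (hω0 : ω ≠ 0) (hωN : ω ∈ N) :
    ∃ ω' ∈ W, Φ ω ω' = 0 ∧ ω' ≠ 0 ∧ ∀ c : K, c • ω ∈ N ∧ c • ω' ∈ N := by
  haveI : Module.Finite K (ι → F) := Module.Finite.right F K (ι → F)
  have hv : Φ ω ω ≠ 0 := fun h => hω0 (han ω hω h)
  obtain ⟨ω', ⟨hω', hort⟩, hω'0⟩ := Submodule.exists_mem_ne_zero_of_ne_bot
    (p := W ⊓ LinearMap.ker (Φ ω)) fun e => by
      have := finrank_inf_ker_ge W (Φ ω)
      rw [e, finrank_bot] at this
      omega
  replace hort : Φ ω ω' = 0 := hort
  have hv' : Φ ω' ω' ≠ 0 := fun h => hω'0 (han ω' hω' h)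
  set δ := Φ ω' ω' / Φ ω ω with hδdef
  have hδv : Φ ω' ω' = δ * Φ ω ω := by rw [hδdef, div_mul_cancel₀ _ hv]
  have hδ0 : δ ≠ 0 := div_ne_zero hv' hv
  have hneg : ¬ IsSquare (-δ) := by
    rintro ⟨m, hm⟩
    have h := han (ω' + m • ω) (W.add_mem hω' (W.smul_mem _ hω)) (by
      simp only [map_add, map_smul, LinearMap.add_apply, LinearMap.smul_apply, smul_eq_mul, hort, hA.symm ω' ω, hδv]
      linear_combination (-Φ ω ω) * hm)
    have e := congrArg (Φ ω') h
    simp only [map_add, map_smul, hA.symm ω' ω, hort, smul_eq_mul, mul_zero, add_zero, map_zero] at e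
    exact hv' e
  have hbase := isSquare_base hr hA.two
  have hδsq : ¬ IsSquare δ := fun h => hneg (by
    have h1 : IsSquare (-1 : K) := by simpa using hbase (-1)
    simpa using h1.mul h)
  have h1δ : 1 + δ ≠ 0 := fun h => hneg ⟨1, by linear_combination -h⟩
  have hδ1 : δ ≠ 1 := fun h => hδsq ⟨1, by rw [h, mul_one]⟩
  have h2K := two_ne hA
  set z := ω + ω' with hz
  have hzz : Φ z z = (1 + δ) * Φ ω ω := by
    simp only [hz, map_add, LinearMap.add_apply, hort, hA.symm ω' ω, hδv]; ring
  have hzW : z ∈ W := W.add_mem hω hω'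
  obtain ⟨R, hR, hRx, hRc⟩ := exists_reflection hA (z := z) (by rw [hzz]; exact mul_ne_zero h1δ hv)
  obtain ⟨S, hS, hSx, hSc⟩ := exists_reflection hA (z := ω) hv
  set c := (1 - δ) / (1 + δ) with hc
  set d := 2 / (1 + δ) with hd
  have hzω : Φ z ω = Φ ω ω := by simp only [hz, map_add, LinearMap.add_apply, hA.symm ω' ω, hort, add_zero]
  have hzω' : Φ z ω' = δ * Φ ω ω := by simp only [hz, map_add, LinearMap.add_apply, hort, hδv, zero_add]
  have hSω : act S ω = -ω := by
    rw [hSx, show 2 * Φ ω ω / Φ ω ω = 2 by field_simp]; module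
  have hSω' : act S ω' = ω' := by rw [hSx, hort]; simp
  have hRω : act R ω = (-c) • ω + (-d) • ω' := by
    rw [hRx, hzω, hzz, hz, hc, hd]; match_scalars <;> field_simp <;> ring
  have hRω' : act R ω' = (-(δ * d)) • ω + c • ω' := by
    rw [hRx, hzω', hzz, hz, hc, hd]; match_scalars <;> field_simp <;> ring
  set k := R * S with hk
  set k' := S * R with hk'
  have hkω : act k ω = c • ω + d • ω' := by rw [hk, act_mul, hSω, map_neg, hRω]; module
  have hkω' : act k ω' = (-(δ * d)) • ω + c • ω' := by rw [hk, act_mul, hSω', hRω']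
  have hk'ω : act k' ω = c • ω + (-d) • ω' := by
    rw [hk', act_mul, hRω, map_add, hSc, hSc, hSω, hSω']; module
  have hk'ω' : act k' ω' = (δ * d) • ω + c • ω' := by
    rw [hk', act_mul, hRω', map_add, hSc, hSc, hSω, hSω']; module
  have hkc : ∀ (e : K) x, act k (e • x) = e • act k x := fun e x => by
    rw [hk, act_mul, act_mul, hSc, hRc]
  have hk'c : ∀ (e : K) x, act k' (e • x) = e • act k' x := fun e x => by
    rw [hk', act_mul, act_mul, hRc, hSc]
  have mem : ∀ p : GL ι F, p ∈ isometryGroup F Q → (∀ (e : K) x, act p (e • x) = e • act p x) →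
      (∀ x, (∀ w ∈ W, Φ w x = 0) → act p x = x) → ∀ x ∈ N, act (p * p) x ∈ N := fun p hp hpc hpf =>
    hN _ (hA.lin _ (sq_mem_omega hA hp) fun e x => by rw [act_mul, act_mul, hpc, hpc])
      fun x hx => by rw [act_mul, hpf x hx, hpf x hx]
  have hfix : ∀ x, (∀ w ∈ W, Φ w x = 0) → act R x = x ∧ act S x = x := fun x hx => by
    rw [hRx, hSx, hx z hzW, hx ω hω]; simp
  have mk := mem k (mul_mem hR hS) hkc fun x hx => by rw [hk, act_mul, (hfix x hx).2, (hfix x hx).1]
  have mk' := mem k' (mul_mem hS hR) hk'c fun x hx => by rw [hk', act_mul, (hfix x hx).1, (hfix x hx).2]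
  set C := c * c - δ * (d * d) with hC
  set D := 2 * c * d with hD
  have hCD : C * C + δ * (D * D) = 1 := by
    rw [hC, hD, hc, hd]; field_simp; ring
  have hD0 : D ≠ 0 := mul_ne_zero (mul_ne_zero h2K (div_ne_zero (sub_ne_zero.2 (Ne.symm hδ1)) h1δ))
    (div_ne_zero h2K h1δ)
  have hplus : act (k * k) ω = C • ω + D • ω' := by
    rw [act_mul, hkω, map_add, hkc, hkc, hkω, hkω', hC, hD]; module
  have hminus : act (k' * k') ω = C • ω + (-D) • ω' := by
    rw [act_mul, hk'ω, map_add, hk'c, hk'c, hk'ω, hk'ω', hC, hD]; module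
  have hCF : ∀ f : F, algebraMap F K f ≠ C := fun f hf => hδsq (by
    obtain ⟨m, hm⟩ := hbase (1 - f * f)
    refine ⟨m / D, ?_⟩
    rw [map_sub, map_mul, map_one, hf] at hm
    field_simp
    linear_combination hCD + hm)
  -- the line of `ω`
  have h2C : (2 * C) • ω ∈ N := by
    have h := N.add_mem (mk ω hωN) (mk' ω hωN)
    rw [hplus, hminus] at h
    convert h using 1
    module
  let N' : Submodule F K := {
    carrier := {e | e • ω ∈ N}
    add_mem' := fun {a b} ha hb => by show (a + b) • ω ∈ N; rw [add_smul]; exact N.add_mem ha hb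
    zero_mem' := by show (0 : K) • ω ∈ N; rw [zero_smul]; exact N.zero_mem
    smul_mem' := fun f a ha => by show (f • a) • ω ∈ N; rw [smul_assoc]; exact N.smul_mem f ha }
  have htop : N' = ⊤ := by
    have h1 : (1 : K) ∈ N' := by show (1 : K) • ω ∈ N; rwa [one_smul]
    have h2 : C ∈ N' := by
      show C • ω ∈ N
      have h := N.smul_mem (2 : F)⁻¹ h2C
      rwa [← algebraMap_smul K (2 : F)⁻¹, smul_smul, map_inv₀, map_ofNat, ← mul_assoc, inv_mul_cancel₀ h2K,
        one_mul] at h
    have hlt : F ∙ (1 : K) < N' := lt_of_le_of_ne ((Submodule.span_singleton_le_iff_mem _ _).2 h1) fun e => by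
      rw [← e] at h2
      obtain ⟨f, hf⟩ := Submodule.mem_span_singleton.1 h2
      exact hCF f (by rw [Algebra.algebraMap_eq_smul_one]; exact hf)
    have h3 := Submodule.finrank_lt_finrank_of_lt hlt
    rw [finrank_span_singleton one_ne_zero] at h3
    exact Submodule.eq_top_of_finrank_eq (le_antisymm (Submodule.finrank_le _) (by omega))
  have hline : ∀ e : K, e • ω ∈ N := fun e => (htop ▸ Submodule.mem_top : e ∈ N')
  refine ⟨ω', hω', hort, hω'0, fun e => ⟨hline e, ?_⟩⟩
  have h := N.sub_mem (mk _ (hline (e / D))) (hline (e / D * C))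
  have e' : act (k * k) ((e / D) • ω) = (e / D) • act (k * k) ω := by
    simp only [show ∀ x, act (k * k) x = act k (act k x) from fun x => act_mul k k x, hkc]
  rw [e', hplus] at h
  convert h using 1
  match_scalars <;> field_simp <;> ring

/-- **The quadratic extension field group is maximal in dimension four over the field.** -/
theorem omega_le_four (hr2 : finrank F K = 2) (hd4 : finrank K (ι → F) = 4)
    (hwitt : ∀ U : Submodule F (ι → F), (∀ x ∈ U, Q x = 0) → finrank F U ≤ 3) {g₀ : GL ι F} (hg₀ : g₀ ∈ M)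
    (hns : ¬ ExtF.IsSemi K g₀) : Cfsg.Geo.omegaGL Q ≤ M := by
  have hr : (finrank F K).Prime := hr2 ▸ Nat.prime_two
  have hd : 4 ≤ finrank K (ι → F) := hd4.ge
  haveI : Module.Finite K (ι → F) := Module.Finite.right F K (ι → F)
  obtain ⟨g, hg, a₀, v, j₁, l, ha₀, haa₀, haa, hj₁, hD, hl0, hl1, horth, hav, hv⟩ :=
    exists_config hA hr hd hg₀ hns
  have hlines₀ := exists_line_roots hA hd hg ha₀ haa₀ haa hD hl0 hl1 horth hav hv
  set a := act g a₀ with ha
  have hane : a ≠ 0 := fun h => ha₀ (act_injective g (by rw [← ha, h, map_zero]))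
  have hR₀ : ∀ c : K, Roots Q M a₀ (c • a₀) := fun c =>
    ⟨by rw [← trace_mul' hA, haa₀, mul_zero, map_zero], fun e => by
      rw [← smul_assoc]; exact hlines₀ _⟩
  have hline : ∀ {x : ι → F}, x ≠ 0 → Φ x x = 0 → ∀ c : K, Roots Q M x (c • x) := by
    intro x hx hxx c
    obtain ⟨u, hu, hua, huc⟩ := exists_move hA hd ha₀ haa₀ hx hxx
    have := Roots.act hA (hR₀ c) hu
    rwa [huc, hua] at this
  have hQa := Q_of_singular hA haa
  set N := rootSpace M hQa with hN
  have hwN : act g (j₁ • a₀) ∈ N := Roots.act hA (hR₀ j₁) hg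
  suffices hfull : Orth.Full Q M a by
    obtain ⟨t, -, htt, hat⟩ := exists_partner hA (ndeg_top hA) (Submodule.mem_top (x := a)) hane haa
    obtain ⟨c, hc⟩ := SpExt.exists_trace_eq (F := F) (K := K) 1
    have hct : c • t ≠ 0 := smul_ne_zero (fun h => by rw [h, map_zero] at hc; exact zero_ne_one hc)
      fun h => by rw [h, map_zero] at hat; exact zero_ne_one hat
    have hctt : Φ (c • t) (c • t) = 0 := by simp [htt]
    obtain ⟨u, hu, hua, -⟩ := exists_move hA hd hane haa hct hctt
    refine Orth.omega_le_of_full hA.nondeg hA.five hQa (Q_of_singular hA hctt) ?_ hfull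
      (hua ▸ hfull.act hu (iso_of_mem hA hu))
    rw [← trace_mul' hA, hat, mul_one, hc]
    exact one_ne_zero
  suffices hall : ∀ w, B a w = 0 → w ∈ N from fun w hw => by simpa using (hall w hw).2 1
  intro w hw
  obtain ⟨a', -, ha'a', haa'⟩ := exists_partner hA (ndeg_top hA) (Submodule.mem_top (x := a)) hane haa
  set W := LinearMap.ker (Φ a) ⊓ LinearMap.ker (Φ a') with hW
  have hWn : NDeg Φ W := ndeg_pair hA haa ha'a' (by rw [haa']; exact one_ne_zero)
  have hWd : 2 ≤ finrank K W := by
    have h1 := finrank_ker_ge (Φ a)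
    have h3 := finrank_inf_ker_ge (LinearMap.ker (Φ a)) (Φ a')
    rw [hW]
    omega
  have han : ∀ s ∈ W, Φ s s = 0 → s = 0 := by
    intro s hs hss
    by_contra hs0
    have has : Φ a s = 0 := hs.1
    have hsn : s ∉ (K ∙ a) := fun hm => hs0 (by
      obtain ⟨e, he⟩ := Submodule.mem_span_singleton.1 hm
      have h0 : Φ a' s = 0 := hs.2
      rw [← he, map_smul, hA.symm a' a, haa', smul_eq_mul, mul_one] at h0
      rw [← he, h0, zero_smul])
    have h1 := hwitt (((K ∙ a) ⊔ (K ∙ s)).restrictScalars F) fun x hx => by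
      obtain ⟨p, hp, q, hq, rfl⟩ := Submodule.mem_sup.1 (show x ∈ (K ∙ a) ⊔ (K ∙ s) from hx)
      obtain ⟨α, rfl⟩ := Submodule.mem_span_singleton.1 hp
      obtain ⟨β, rfl⟩ := Submodule.mem_span_singleton.1 hq
      exact Q_of_singular hA (show Φ (α • a + β • s) (α • a + β • s) = 0 by simp [haa, hss, has, hA.symm s a])
    have h2 : finrank K ↥((K ∙ a) ⊔ (K ∙ s)) = 2 := by
      rw [Submodule.finrank_sup_span_singleton hsn, finrank_span_singleton hane]
    have h3 := Module.finrank_mul_finrank F K ↥((K ∙ a) ⊔ (K ∙ s))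
    rw [h2, hr2] at h3
    have h4 : finrank F ↥(((K ∙ a) ⊔ (K ∙ s)).restrictScalars F) = finrank F ↥((K ∙ a) ⊔ (K ∙ s)) := rfl
    omega
  set w₀ := act g (j₁ • a₀) with hw₀
  set ω := w₀ - Φ a' w₀ • a with hωdef
  have hKa : ∀ c : K, c • a ∈ N := fun c => hline hane haa c
  have hωW : ω ∈ W := ⟨show Φ a ω = 0 by rw [hωdef, map_sub, map_smul, haa, horth, smul_zero, sub_zero],
    show Φ a' ω = 0 by rw [hωdef, map_sub, map_smul, hA.symm a' a, haa', smul_eq_mul, mul_one, sub_self]⟩
  have hω0 : ω ≠ 0 := fun e => hj₁ (Submodule.mem_span_singleton.2 ⟨Φ a' w₀, (sub_eq_zero.1 e).symm⟩)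
  obtain ⟨ω', hω', hort, hω'0, hboth⟩ := spread_plane hA hr2 hWn han hWd (N := N) (fun u hu hfix x hx => by
      have hua : act u a = a := hfix a fun w hw => by rw [hA.symm]; exact hw.1
      have := Roots.act hA (show Roots Q M a x from hx) hu
      rw [hua] at this
      exact this) hωW hω0 (N.sub_mem hwN (hKa _))
  have hperp : ∀ x, Φ a x = 0 → x ∈ N := fun x hx => by
    set r := x - Φ a' x • a - (Φ ω x / Φ ω ω) • ω - (Φ ω' x / Φ ω' ω') • ω' with hr'
    have hv : Φ ω ω ≠ 0 := fun h => hω0 (han ω hωW h)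
    have hv' : Φ ω' ω' ≠ 0 := fun h => hω'0 (han ω' hω' h)
    have ha1 : Φ a ω = 0 := hωW.1
    have ha2 : Φ a' ω = 0 := hωW.2
    have ha3 : Φ a ω' = 0 := hω'.1
    have ha4 : Φ a' ω' = 0 := hω'.2
    have horto : Φ ω' ω = 0 := by rw [hA.symm, hort]
    have r1 : Φ a r = 0 := by simp [hr', hx, haa, ha1, ha3]
    have r2 : Φ a' r = 0 := by simp [hr', hA.symm a' a, haa', ha2, ha4]
    have r3 : Φ ω r = 0 := by simp [hr', hA.symm ω a, ha1, hort, div_mul_cancel₀ _ hv]
    have r4 : Φ ω' r = 0 := by simp [hr', hA.symm ω' a, ha3, horto, div_mul_cancel₀ _ hv']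
    have hr0 : r = 0 := by
      by_contra hr0
      have hli : LinearIndependent K ![a, a', ω, ω'] := by
        rw [Fintype.linearIndependent_iff]
        intro e he
        rw [Fin.sum_univ_four] at he
        simp only [Matrix.cons_val] at he
        have e1 := congrArg (Φ a') he
        have e2 := congrArg (Φ a) he
        have e3 := congrArg (Φ ω) he
        have e4 := congrArg (Φ ω') he
        simp [haa, haa', ha'a', ha1, ha2, ha3, ha4, hort, horto, hA.symm a' a, hA.symm ω a, hA.symm ω' a,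
          hA.symm ω a', hA.symm ω' a', hv, hv'] at e1 e2 e3 e4
        intro i; fin_cases i <;> assumption
      have hspan : Submodule.span K (Set.range ![a, a', ω, ω']) = ⊤ := by
        refine Submodule.eq_top_of_finrank_eq ?_
        rw [finrank_span_eq_card hli, Fintype.card_fin, hd4]
      obtain ⟨y, -, hy⟩ := ndeg_top hA r Submodule.mem_top hr0
      refine hy ?_
      have hle : Submodule.span K (Set.range ![a, a', ω, ω']) ≤ LinearMap.ker (Φ r) := by
        rw [Submodule.span_le]
        rintro _ ⟨i, rfl⟩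
        fin_cases i <;> show Φ r _ = 0 <;> rw [hA.symm] <;> assumption
      exact hle (hspan ▸ Submodule.mem_top)
    have e : x = Φ a' x • a + (Φ ω x / Φ ω ω) • ω + (Φ ω' x / Φ ω' ω') • ω' + r := by rw [hr']; abel
    rw [e, hr0, add_zero]
    exact N.add_mem (N.add_mem (hKa _) (hboth _).1) (hboth _).2
  -- the image of the orthogonal space of the point
  obtain ⟨z, hz, hgz⟩ : ∃ z, Φ a₀ z = 0 ∧ Φ a (act g z) ≠ 0 := by
    by_contra hcon
    push Not at hcon
    have : (⊤ : Submodule F K) ≤ ExtF.lineD K g a₀ := fun c _ => by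
      by_contra hc
      have hx : act g⁻¹ (c • a) ∉ (K ∙ a₀) := fun hmem => by
        obtain ⟨i, hi⟩ := Submodule.mem_span_singleton.1 hmem
        exact hc ((ExtF.mem_lineD g a₀ c).2 ⟨i, by rw [hi, act_act_inv]⟩)
      obtain ⟨z, hz, hxz⟩ := exists_separate hA ha₀ hx
      refine hxz (SpExt.ext_trace (F := F) fun k => ?_)
      rw [mul_zero, map_zero, trace_mul' hA, ← Orth.B_act (iso_of_mem hA hg), act_act_inv, ← trace_mul hA,
        hcon _ (by rw [map_smul, hz, smul_zero]), mul_zero, map_zero]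
    have h3 := Submodule.finrank_mono this
    rw [finrank_top] at h3
    omega
  have hzN : act g z ∈ N := by
    obtain ⟨u, hu, hua, huc⟩ := exists_move hA hd hane haa ha₀ haa₀
    have h1 : z = act u (act u⁻¹ z) := (act_act_inv u z).symm
    have h3 : Roots Q M a₀ z := by
      rw [← hua, h1]
      refine Roots.act hA (show Roots Q M a (act u⁻¹ z) from hperp _ (perp_of_B hA fun k => ?_)) hu
      rw [← Orth.B_act (iso_of_mem hA hu), huc, hua, act_act_inv, ← trace_mul hA, hz, mul_zero, map_zero]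
    exact Roots.act hA h3 hg
  have htr0 : ∀ {x}, B a x = 0 → tr (Φ a x) = 0 := fun {x} h => by rw [hA.trace, h]
  have hker : finrank F (LinearMap.ker (Algebra.trace F K)) ≤ 1 := by
    have h1 := LinearMap.finrank_range_add_finrank_ker (Algebra.trace F K)
    rw [LinearMap.range_eq_top.2 (Algebra.trace_surjective F K), finrank_top, Module.finrank_self] at h1
    omega
  have hle : LinearMap.ker (Algebra.trace F K) ≤ F ∙ Φ a (act g z) := by
    refine le_of_eq (Submodule.eq_of_le_of_finrank_le ?_ ?_).symm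
    · rw [Submodule.span_singleton_le_iff_mem]
      exact htr0 hzN.1
    · rwa [finrank_span_singleton hgz]
  obtain ⟨e, he⟩ := Submodule.mem_span_singleton.1 (hle (htr0 hw))
  have h4 := hperp (w - e • act g z) (by
    rw [map_sub, ← algebraMap_smul K e (act g z), map_smul, algebraMap_smul, he, sub_self])
  simpa using N.add_mem h4 (N.smul_mem e hzN)

end Cfsg.Agent.MaxCl.OExt
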