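/-
The normaliser of a self-adjoint cubic extension field in the nine-dimensional odd orthogonal group is maximal.
-/
import Cfsg.Agent.Lib.MaxCl.OrthExtThree
import Cfsg.Agent.Lib.MaxCl.FieldSubalgebra

set_option autoImplicit false
set_option synthInstance.maxHeartbeats 200000
set_option maxHeartbeats 800000
open scoped Matrix MatrixGroups

namespace Cfsg.Agent.MaxCl.Small

theorem ext_cubic_nine {F : Type*} [Field F] [Fintype F] (hodd : Odd (Fintype.card F))
    (K : Subalgebra F (Matrix (Unit ⊕ (Fin 4 ⊕ Fin 4)) (Unit ⊕ (Fin 4 ⊕ Fin 4)) F))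
    (hK : Cfsg.Geo.IsFieldSubalgebra 3 K)
    (hsa : Cfsg.Geo.IsSelfAdjointFor (QuadraticMap.polar (Cfsg.quadFormOdd 4 F)) K) :
    Cfsg.Geo.IsMaximalIn (Cfsg.Geo.omegaGL (Cfsg.quadFormOdd 4 F))
      (Cfsg.Geo.subalgebraNormalizer K ⊓ Cfsg.Geo.omegaGL (Cfsg.quadFormOdd 4 F)) := by
  classical
  obtain ⟨q, hq, hnd⟩ := MaxCl.Orth.exists_form_odd hodd 4
  rw [← hq] at hsa ⊢
  have hcard := MaxCl.Orth.card_odd_index 4
  let ι := Unit ⊕ (Fin 4 ⊕ Fin 4)
  have hfield : IsField K :=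
    { exists_pair_ne := ⟨0, 1, fun h => zero_ne_one (α := Matrix ι ι F) (congrArg Subtype.val h)⟩
      mul_comm := fun a b => Subtype.ext (hK.comm a.1 a.2 b.1 b.2)
      mul_inv_cancel := fun {a} ha => by
        obtain ⟨y, hy, hxy⟩ := hK.inv a.1 a.2 (fun h => ha (Subtype.ext h))
        exact ⟨⟨y, hy⟩, Subtype.ext hxy⟩ }
  letI : Field K := hfield.toField
  letI : Module K (ι → F) :=
    { smul := fun a v => (a : Matrix ι ι F) *ᵥ v
      one_smul := fun v => Matrix.one_mulVec v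
      mul_smul := fun a b v => (Matrix.mulVec_mulVec v _ _).symm
      smul_zero := fun a => Matrix.mulVec_zero _
      smul_add := fun a v w => Matrix.mulVec_add _ v w
      add_smul := fun a b v => Matrix.add_mulVec _ _ v
      zero_smul := fun v => Matrix.zero_mulVec v }
  have hsmul : ∀ (a : K) (v : ι → F), a • v = (a : Matrix ι ι F) *ᵥ v := fun a v => rfl
  haveI : IsScalarTower F K (ι → F) := ⟨fun c a v => by
    rw [hsmul, hsmul]
    exact Matrix.smul_mulVec c _ v⟩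
  haveI : Module.Finite F K := Module.finite_of_finrank_pos (hK.finrank_eq ▸ three_pos)
  have hr' : (Module.finrank F K).Prime := hK.finrank_eq.symm ▸ Nat.prime_three
  have hdim := Module.finrank_mul_finrank F K (ι → F)
  rw [Module.finrank_fintype_fun_eq_card, hK.finrank_eq, hcard] at hdim
  obtain ⟨d, hd⟩ : ∃ d, d = Module.finrank K (ι → F) := ⟨_, rfl⟩
  rw [← hd] at hdim
  have hd3 : d = 3 := by omega
  have h2 : (2 : F) ≠ 0 := Ring.two_ne_zero fun hc => by
    obtain ⟨k, hk⟩ := hodd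
    have := FiniteField.even_card_iff_char_two.1 hc
    omega
  have h5 : 5 ≤ Fintype.card ι := by rw [hcard]; omega
  obtain ⟨Φ, htr, hsym⟩ := MaxCl.OExt.exists_kform (K := K) (Q := q) fun k x y => hsa k.1 k.2 x y
  have hsemi : ∀ g : GL ι F, g ∈ Cfsg.Geo.subalgebraNormalizer K ↔ MaxCl.ExtF.IsSemi K g :=
    fun g => MaxCl.ExtF.mem_normalizer_iff K g
  have hamb : ∀ M : Subgroup (GL ι F), Cfsg.Geo.subalgebraNormalizer K ⊓ Cfsg.Geo.omegaGL q ≤ M →
      M ≤ Cfsg.Geo.omegaGL q → MaxCl.OExt.Amb q Φ M := fun M h1 hle =>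
    ⟨htr, hsym, hnd, h2, h5, fun g hg hl => h1 ⟨(hsemi g).2 fun k => ⟨k, hl k⟩, hg⟩, hle⟩
  refine ⟨lt_of_le_of_ne inf_le_right fun heq => ?_, fun M hHM hMS => ?_⟩
  · obtain ⟨g, hg, hns⟩ := MaxCl.OExt.exists_not_semi (hamb _ le_rfl inf_le_right) hr' (hd ▸ hd3.ge)
    exact hns ((hsemi g).1 (inf_eq_right.1 heq hg))
  · by_cases hsub : M ≤ Cfsg.Geo.subalgebraNormalizer K
    · exact Or.inl (le_antisymm (le_inf hsub hMS) hHM)
    obtain ⟨g, hgM, hg⟩ := SetLike.not_le_iff_exists.1 hsub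
    have hns : ¬ MaxCl.ExtF.IsSemi K g := fun h => hg ((hsemi g).2 h)
    refine Or.inr (le_antisymm hMS ?_)
    exact MaxCl.OExt.omega_le3 (hamb M hHM hMS) (hd ▸ hd3) hr' (le_of_eq hK.finrank_eq.symm) hgM hns

end Cfsg.Agent.MaxCl.Small
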