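/-
The stabiliser of a non-degenerate four-space is maximal in `omegaGL` of an eight-dimensional form of minus type.

One of the two summands, say `W`, contains a singular line.  If no Siegel element of the overgroup transfers between
the summands, an element moving `W` maps it into the sum of one summand and a line, and then conjugating a suitable
element of the stabiliser gives an element for which this is false.
-/
import Cfsg.Agent.Lib.MaxCl.Small.OrthNondegFive

set_option autoImplicit false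

namespace Cfsg.Agent.MaxCl.Orth.Small

open scoped MatrixGroups Matrix
open Module (finrank)

variable {ι : Type} [Fintype ι] [DecidableEq ι] {F : Type*} [Field F] {Q : QuadraticForm F (ι → F)}

set_option quotPrecheck false in
local notation "B" => QuadraticMap.polar (⇑Q)

theorem finrank_pair {x y : ι → F} (hx : x ≠ 0) (hy : y ∉ F ∙ x) :
    finrank F (Submodule.span F (Set.range ![x, y])) = 2 := by
  have h : Submodule.span F (Set.range ![x, y]) = (F ∙ x) ⊔ F ∙ y := by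
    simp only [Matrix.range_cons, Matrix.range_empty, Set.union_empty, Set.singleton_union,
      Submodule.span_insert]
  rw [h, Submodule.finrank_sup_span_singleton hy, finrank_span_singleton hx]

theorem singular_pair {x y : ι → F} (hx : Q x = 0) (hy : Q y = 0) (h : B x y = 0) :
    ∀ z ∈ Submodule.span F (Set.range ![x, y]), Q z = 0 := by
  intro z hz
  obtain ⟨a, b, rfl⟩ := mem_span_pair_iff_range.1 hz
  rw [Q_add Q, Q_smul Q, Q_smul Q, B_smul_left Q, B_smul_right Q, hx, hy, h]; ring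

section Aniso

variable [Finite F]

theorem exists_sq_eq_of_two (h2 : (2 : F) = 0) (c : F) : ∃ μ : F, c = μ * μ := by
  haveI : CharP F 2 := CharTwo.of_one_ne_zero_of_two_eq_zero one_ne_zero h2
  exact FiniteField.isSquare_of_char_two (ringChar.eq F 2) c

theorem nonDeg_of_aniso {A : Submodule F (ι → F)} (hA : finrank F A = 2) (han : ∀ a ∈ A, Q a = 0 → a = 0) :
    NonDeg Q A := by
  intro r hr hrA
  by_contra hr0
  have hQr : Q r ≠ 0 := fun h => hr0 (han r hr h)
  have h0 : 2 * Q r = 0 := by rw [← B_self Q]; exact hrA r hr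
  have h2 : (2 : F) = 0 := (mul_eq_zero.1 h0).resolve_right hQr
  obtain ⟨w, hw, hwr⟩ := SetLike.not_le_iff_exists.1 fun h : A ≤ F ∙ r => by
    have := (Submodule.finrank_mono h).trans_eq (finrank_span_singleton hr0); omega
  obtain ⟨μ, hμ⟩ := exists_sq_eq_of_two h2 (Q w / Q r)
  have h1 := han (w + μ • r) (A.add_mem hw (A.smul_mem _ hr)) (by
    rw [Q_add Q, Q_smul Q, B_smul_right Q, B_comm Q w r, hrA w hw, ← hμ, div_mul_cancel₀ _ hQr]
    linear_combination Q w * h2)
  exact hwr (Submodule.mem_span_singleton.2 ⟨-μ, by rw [eq_neg_of_add_eq_zero_left h1, neg_smul]⟩)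

/-- A vector of an anisotropic plane orthogonal to a given one and independent of it, in odd characteristic. -/
theorem exists_orth_in {A : Submodule F (ι → F)} (h2 : (2 : F) ≠ 0) (hA : finrank F A = 2)
    (han : ∀ a ∈ A, Q a = 0 → a = 0) {a : ι → F} (ha : a ∈ A) (ha0 : a ≠ 0) :
    ∃ k ∈ A, B a k = 0 ∧ Q k ≠ 0 ∧ k ∉ F ∙ a := by
  have hQa : Q a ≠ 0 := fun h => ha0 (han a ha h)
  obtain ⟨w, hw, hwa⟩ := SetLike.not_le_iff_exists.1 fun h : A ≤ F ∙ a => by
    have := (Submodule.finrank_mono h).trans_eq (finrank_span_singleton ha0); omega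
  set k := w - (B a w / (2 * Q a)) • a with hk
  have hkA : k ∈ A := A.sub_mem hw (A.smul_mem _ ha)
  have hka : k ∉ F ∙ a := fun h => hwa (by
    have := (F ∙ a).add_mem h ((F ∙ a).smul_mem (B a w / (2 * Q a)) (Submodule.mem_span_singleton_self a))
    rwa [hk, sub_add_cancel] at this)
  refine ⟨k, hkA, ?_, fun h => hka (by rw [han k hkA h]; exact Submodule.zero_mem _), hka⟩
  rw [hk, B_sub_right Q, B_smul_right Q, B_self Q, div_mul_cancel₀ _ (mul_ne_zero h2 hQa), sub_self]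

theorem exists_of_aniso {A : Submodule F (ι → F)} (hA : finrank F A = 2) (han : ∀ a ∈ A, Q a = 0 → a = 0)
    (v : F) : ∃ a ∈ A, Q a = v := by
  obtain ⟨a, ha, ha0⟩ := Submodule.exists_mem_ne_zero_of_ne_bot (p := A) fun e => by
    rw [e, finrank_bot] at hA; omega
  have hQa : Q a ≠ 0 := fun h => ha0 (han a ha h)
  by_cases h2 : (2 : F) = 0
  · obtain ⟨μ, hμ⟩ := exists_sq_eq_of_two h2 (v / Q a)
    exact ⟨μ • a, A.smul_mem _ ha, by rw [Q_smul Q, ← hμ, div_mul_cancel₀ _ hQa]⟩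
  obtain ⟨k, hk, hak, hQk, -⟩ := exists_orth_in h2 hA han ha ha0
  haveI := Fintype.ofFinite F
  obtain ⟨x, y, h⟩ := FiniteField.exists_root_sum_quadratic
    (f := Polynomial.C (Q a) * Polynomial.X ^ 2) (g := Polynomial.C (Q k) * Polynomial.X ^ 2 + Polynomial.C (-v))
    (Polynomial.degree_C_mul_X_pow 2 hQa)
    (by rw [Polynomial.degree_add_C (by rw [Polynomial.degree_C_mul_X_pow 2 hQk]; decide),
      Polynomial.degree_C_mul_X_pow 2 hQk]; rfl)
    (FiniteField.odd_card_of_char_ne_two fun hc => h2 (by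
      haveI := ringChar.of_eq hc
      exact CharTwo.two_eq_zero))
  simp only [Polynomial.eval_mul, Polynomial.eval_C, Polynomial.eval_pow, Polynomial.eval_X,
    Polynomial.eval_add] at h
  refine ⟨x • a + y • k, A.add_mem (A.smul_mem _ ha) (A.smul_mem _ hk), ?_⟩
  rw [Q_add Q, Q_smul Q, Q_smul Q, B_smul_left Q, B_smul_right Q, hak]
  linear_combination h

/-- Two orthogonal anisotropic planes contain a singular line. -/
theorem two_aniso {A A' : Submodule F (ι → F)} (hA : finrank F A = 2) (han : ∀ a ∈ A, Q a = 0 → a = 0)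
    (hA' : finrank F A' = 2) (han' : ∀ a ∈ A', Q a = 0 → a = 0) (horth : ∀ a ∈ A, ∀ a' ∈ A', B a a' = 0) :
    ∃ U : Submodule F (ι → F), U ≤ A ⊔ A' ∧ (∀ x ∈ U, Q x = 0) ∧ finrank F U = 2 := by
  obtain ⟨a, ha, ha0⟩ := Submodule.exists_mem_ne_zero_of_ne_bot (p := A) fun e => by
    rw [e, finrank_bot] at hA; omega
  have hQa : Q a ≠ 0 := fun h => ha0 (han a ha h)
  obtain ⟨b, hb, hQb⟩ := exists_of_aniso hA' han' (-Q a)
  have hb0 : b ≠ 0 := fun e => hQa (by rw [e, map_zero, eq_comm, neg_eq_zero] at hQb; exact hQb)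
  have hdisj : ∀ p ∈ A, p ∈ A' → p = 0 := fun p hp hp' =>
    nonDeg_of_aniso hA han p hp fun q hq => (B_comm Q p q).trans (horth q hq p hp')
  have mk : ∀ k ∈ A, ∀ k' ∈ A', Q k + Q k' = 0 → B a k + B b k' = 0 → k ∉ F ∙ a →
      ∃ U : Submodule F (ι → F), U ≤ A ⊔ A' ∧ (∀ x ∈ U, Q x = 0) ∧ finrank F U = 2 := by
    intro k hk k' hk' hQ0 hB0 hka
    refine ⟨Submodule.span F (Set.range ![a + b, k + k']), ?_, singular_pair ?_ ?_ ?_, finrank_pair ?_ ?_⟩
    · rw [Submodule.span_le]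
      rintro _ ⟨i, rfl⟩
      fin_cases i
      · exact Submodule.add_mem_sup ha hb
      · exact Submodule.add_mem_sup hk hk'
    · rw [Q_add Q, hQb, horth a ha b hb]; ring
    · rw [Q_add Q, horth k hk k' hk', add_zero, hQ0]
    · rw [B_add_left Q, B_add_right Q, B_add_right Q, horth a ha k' hk', B_comm Q b k, horth k hk b hb]
      linear_combination hB0
    · intro h
      have := hdisj a ha (by rw [eq_neg_of_add_eq_zero_left h]; exact A'.neg_mem hb)
      exact ha0 this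
    · intro h
      obtain ⟨c, hc⟩ := Submodule.mem_span_singleton.1 h
      have h1 : c • a - k = k' - c • b := by
        rw [sub_eq_sub_iff_add_eq_add, ← smul_add, hc, add_comm]
      have := hdisj (c • a - k) (A.sub_mem (A.smul_mem c ha) hk) (by rw [h1]; exact A'.sub_mem hk' (A'.smul_mem c hb))
      exact hka (Submodule.mem_span_singleton.2 ⟨c, sub_eq_zero.1 this⟩)
  haveI := Fintype.ofFinite F
  classical
  by_cases h2 : (2 : F) = 0
  · -- the values on the affine lines avoid the image of an additive map of index two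
    haveI : CharP F 2 := CharTwo.of_one_ne_zero_of_two_eq_zero one_ne_zero h2
    obtain ⟨d, hd, hbad⟩ : ∃ d ∈ A, B a d = 1 := by
      by_contra hc
      push Not at hc
      refine ha0 (nonDeg_of_aniso hA han a ha fun y hy => ?_)
      by_contra hy0
      exact hc ((B a y)⁻¹ • y) (A.smul_mem _ hy) (by rw [B_smul_right Q, inv_mul_cancel₀ hy0])
    obtain ⟨d', hd', hbd'⟩ : ∃ d ∈ A', B b d = 1 := by
      by_contra hc
      push Not at hc
      refine hb0 (nonDeg_of_aniso hA' han' b hb fun y hy => ?_)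
      by_contra hy0
      exact hc ((B b y)⁻¹ • y) (A'.smul_mem _ hy) (by rw [B_smul_right Q, inv_mul_cancel₀ hy0])
    let φ : F →+ F :=
      { toFun := fun r => Q a * (r * r) + r
        map_zero' := by simp
        map_add' := fun x y => by linear_combination (Q a * x * y) * h2 }
    have hker : ∀ r, φ r = 0 → r = 0 ∨ r = (Q a)⁻¹ := by
      intro r hr
      have h : r * (Q a * r + 1) = 0 := by
        have hr' : Q a * (r * r) + r = 0 := hr
        linear_combination hr'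
      refine (mul_eq_zero.1 h).imp_right fun h => ?_
      field_simp
      linear_combination h - h2
    have hidx : φ.range.index = 2 := by
      have h1 := φ.range.card_mul_index
      have h3 : Nat.card φ.ker = 2 := by
        rw [Nat.card_eq_fintype_card]
        refine le_antisymm ?_ ?_
        · rw [← Finset.card_univ]
          refine (Finset.card_le_card_of_injOn (fun r : φ.ker => (r : F))
            (t := {0, (Q a)⁻¹}) (fun r _ => by simpa using hker r r.2) Subtype.val_injective.injOn).trans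
            Finset.card_le_two
        · refine Fintype.one_lt_card_iff.2 ⟨⟨0, φ.map_zero⟩, ⟨(Q a)⁻¹, ?_⟩, ?_⟩
          · show Q a * ((Q a)⁻¹ * (Q a)⁻¹) + (Q a)⁻¹ = 0
            field_simp
            linear_combination h2
          · intro e
            exact inv_ne_zero hQa (congrArg Subtype.val e).symm
      have h4 := φ.ker.card_mul_index
      have h5 : φ.ker.index = Nat.card φ.range := AddSubgroup.index_ker φ
      rw [h5, h3] at h4
      rw [← h4, mul_comm 2] at h1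
      exact Nat.eq_of_mul_eq_mul_left Nat.card_pos h1
    have hout : ∀ {A : Submodule F (ι → F)}, (∀ a ∈ A, Q a = 0 → a = 0) → ∀ e ∈ A, ∀ p ∈ A, Q p = Q a →
        B p e = 1 → Q e ∉ φ.range := by
      intro A hanA e he p hp hQp hpe hmem
      obtain ⟨r, hr⟩ := hmem
      have hr' : Q a * (r * r) + r = Q e := hr
      have h := hanA (e + r • p) (A.add_mem he (A.smul_mem _ hp)) (by
        rw [Q_add Q, Q_smul Q, B_smul_right Q, B_comm Q e p, hpe, hQp]
        linear_combination hr' + Q e * h2)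
      rw [← neg_eq_of_add_eq_zero_left h, B_neg_right Q, B_smul_right Q, B_self Q, h2] at hpe
      simp at hpe
    have hQb' : Q b = Q a := by linear_combination hQb - Q a * h2
    have hsum : Q d + Q d' ∈ φ.range := (AddSubgroup.add_mem_iff_of_index_two hidx).2
      ⟨fun h => absurd h (hout han d hd a ha rfl hbad), fun h => absurd h (hout han' d' hd' b hb hQb' hbd')⟩
    obtain ⟨r, hr⟩ := hsum
    have hr' : Q a * (r * r) + r = Q d + Q d' := hr
    refine mk (d + r • a) (A.add_mem hd (A.smul_mem _ ha)) d' hd' ?_ ?_ fun h => ?_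
    · rw [Q_add Q, Q_smul Q, B_smul_right Q, B_comm Q d a, hbad]
      linear_combination hr' + (Q d + Q d') * h2
    · rw [B_add_right Q, B_smul_right Q, B_self Q, hbad, hbd', h2]
      linear_combination h2
    · obtain ⟨c, hc⟩ := Submodule.mem_span_singleton.1 h
      have := congrArg (B a) hc
      simp [B_add_right Q, B_smul_right Q, B_self Q, hbad, h2] at this
  · obtain ⟨k, hk, hak, hQk, hka⟩ := exists_orth_in h2 hA han ha ha0
    obtain ⟨k', hk', hbk, hQk', -⟩ := exists_orth_in h2 hA' han' hb hb0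
    have hns : ∀ {A : Submodule F (ι → F)}, (∀ a ∈ A, Q a = 0 → a = 0) → ∀ p ∈ A, Q p ≠ 0 → ∀ e ∈ A, B p e = 0 →
        e ∉ F ∙ p → ¬ IsSquare (-(Q e * Q p)) := by
      intro A hanA p hp hQp e he hpe hep ⟨r, hr⟩
      have h := hanA (e + (r / Q p) • p) (A.add_mem he (A.smul_mem _ hp)) (by
        rw [Q_add Q, Q_smul Q, B_smul_right Q, B_comm Q e p, hpe]
        field_simp
        linear_combination -hr)
      exact hep (Submodule.mem_span_singleton.2 ⟨-(r / Q p), by
        rw [neg_smul, ← eq_neg_of_add_eq_zero_left h]⟩)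
    have hns1 := hns han a ha hQa k hk hak hka
    have hns2 := hns han' b hb (by rw [hQb]; exact neg_ne_zero.2 hQa) k' hk' hbk (fun h => hQk' (by
      obtain ⟨c, rfl⟩ := Submodule.mem_span_singleton.1 h
      rw [B_smul_right Q, B_self Q, mul_eq_zero, or_iff_left (mul_ne_zero h2 (by rw [hQb]; exact neg_ne_zero.2 hQa))] at hbk
      rw [hbk, zero_smul, map_zero]))
    obtain ⟨m, hm⟩ : IsSquare (-(Q k * Q k')) := by
      rw [← quadraticChar_one_iff_isSquare (neg_ne_zero.2 (mul_ne_zero hQk hQk'))]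
      have e1 := (quadraticChar_neg_one_iff_not_isSquare.2 hns1)
      have e2 := (quadraticChar_neg_one_iff_not_isSquare.2 hns2)
      have e3 : quadraticChar F (Q a * Q a) = 1 := by
        rw [quadraticChar_one_iff_isSquare (mul_ne_zero hQa hQa)]; exact ⟨Q a, rfl⟩
      have e : -(Q k * Q a) * -(Q k' * Q b) = -(Q k * Q k') * (Q a * Q a) := by rw [hQb]; ring
      have := congrArg (quadraticChar F) e
      rw [map_mul, map_mul (quadraticChar F) (-(Q k * Q k')), e1, e2, e3] at this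
      linear_combination -this
    refine mk k hk ((m / Q k') • k') (A'.smul_mem _ hk') ?_ ?_ hka
    · rw [Q_smul Q]
      field_simp
      linear_combination -hm
    · rw [B_smul_right Q, hak, hbk]; ring

end Aniso

variable (hQ : (QuadraticMap.polarBilin Q).Nondegenerate)
  (hwitt : ∀ U : Submodule F (ι → F), (∀ x ∈ U, Q x = 0) → finrank F U ≤ 3)

include hwitt in
theorem no_two_aniso [Finite F] {U A A' : Submodule F (ι → F)} (hUs : ∀ x ∈ U, Q x = 0) (hU : finrank F U = 2)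
    (hA : finrank F A = 2) (han : ∀ a ∈ A, Q a = 0 → a = 0) (hA' : finrank F A' = 2)
    (han' : ∀ a ∈ A', Q a = 0 → a = 0) (horth : ∀ a ∈ A, ∀ a' ∈ A', B a a' = 0)
    (hUA : ∀ x ∈ U, ∀ a ∈ A, B x a = 0) (hUA' : ∀ x ∈ U, ∀ a ∈ A', B x a = 0) : False := by
  obtain ⟨V, hV, hVs, hVd⟩ := two_aniso hA han hA' han' horth
  have hsing : ∀ z ∈ U ⊔ V, Q z = 0 := by
    intro z hz
    obtain ⟨p, hp, q, hq, rfl⟩ := Submodule.mem_sup.1 hz
    obtain ⟨a, ha, a', ha', rfl⟩ := Submodule.mem_sup.1 (hV hq)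
    rw [Q_add Q, hUs p hp, hVs _ hq, B_add_right Q, hUA p hp a ha, hUA' p hp a' ha']; ring
  have hinf : U ⊓ V = ⊥ := by
    rw [eq_bot_iff]
    rintro r ⟨hrU, hrV⟩
    obtain ⟨a, ha, a', ha', rfl⟩ := Submodule.mem_sup.1 (hV hrV)
    have e1 : a = 0 := nonDeg_of_aniso hA han a ha fun y hy => by
      have := hUA _ hrU y hy
      rwa [B_add_left Q, B_comm Q a' y, horth y hy a' ha', add_zero] at this
    subst e1
    have e2 : a' = 0 := nonDeg_of_aniso hA' han' a' ha' fun y hy => by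
      have := hUA' _ hrU y hy
      rwa [zero_add] at this
    rw [e2, add_zero]; exact Submodule.zero_mem _
  have h1 := hwitt _ hsing
  have h2 := Submodule.finrank_sup_add_finrank_inf_eq U V
  rw [hinf, finrank_bot] at h2
  omega

include hQ

theorem finrank_inf_perp {W P : Submodule F (ι → F)} (hW : NonDeg Q W) (hP : P ≤ W) :
    finrank F ↥(W ⊓ perp Q P) + finrank F P = finrank F W := by
  have h1 : W ⊓ perp Q P = perp Q (perp Q W ⊔ P) := by
    ext x
    constructor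
    · rintro ⟨hxW, hxP⟩ w hw
      obtain ⟨p, hp, r, hr, rfl⟩ := Submodule.mem_sup.1 hw
      show B (p + r) x = 0
      rw [B_add_left Q, B_comm Q p x, orth hp hxW, zero_add]
      exact hxP r hr
    · intro hx
      refine ⟨?_, fun r hr => hx r (Submodule.mem_sup_right hr)⟩
      rw [← perp_perp hQ W]
      exact fun r hr => hx r (Submodule.mem_sup_left hr)
  have h2 := Submodule.finrank_sup_add_finrank_inf_eq (perp Q W) P
  have h3 : perp Q W ⊓ P = ⊥ := by
    rw [eq_bot_iff]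
    rintro x ⟨hx, hxP⟩
    exact (inf_perp hW).le ⟨hP hxP, hx⟩
  have h5 : finrank F W ≤ Fintype.card ι := (Submodule.finrank_le W).trans_eq (Module.finrank_pi F)
  have h6 := Submodule.finrank_mono hP
  rw [h3, finrank_bot, finrank_perp hQ] at h2
  rw [h1, finrank_perp hQ]
  omega

variable [Finite F]

/-- In a non-degenerate four-space two hyperbolic pairs form a frame. -/
theorem frame {Y : Submodule F (ι → F)} (hY : NonDeg Q Y) (hd : finrank F Y = 4) {u v h k : ι → F}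
    (hu : u ∈ Y) (hv : v ∈ Y) (hh : h ∈ Y) (hk : k ∈ Y) (hQu : Q u = 0) (hQv : Q v = 0) (hQh : Q h = 0)
    (hQk : Q k = 0) (huv : B u v = 1) (hhk : B h k = 1) (huh : B u h = 0) (huk : B u k = 0) (hvh : B v h = 0)
    (hvk : B v k = 0) {w : ι → F} (hw : w ∈ Y) :
    w = B v w • u + B u w • v + B k w • h + B h w • k := by
  set r := w - (B v w • u + B u w • v + B k w • h + B h w • k) with hr
  have hrY : r ∈ Y := Y.sub_mem hw
    (Y.add_mem (Y.add_mem (Y.add_mem (Y.smul_mem _ hu) (Y.smul_mem _ hv)) (Y.smul_mem _ hh)) (Y.smul_mem _ hk))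
  have hr4 : B u r = 0 ∧ B v r = 0 ∧ B h r = 0 ∧ B k r = 0 := by
    refine ⟨?_, ?_, ?_, ?_⟩ <;>
      simp only [hr, B_sub_right Q, B_add_right Q, B_smul_right Q, B_self_of_singular Q hQu,
        B_self_of_singular Q hQv, B_self_of_singular Q hQh, B_self_of_singular Q hQk, huv, hhk, huh, huk, hvh,
        hvk, B_comm Q v u, B_comm Q k h, B_comm Q h u, B_comm Q k u, B_comm Q h v, B_comm Q k v] <;>
      ring
  have hli : LinearIndependent F ![u, v, h, k] := by
    rw [Fintype.linearIndependent_iff]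
    intro c hc
    rw [Fin.sum_univ_four] at hc
    simp only [Matrix.cons_val] at hc
    have e := fun p => congrArg (B p) hc
    have e1 := e v; have e2 := e u; have e3 := e k; have e4 := e h
    simp only [B_add_right Q, B_smul_right Q, B_self_of_singular Q hQu, B_zero_right Q,
        B_self_of_singular Q hQv, B_self_of_singular Q hQh, B_self_of_singular Q hQk, huv, hhk, huh, huk, hvh,
        hvk, B_comm Q v u, B_comm Q k h, B_comm Q h u, B_comm Q k u, B_comm Q h v, B_comm Q k v, mul_zero,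
        mul_one, add_zero, zero_add] at e1 e2 e3 e4
    intro i; fin_cases i <;> assumption
  have hspan : Submodule.span F (Set.range ![u, v, h, k]) = Y := by
    refine Submodule.eq_of_le_of_finrank_le (Submodule.span_le.2 ?_) ?_
    · rintro _ ⟨i, rfl⟩; fin_cases i <;> assumption
    · rw [finrank_span_eq_card hli, Fintype.card_fin, hd]
  have h0 : r = 0 := hY r hrY fun y hy => by
    rw [← hspan] at hy
    rw [B_comm Q]
    refine B_comm Q y r ▸ ?_
    induction hy using Submodule.span_induction with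
    | mem y hy =>
      obtain ⟨i, rfl⟩ := hy
      rw [B_comm Q r]
      fin_cases i
      · exact hr4.1
      · exact hr4.2.1
      · exact hr4.2.2.1
      · exact hr4.2.2.2
    | zero => exact B_zero_right Q r
    | add y z _ _ hy hz => rw [B_add_right Q, hy, hz, add_zero]
    | smul c y _ hy => rw [B_smul_right Q, hy, mul_zero]
  exact sub_eq_zero.1 h0

section Spread

variable (hn : 5 ≤ Fintype.card ι) {W : Submodule F (ι → F)} (hW : NonDeg Q W) {M : Subgroup (GL ι F)}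
  (hS : ∀ u ∈ W, ∀ w ∈ W, sg Q u w ∈ M) (hS' : ∀ u ∈ perp Q W, ∀ w ∈ perp Q W, sg Q u w ∈ M)
include hn hW hS hS'

/-- A single transfer generates everything when both summands have dimension at least three. -/
theorem omega_le_of_one (h3 : 3 ≤ finrank F W) (h3' : 3 ≤ finrank F (perp Q W)) {u a : ι → F} (hu : u ∈ W)
    (hu0 : u ≠ 0) (hQu : Q u = 0) (ha : a ∈ perp Q W) (ha0 : a ≠ 0) (hmem : sg Q u a ∈ M) :
    Cfsg.Geo.omegaGL Q ≤ M := by
  set Y := perp Q W with hYdef
  have hY : NonDeg Q Y := nonDeg_perp hQ hW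
  let T : AddSubgroup (ι → F) :=
    { carrier := {x | x ∈ Y ∧ sg Q u x ∈ M}
      add_mem' := fun {x y} hx hy => ⟨Y.add_mem hx.1 hy.1, by
        rw [← sg_add Q hQu (orth hx.1 hu) (orth hy.1 hu)]; exact mul_mem hx.2 hy.2⟩
      zero_mem' := ⟨Y.zero_mem, by rw [sg_zero]; exact one_mem _⟩
      neg_mem' := fun {x} hx => ⟨Y.neg_mem hx.1, by
        rw [sg_neg Q hQu (orth hx.1 hu)]; exact inv_mem hx.2⟩ }
  have hconj : ∀ s ∈ Y, ∀ w ∈ Y, ∀ x ∈ T, Q s = 0 → B s w = 0 → act (sg Q s w) x - x ∈ T := by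
    intro s hs w hw x hx hQs hsw
    refine T.sub_mem ⟨?_, ?_⟩ hx
    · rw [act_sg Q hQs hsw]
      exact Y.sub_mem (Y.add_mem hx.1 (Y.smul_mem _ hw)) (Y.smul_mem _ hs)
    · have h := mul_mem (mul_mem (hS' s hs w hw) hx.2) (inv_mem (hS' s hs w hw))
      rwa [conj_sg Q (sg_mem_iso Q s w), act_sg_fix Q hQs hsw ((B_comm Q s u).trans (orth hs hu))
        ((B_comm Q w u).trans (orth hw hu))] at h
  have step : ∀ x ∈ T, ∀ s ∈ Y, Q s = 0 → B s x = 0 → x ∉ F ∙ s → ∀ c : F, c • s ∈ T := by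
    intro x hx s hs hQs hsx hxs c
    obtain ⟨w, hw, hws, hxw⟩ := exists_one_in hQ hY ((Submodule.span_singleton_le_iff_mem _ _).2 hs) hx.1 hxs
    have hsw : B s ((-c) • w) = 0 := by rw [B_smul_right Q, hws s (Submodule.mem_span_singleton_self s), mul_zero]
    have h := hconj s hs _ (Y.smul_mem (-c) hw) x hx hQs hsw
    rw [act_sg Q hQs hsw, hsx, B_smul_left Q, B_comm Q w x, hxw] at h
    convert h using 1
    module
  have gen : ∀ x ∈ T, ∀ s ∈ Y, Q s = 0 → x ∉ F ∙ s → ∀ c : F, c • s ∈ T := by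
    intro x hx s hs hQs hxs
    rcases eq_or_ne s 0 with rfl | hs0
    · intro c; rw [smul_zero]; exact T.zero_mem
    rcases eq_or_ne (B s x) 0 with h0 | h0
    · exact step x hx s hs hQs h0 hxs
    obtain ⟨w, ⟨hw, hws⟩, hwE⟩ := SetLike.not_le_iff_exists.1 fun hle : Y ⊓ perp Q (F ∙ s) ≤ F ∙ s => by
      have h1 := (Submodule.finrank_mono hle).trans_eq (finrank_span_singleton hs0)
      have h2 := finrank_inf_perp hQ hY ((Submodule.span_singleton_le_iff_mem _ _).2 hs)
      rw [finrank_span_singleton hs0] at h2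
      omega
    have hsw : B s w = 0 := hws s (Submodule.mem_span_singleton_self s)
    have h := hconj s hs w hw x hx hQs hsw
    rw [act_sg Q hQs hsw] at h
    refine step _ h s hs hQs ?_ fun hm => hwE ?_
    · simp only [B_sub_right Q, B_add_right Q, B_smul_right Q, hsw, B_self_of_singular Q hQs]
      ring
    · obtain ⟨c, hc⟩ := Submodule.mem_span_singleton.1 hm
      refine Submodule.mem_span_singleton.2 ⟨(B s x)⁻¹ * (c + (B w x + Q w * B s x)), ?_⟩
      rw [← smul_smul, add_smul, hc]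
      match_scalars <;> field_simp <;> ring
  let N : Submodule F (ι → F) :=
    { carrier := {x | ∀ c : F, c • x ∈ T}
      add_mem' := fun {x y} hx hy c => by rw [smul_add]; exact T.add_mem (hx c) (hy c)
      zero_mem' := fun c => by rw [smul_zero]; exact T.zero_mem
      smul_mem' := fun d x hx c => by rw [smul_smul]; exact hx _ }
  have hall : Y ≤ N := le_of_singular_le hQ hY h3' fun s hs hQs => by
    rcases eq_or_ne s 0 with rfl | hs0
    · exact N.zero_mem
    by_cases has : a ∈ F ∙ s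
    swap
    · exact gen a ⟨ha, hmem⟩ s hs hQs has
    obtain ⟨l, hl⟩ := Submodule.mem_span_singleton.1 has
    obtain ⟨z, hz, -, hsz⟩ := exists_one_in hQ hY (P := ⊥) bot_le hs (by simpa using hs0)
    obtain ⟨t, ht, hQt, hst⟩ := exists_partner Q hQs hs hz (by rw [hsz]; exact one_ne_zero)
    have hat : a ∉ F ∙ t := fun h => by
      obtain ⟨m, hm⟩ := Submodule.mem_span_singleton.1 h
      have e := congrArg (B s) (hm.trans hl.symm)
      rw [B_smul_right Q, B_smul_right Q, hst, B_self_of_singular Q hQs, mul_one, mul_zero] at e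
      exact ha0 (by rw [← hm, e, zero_smul])
    refine gen t ?_ s hs hQs fun h => ?_
    · simpa using gen a ⟨ha, hmem⟩ t ht hQt hat 1
    · obtain ⟨m, hm⟩ := Submodule.mem_span_singleton.1 h
      rw [← hm, B_smul_right Q, B_self_of_singular Q hQs, mul_zero] at hst
      exact zero_ne_one hst
  have full : Full Q M u := by
    intro w hw
    obtain ⟨w₁, hw₁, w₂, hw₂, rfl⟩ := exists_split hQ hW w
    have h2 : B u w₂ = 0 := orth hw₂ hu
    have h1 : B u w₁ = 0 := by rw [B_add_right Q, h2, add_zero] at hw; exact hw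
    rw [← sg_add Q hQu h1 h2]
    refine mul_mem (hS u hu w₁ hw₁) ?_
    have := hall hw₂ 1
    rw [one_smul] at this
    exact this.2
  obtain ⟨z, hz, -, huz⟩ := exists_one_in hQ hW (P := ⊥) bot_le hu (by simpa using hu0)
  obtain ⟨t, ht, hQt, hut⟩ := exists_partner Q hQu hu hz (by rw [huz]; exact one_ne_zero)
  set P := Submodule.span F (Set.range ![u, t]) with hP
  have hPW : P ≤ W := Submodule.span_le.2 (by rintro _ ⟨i, rfl⟩; fin_cases i <;> assumption)
  obtain ⟨w, hw, hQw⟩ : ∃ w ∈ W ⊓ perp Q P, Q w ≠ 0 := by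
    by_contra hc
    push Not at hc
    have h := finrank_inf_perp hQ hW hPW
    have h' := finrank_span_list_le ![u, t]
    rw [← hP] at h'
    obtain ⟨w, hw, hw0⟩ := Submodule.exists_mem_ne_zero_of_ne_bot (p := W ⊓ perp Q P) fun e => by
      rw [e, finrank_bot] at h; omega
    refine hw0 (hW w hw.1 fun y hy => ?_)
    set y' := y - B t y • u - B u y • t with hy'
    have hy'P : y' ∈ W ⊓ perp Q P := by
      refine ⟨W.sub_mem (W.sub_mem hy (W.smul_mem _ hu)) (W.smul_mem _ ht), (mem_perp_span Q).2 ?_⟩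
      rintro _ ⟨i, rfl⟩
      fin_cases i
      · show B u y' = 0
        rw [hy', B_sub_right Q, B_sub_right Q, B_smul_right Q, B_smul_right Q, B_self_of_singular Q hQu, hut]
        ring
      · show B t y' = 0
        rw [hy', B_sub_right Q, B_sub_right Q, B_smul_right Q, B_smul_right Q, B_self_of_singular Q hQt,
          B_comm Q t u, hut]
        ring
    have e0 : B w y' = 0 := B_eq_zero_of_singular hc hw hy'P
    rw [hy', B_sub_right Q, B_sub_right Q, B_smul_right Q, B_smul_right Q, B_comm Q w u,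
      orth hw.2 (show u ∈ P from Submodule.subset_span ⟨0, rfl⟩), B_comm Q w t,
      orth hw.2 (show t ∈ P from Submodule.subset_span ⟨1, rfl⟩)] at e0
    simpa using e0
  have htw : B t w = 0 := orth hw.2 (Submodule.subset_span ⟨1, rfl⟩)
  have huw : B u w = 0 := orth hw.2 (Submodule.subset_span ⟨0, rfl⟩)
  refine omega_le_of_full hQ hn hQu (by rw [Q_act (sg_mem_iso Q t w), hQu] : Q (act (sg Q t w) u) = 0) ?_ full
    (full.act (hS t ht w hw.1) (sg_mem_iso Q t w))
  rw [act_sg Q hQt htw, B_sub_right Q, B_add_right Q, B_smul_right Q, B_smul_right Q,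
    B_self_of_singular Q hQu, huw, hut, B_comm Q t u, hut, B_comm Q w u, huw]
  simpa using hQw

end Spread

section Core

variable {W : Submodule F (ι → F)} (hW : NonDeg Q W) (hd : finrank F W = 4) (hd' : finrank F (perp Q W) = 4)
  (hplane : ∃ U : Submodule F (ι → F), U ≤ W ∧ (∀ x ∈ U, Q x = 0) ∧ finrank F U = 2)
include hwitt hW hd hd' hplane

omit hW hd hd' hwitt in
theorem exists_point {p : ι → F} (hp : p ∈ W) : ∃ s ∈ W, Q s = 0 ∧ B p s = 0 ∧ s ∉ F ∙ p := by
  obtain ⟨U, hUW, hUs, hUd⟩ := hplane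
  rcases eq_or_ne p 0 with rfl | hp0
  · obtain ⟨s, hs, hs0⟩ := Submodule.exists_mem_ne_zero_of_ne_bot (p := U) fun e => by
      rw [e, finrank_bot] at hUd; omega
    exact ⟨s, hUW hs, hUs s hs, B_zero_left Q s, by simpa using hs0⟩
  have h1 := finrank_inf_perp_ge hQ U (F ∙ p)
  rw [finrank_span_singleton hp0] at h1
  by_cases hle : U ⊓ perp Q (F ∙ p) ≤ F ∙ p
  · have hpU : p ∈ U := by
      have := Submodule.eq_of_le_of_finrank_le hle (by rw [finrank_span_singleton hp0]; omega)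
      exact (this.ge (Submodule.mem_span_singleton_self p)).1
    obtain ⟨s, hs, hsp⟩ := SetLike.not_le_iff_exists.1 fun h : U ≤ F ∙ p => by
      have := (Submodule.finrank_mono h).trans_eq (finrank_span_singleton hp0); omega
    exact ⟨s, hUW hs, hUs s hs, B_eq_zero_of_singular hUs hpU hs, hsp⟩
  · obtain ⟨s, ⟨hs, hsp⟩, hsn⟩ := SetLike.not_le_iff_exists.1 hle
    exact ⟨s, hUW hs, hUs s hs, hsp p (Submodule.mem_span_singleton_self p), hsn⟩

omit hd hd' in
theorem singular_perp_le {V : Submodule F (ι → F)} (hV : V ≤ perp Q W) (hVs : ∀ x ∈ V, Q x = 0) :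
    finrank F V ≤ 1 := by
  obtain ⟨U, hUW, hUs, hUd⟩ := hplane
  have h1 := hwitt (U ⊔ V) fun z hz => by
    obtain ⟨p, hp, q, hq, rfl⟩ := Submodule.mem_sup.1 hz
    rw [Q_add Q, hUs p hp, hVs q hq, orth (hV hq) (hUW hp)]; ring
  have h2 := Submodule.finrank_sup_add_finrank_inf_eq U V
  have h3 : U ⊓ V = ⊥ := by
    rw [eq_bot_iff]
    rintro x ⟨hx, hx'⟩
    exact (inf_perp hW).le ⟨hUW hx, hV hx'⟩
  rw [h3, finrank_bot] at h2
  omega

variable {M : Subgroup (GL ι F)} (hS : ∀ u ∈ W, ∀ w ∈ W, sg Q u w ∈ M)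
  (hS' : ∀ u ∈ perp Q W, ∀ w ∈ perp Q W, sg Q u w ∈ M) (hno : NoTransfer Q W M)
  (hno' : NoTransfer Q (perp Q W) M) {g : GL ι F} (hgM : g ∈ M) (hgI : g ∈ isometryGroup F Q)
include hS hS' hno hno' hgM hgI

/-- The image of the orthogonal space of a moved singular point lies in one summand and the image point. -/
theorem side {u : ι → F} (hu : u ∈ W) (hQu : Q u = 0) (hx : act g u ∉ W) :
    act g u ∉ perp Q W ∧ ∃ h k : ι → F, ((h ∈ W ∧ k ∈ W) ∨ (h ∈ perp Q W ∧ k ∈ perp Q W)) ∧ Q h = 0 ∧ Q k = 0 ∧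
      B h k = 1 ∧ B (act g u) h = 0 ∧ B (act g u) k = 0 ∧ h ∈ W.map (act g) ∧
      ∀ b ∈ W, B u b = 0 → ∃ α β γ : F, act g b = α • act g u + β • h + γ • k := by
  have hu0 : u ≠ 0 := fun e => hx (by rw [e, map_zero]; exact W.zero_mem)
  set x := act g u with hxdef
  have hQx : Q x = 0 := by rw [hxdef, Q_act hgI, hQu]
  obtain ⟨x₁, hx₁, x₂, hx₂, hxe⟩ := exists_split hQ hW x
  have hx20 : x₂ ≠ 0 := fun e => hx (by rw [hxe, e, add_zero]; exact hx₁)
  have hWW' : ∀ p ∈ W, ∀ q ∈ perp Q W, B q p = 0 := fun p hp q hq => (B_comm Q q p).trans (orth hq hp)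
  have L : ∀ b₀ ∈ W, B u b₀ = 0 → B x (act g b₀) = 0 ∧ sg Q x (act g b₀) ∈ M := by
    intro b₀ hb₀ h0
    refine ⟨by rw [hxdef, B_act hgI, h0], ?_⟩
    have := mul_mem (mul_mem hgM (hS u hu b₀ hb₀)) (inv_mem hgM)
    rwa [conj_sg Q hgI] at this
  obtain ⟨s₀, hs₀, hQs₀, hus₀, hs₀u⟩ := exists_point hQ hplane hu
  have hx10 : x₁ ≠ 0 := by
    intro hx10
    subst hx10
    have hperp : ∀ b₀ ∈ W, B u b₀ = 0 → act g b₀ ∈ perp Q W := by
      intro b₀ hb₀ h0
      obtain ⟨hxb, hr⟩ := L b₀ hb₀ h0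
      obtain ⟨b₁, hb₁, b₂, hb₂, hbe⟩ := exists_split hQ hW (act g b₀)
      rcases eq_or_ne b₁ 0 with rfl | hb10
      · rw [hbe, zero_add]; exact hb₂
      obtain ⟨s, hs, hQs, hb1s, hsb⟩ := exists_point hQ hplane hb₁
      obtain ⟨p, q, hpq⟩ := mem_span_pair_iff_range.1 (confine hQ hW hS hno hQx hxb hr hx₁ hx₂ hxe hb₁ hb₂ hbe
        hx20 hs (fun e => hsb (by rw [e]; exact Submodule.zero_mem _)) hQs (B_zero_left Q s) hb1s).1
      rw [smul_zero, zero_add] at hpq
      refine absurd (Submodule.mem_span_singleton.2 ⟨q⁻¹, ?_⟩) hsb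
      rw [← hpq, smul_smul, inv_mul_cancel₀ (fun e => hb10 (by rw [← hpq, e, zero_smul])), one_smul]
    have h1 := singular_perp_le hQ hwitt hW hplane
      (V := (Submodule.span F (Set.range ![u, s₀])).map (act g)) (by
        rintro _ ⟨y, hy, rfl⟩
        obtain ⟨p, q, rfl⟩ := mem_span_pair_iff_range.1 hy
        exact hperp _ (W.add_mem (W.smul_mem _ hu) (W.smul_mem _ hs₀))
          (by rw [B_add_right Q, B_smul_right Q, B_smul_right Q, B_self_of_singular Q hQu, hus₀]; ring))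
      (by rintro _ ⟨y, hy, rfl⟩; rw [Q_act hgI]; exact singular_pair hQu hQs₀ hus₀ y hy)
    rw [finrank_map_act, finrank_pair hu0 hs₀u] at h1
    omega
  refine ⟨fun h => hx10 ?_, ?_⟩
  · have h1 : x₁ ∈ perp Q W := by
      have : x₁ = x - x₂ := by rw [hxe, add_sub_cancel_right]
      rw [this]; exact (perp Q W).sub_mem h hx₂
    exact (Submodule.eq_bot_iff _).1 (inf_perp hW) x₁ ⟨hx₁, h1⟩
  have claim : ∀ b₀ ∈ W, B u b₀ = 0 → Q b₀ = 0 → b₀ ∉ F ∙ u →
      ∃ c : F, act g b₀ - c • x ∈ W ∨ act g b₀ - c • x ∈ perp Q W := by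
    intro b₀ hb₀ h0 hQb₀ hb₀u
    obtain ⟨hxb, hr⟩ := L b₀ hb₀ h0
    obtain ⟨b₁, hb₁, b₂, hb₂, hbe⟩ := exists_split hQ hW (act g b₀)
    have hQb : Q (act g b₀) = 0 := by rw [Q_act hgI, hQb₀]
    have gen : ∀ (Y : Submodule F (ι → F)), NonDeg Q Y → (∀ p ∈ Y, ∀ q ∈ Y, sg Q p q ∈ M) → NoTransfer Q Y M →
        ∀ y₁ ∈ Y, ∀ y₂ ∈ perp Q Y, ∀ c₁ ∈ Y, ∀ c₂ ∈ perp Q Y, x = y₁ + y₂ → act g b₀ = c₁ + c₂ → y₁ ≠ 0 →
        y₂ ≠ 0 → ∀ s ∈ Y, s ≠ 0 → Q s = 0 → B y₁ s = 0 → B c₁ s = 0 →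
        ∃ c : F, act g b₀ - c • x ∈ Y ∨ act g b₀ - c • x ∈ perp Q Y := by
      intro Y hY hSY hnoY y₁ hy₁ y₂ hy₂ c₁ hc₁ c₂ hc₂ hye hce hy10 hy20 s hs hs0 hQs hys hcs
      obtain ⟨hspan, hrest⟩ := confine hQ hY hSY hnoY hQx hxb hr hy₁ hy₂ hye hc₁ hc₂ hce hy20 hs hs0 hQs hys hcs
      by_cases hys' : y₁ ∈ F ∙ s
      · obtain ⟨m, hm⟩ := Submodule.mem_span_singleton.1 hys'
        have hm0 : m ≠ 0 := fun e => hy10 (by rw [← hm, e, zero_smul])
        obtain ⟨p, q, hpq⟩ := mem_span_pair_iff_range.1 hspan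
        refine ⟨p + q / m, Or.inr ?_⟩
        have e : c₁ = (p + q / m) • y₁ := by
          rw [← hpq, ← hm, add_smul, smul_smul (q / m), div_mul_cancel₀ _ hm0]
        rw [hce, hye, e, smul_add, show (p + q / m) • y₁ + c₂ - ((p + q / m) • y₁ + (p + q / m) • y₂) =
          c₂ - (p + q / m) • y₂ by abel]
        exact (perp Q Y).sub_mem hc₂ ((perp Q Y).smul_mem _ hy₂)
      · obtain ⟨α, β, e⟩ := hrest hys'
        refine ⟨β, Or.inl ?_⟩
        rw [hQb, zero_smul, add_zero] at e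
        rw [e, add_sub_cancel_right]
        exact Y.smul_mem _ hs
    by_cases hex₁ : ∃ s ∈ W, s ≠ 0 ∧ Q s = 0 ∧ B x₁ s = 0 ∧ B b₁ s = 0
    · obtain ⟨s, hs, hs0, hQs, h1, h2⟩ := hex₁
      exact gen W hW hS hno x₁ hx₁ x₂ hx₂ b₁ hb₁ b₂ hb₂ hxe hbe hx10 hx20 s hs hs0 hQs h1 h2
    by_cases hex₂ : ∃ s ∈ perp Q W, s ≠ 0 ∧ Q s = 0 ∧ B x₂ s = 0 ∧ B b₂ s = 0
    · obtain ⟨s, hs, hs0, hQs, h1, h2⟩ := hex₂
      obtain ⟨c, hc⟩ := gen (perp Q W) (nonDeg_perp hQ hW) hS' hno' x₂ hx₂ x₁ (by rwa [perp_perp hQ])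
        b₂ hb₂ b₁ (by rwa [perp_perp hQ]) (hxe.trans (add_comm _ _)) (hbe.trans (add_comm _ _)) hx20 hx10 s hs
        hs0 hQs h1 h2
      rw [perp_perp hQ] at hc
      exact ⟨c, hc.symm⟩
    exfalso
    push Not at hex₁ hex₂
    have plane : ∀ (Y : Submodule F (ι → F)), NonDeg Q Y → finrank F Y = 4 → ∀ y c : ι → F, y ∈ Y → c ∈ Y →
        (∀ s ∈ Y, s ≠ 0 → Q s = 0 → B y s = 0 → B c s ≠ 0) →
        finrank F ↥(Y ⊓ perp Q (Submodule.span F (Set.range ![y, c]))) = 2 ∧
          ∀ s ∈ Y ⊓ perp Q (Submodule.span F (Set.range ![y, c])), Q s = 0 → s = 0 := by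
      intro Y hY hYd y c hy hc hnone
      have han : ∀ s ∈ Y ⊓ perp Q (Submodule.span F (Set.range ![y, c])), Q s = 0 → s = 0 := by
        rintro s ⟨hs, hsP⟩ hQs
        by_contra hs0
        exact hnone s hs hs0 hQs (orth hsP (Submodule.subset_span ⟨0, rfl⟩))
          (orth hsP (Submodule.subset_span ⟨1, rfl⟩))
      refine ⟨?_, han⟩
      have h1 := finrank_inf_perp hQ hY (P := Submodule.span F (Set.range ![y, c]))
        (Submodule.span_le.2 (by rintro _ ⟨i, rfl⟩; fin_cases i <;> assumption))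
      have h2 := finrank_span_list_le ![y, c]
      by_contra h3
      obtain ⟨s, hs, hs0, hQs⟩ := exists_singular Q (D := Y ⊓ perp Q (Submodule.span F (Set.range ![y, c])))
        (by omega)
      exact hs0 (han s hs hQs)
    obtain ⟨hA, hanA⟩ := plane W hW hd x₁ b₁ hx₁ hb₁ hex₁
    obtain ⟨hA', hanA'⟩ := plane (perp Q W) (nonDeg_perp hQ hW) hd' x₂ b₂ hx₂ hb₂ hex₂
    refine no_two_aniso hwitt (U := Submodule.span F (Set.range ![x, act g b₀])) (singular_pair hQx hQb hxb)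
      (finrank_pair (fun e => hu0 (act_injective g (e.trans (map_zero _).symm))) fun h => ?_)
      hA hanA hA' hanA' (fun a ha a' ha' => orth ha'.1 ha.1) ?_ ?_
    · obtain ⟨c, hc⟩ := Submodule.mem_span_singleton.1 h
      exact hb₀u (Submodule.mem_span_singleton.2 ⟨c, act_injective g (by rw [map_smul]; exact hc)⟩)
    · rintro z hz a ⟨ha, haP⟩
      obtain ⟨p, q, rfl⟩ := mem_span_pair_iff_range.1 hz
      rw [B_add_left Q, B_smul_left Q, B_smul_left Q, hxe, hbe, B_add_left Q, B_add_left Q,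
        orth haP (show x₁ ∈ Submodule.span F (Set.range ![x₁, b₁]) from Submodule.subset_span ⟨0, rfl⟩),
        orth haP (show b₁ ∈ Submodule.span F (Set.range ![x₁, b₁]) from Submodule.subset_span ⟨1, rfl⟩),
        hWW' a ha x₂ hx₂, hWW' a ha b₂ hb₂]
      ring
    · rintro z hz a ⟨ha, haP⟩
      obtain ⟨p, q, rfl⟩ := mem_span_pair_iff_range.1 hz
      rw [B_add_left Q, B_smul_left Q, B_smul_left Q, hxe, hbe, B_add_left Q, B_add_left Q,
        orth haP (show x₂ ∈ Submodule.span F (Set.range ![x₂, b₂]) from Submodule.subset_span ⟨0, rfl⟩),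
        orth haP (show b₂ ∈ Submodule.span F (Set.range ![x₂, b₂]) from Submodule.subset_span ⟨1, rfl⟩),
        orth ha hx₁, orth ha hb₁]
      ring
  -- a frame of `W`
  obtain ⟨z, hz, -, huz⟩ := exists_one_in hQ hW (P := ⊥) bot_le hu (by simpa using hu0)
  obtain ⟨v, hv, hQv, huv⟩ := exists_partner Q hQu hu hz (by rw [huz]; exact one_ne_zero)
  set h₀ := s₀ - B v s₀ • u with hh₀
  have hh₀W : h₀ ∈ W := W.sub_mem hs₀ (W.smul_mem _ hu)
  have huh₀ : B u h₀ = 0 := by
    rw [hh₀, B_sub_right Q, B_smul_right Q, hus₀, B_self_of_singular Q hQu]; ring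
  have hvh₀ : B v h₀ = 0 := by
    rw [hh₀, B_sub_right Q, B_smul_right Q, B_comm Q v u, huv]; ring
  have hQh₀ : Q h₀ = 0 := by
    rw [hh₀, Q_sub Q, Q_smul Q, B_smul_right Q, hQs₀, hQu, B_comm Q s₀ u, hus₀]; ring
  have hh₀u : h₀ ∉ F ∙ u := fun h => hs₀u (by
    have := (F ∙ u).add_mem h ((F ∙ u).smul_mem (B v s₀) (Submodule.mem_span_singleton_self u))
    rwa [hh₀, sub_add_cancel] at this)
  obtain ⟨z', hz', hzP, hhz⟩ := exists_one_in hQ hW (P := Submodule.span F (Set.range ![u, v]))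
    (Submodule.span_le.2 (by rintro _ ⟨i, rfl⟩; fin_cases i <;> assumption)) hh₀W fun h => by
      obtain ⟨p, q, hpq⟩ := mem_span_pair_iff_range.1 h
      refine hh₀u (Submodule.mem_span_singleton.2 ⟨p, ?_⟩)
      have hq : q = 0 := by
        have := huh₀
        rwa [← hpq, B_add_right Q, B_smul_right Q, B_smul_right Q, B_self_of_singular Q hQu, huv, mul_zero,
          zero_add, mul_one] at this
      rw [← hpq, hq, zero_smul, add_zero]
  set k₀ := z' - Q z' • h₀ with hk₀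
  have hk₀W : k₀ ∈ W := W.sub_mem hz' (W.smul_mem _ hh₀W)
  have hhk₀ : B h₀ k₀ = 1 := by
    rw [hk₀, B_sub_right Q, B_smul_right Q, hhz, B_self_of_singular Q hQh₀]; ring
  have huk₀ : B u k₀ = 0 := by
    rw [hk₀, B_sub_right Q, B_smul_right Q, hzP u (Submodule.subset_span ⟨0, rfl⟩), huh₀]; ring
  have hvk₀ : B v k₀ = 0 := by
    rw [hk₀, B_sub_right Q, B_smul_right Q, hzP v (Submodule.subset_span ⟨1, rfl⟩), hvh₀]; ring
  have hQk₀ : Q k₀ = 0 := by
    rw [hk₀, Q_sub Q, Q_smul Q, B_smul_right Q, hQh₀, B_comm Q z' h₀, hhz]; ring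
  have hk₀u : k₀ ∉ F ∙ u := fun h => by
    obtain ⟨c, hc⟩ := Submodule.mem_span_singleton.1 h
    rw [← hc, B_smul_right Q, B_comm Q h₀ u, huh₀, mul_zero] at hhk₀
    exact zero_ne_one hhk₀
  obtain ⟨c, hc⟩ := claim h₀ hh₀W huh₀ hQh₀ hh₀u
  obtain ⟨c', hc'⟩ := claim k₀ hk₀W huk₀ hQk₀ hk₀u
  have hxh₀ : B x (act g h₀) = 0 := (L h₀ hh₀W huh₀).1
  have hxk₀ : B x (act g k₀) = 0 := (L k₀ hk₀W huk₀).1
  set h := act g h₀ - c • x with hhdef
  set k := act g k₀ - c' • x with hkdef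
  have hBhk : B h k = 1 := by
    rw [hhdef, hkdef, B_sub_left Q, B_sub_right Q, B_sub_right Q, B_smul_left Q, B_smul_left Q, B_smul_right Q,
      B_smul_right Q, B_act hgI, hhk₀, B_comm Q (act g h₀) x, hxh₀, hxk₀, B_self_of_singular Q hQx]
    ring
  refine ⟨h, k, ?_, ?_, ?_, hBhk, ?_, ?_, ?_, fun b hb hub => ?_⟩
  · rcases hc with hc | hc <;> rcases hc' with hc' | hc'
    · exact Or.inl ⟨hc, hc'⟩
    · exact absurd ((orth hc' hc).symm.trans hBhk) zero_ne_one
    · exact absurd ((hWW' k hc' h hc).symm.trans hBhk) zero_ne_one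
    · exact Or.inr ⟨hc, hc'⟩
  · rw [hhdef, Q_sub Q, Q_smul Q, B_smul_right Q, Q_act hgI, hQh₀, hQx, B_comm Q (act g h₀) x, hxh₀]; ring
  · rw [hkdef, Q_sub Q, Q_smul Q, B_smul_right Q, Q_act hgI, hQk₀, hQx, B_comm Q (act g k₀) x, hxk₀]; ring
  · rw [hhdef, B_sub_right Q, B_smul_right Q, hxh₀, B_self_of_singular Q hQx]; ring
  · rw [hkdef, B_sub_right Q, B_smul_right Q, hxk₀, B_self_of_singular Q hQx]; ring
  · refine ⟨h₀ - c • u, W.sub_mem hh₀W (W.smul_mem _ hu), ?_⟩
    rw [map_sub, map_smul]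
  · have e := frame hQ hW hd hu hv hh₀W hk₀W hQu hQv hQh₀ hQk₀ huv hhk₀ huh₀ huk₀ hvh₀ hvk₀ hb
    rw [hub, zero_smul, add_zero] at e
    refine ⟨B v b + B k₀ b * c + B h₀ b * c', B k₀ b, B h₀ b, ?_⟩
    conv_lhs => rw [e]
    rw [map_add, map_add, map_smul, map_smul, map_smul, ← hxdef, hhdef, hkdef]
    module

/-- A moved `W` lies in one summand and a line. -/
theorem rank_one (hgS : g ∉ Cfsg.Geo.subspaceStabilizer W) :
    ∃ Y : Submodule F (ι → F), (Y = W ∨ Y = perp Q W) ∧ ∃ y' ∈ perp Q Y, y' ≠ 0 ∧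
      W.map (act g) ≤ Y ⊔ F ∙ y' := by
  obtain ⟨u, hu, hQu, hx⟩ : ∃ u ∈ W, Q u = 0 ∧ act g u ∉ W := by
    by_contra hc
    push Not at hc
    exact hgS (mem_subspaceStabilizer_of_le
      (le_of_singular_le hQ hW (by omega) (N := W.comap (act g)) hc))
  obtain ⟨hx', h, k, hside, hQh, hQk, hhk, hxh, hxk, hhW, hG⟩ :=
    side hQ hwitt hW hd hd' hplane hS hS' hno hno' hgM hgI hu hQu hx
  set x := act g u with hxdef
  have hQx : Q x = 0 := by rw [hxdef, Q_act hgI, hQu]
  obtain ⟨Y, hY, hYn, hhY, hkY⟩ : ∃ Y : Submodule F (ι → F), (Y = W ∨ Y = perp Q W) ∧ NonDeg Q Y ∧ h ∈ Y ∧ k ∈ Y := by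
    rcases hside with ⟨a, b⟩ | ⟨a, b⟩
    · exact ⟨W, Or.inl rfl, hW, a, b⟩
    · exact ⟨_, Or.inr rfl, nonDeg_perp hQ hW, a, b⟩
  refine ⟨Y, hY, ?_⟩
  obtain ⟨y, hy, y', hy', hye⟩ := exists_split hQ hYn x
  have hdisj : ∀ a ∈ Y, a ∈ perp Q Y → a = 0 := fun a h1 h2 =>
    (Submodule.eq_bot_iff _).1 (inf_perp hYn) a ⟨h1, h2⟩
  have hy0 : y ≠ 0 := fun e => by
    rw [e, zero_add] at hye
    rcases hY with rfl | rfl
    · exact hx' (by rw [hye]; exact hy')
    · exact hx (by rw [perp_perp hQ] at hy'; rw [hye]; exact hy')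
  have hy'0 : y' ≠ 0 := fun e => by
    rw [e, add_zero] at hye
    rcases hY with rfl | rfl
    · exact hx (by rw [hye]; exact hy)
    · exact hx' (by rw [hye]; exact hy)
  refine ⟨y', hy', hy'0, ?_⟩
  have hyk : B y k = 0 := by
    have := hxk
    rwa [hye, B_add_left Q, B_comm Q y', orth hy' hkY, add_zero] at this
  obtain ⟨h₁, hh₁, hgh⟩ := hhW
  set u' := u + h₁ with hu'
  have hu'W : u' ∈ W := W.add_mem hu hh₁
  have hgu' : act g u' = x + h := by rw [hu', map_add, hgh]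
  have hQu' : Q u' = 0 := by
    rw [← Q_act hgI, hgu', Q_add Q, hQx, hQh, hxh]; ring
  have hyh : y + h ≠ 0 := fun e => by
    have := hhk
    rw [eq_neg_of_add_eq_zero_left (show h + y = 0 by rw [add_comm]; exact e), B_neg_left Q, hyk, neg_zero] at this
    exact zero_ne_one this
  have hgu'n : act g u' ∉ W := by
    intro hm
    rw [hgu', hye, show y + y' + h = (y + h) + y' by abel] at hm
    rcases hY with rfl | rfl
    · refine hy'0 (hdisj y' ?_ hy')
      have := Y.sub_mem hm (Y.add_mem hy hhY)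
      rwa [add_sub_cancel_left] at this
    · rw [perp_perp hQ] at hy' hdisj
      refine hyh (hdisj (y + h) ((perp Q W).add_mem hy hhY) ?_)
      have := W.sub_mem hm hy'
      rwa [add_sub_cancel_right] at this
  obtain ⟨-, h₂, k₂, hside₂, -, -, -, -, -, -, hG'⟩ :=
    side hQ hwitt hW hd hd' hplane hS hS' hno hno' hgM hgI hu'W hQu' hgu'n
  rw [hgu'] at hG'
  have hu'h : B u' h₁ = 0 := by
    rw [← B_act hgI, hgu', hgh, B_add_left Q, hxh, B_self_of_singular Q hQh, add_zero]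
  obtain ⟨hh₂, hk₂⟩ : h₂ ∈ Y ∧ k₂ ∈ Y := by
    obtain ⟨α, β, γ, e⟩ := hG' h₁ hh₁ hu'h
    rw [hgh] at e
    have notperp : h₂ ∈ perp Q Y → k₂ ∈ perp Q Y → False := by
      intro a b
      have hsplit : h - α • (y + h) = α • y' + β • h₂ + γ • k₂ := by
        conv_lhs => arg 1; rw [e]
        rw [hye]; module
      have h0 := hdisj (h - α • (y + h)) (Y.sub_mem hhY (Y.smul_mem _ (Y.add_mem hy hhY))) (by
        rw [hsplit]
        exact (perp Q Y).add_mem ((perp Q Y).add_mem ((perp Q Y).smul_mem _ hy') ((perp Q Y).smul_mem _ a))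
          ((perp Q Y).smul_mem _ b))
      rw [sub_eq_zero] at h0
      have e1 := congrArg (fun z => B z k) h0
      simp only [B_smul_left Q, B_add_left Q, hyk, hhk, zero_add, mul_one] at e1
      rw [← e1, one_smul] at h0
      exact hy0 (add_eq_right.1 h0.symm)
    rcases hY with rfl | rfl
    · rcases hside₂ with r | ⟨a, b⟩
      · exact r
      · exact (notperp a b).elim
    · rcases hside₂ with ⟨a, b⟩ | r
      · rw [perp_perp hQ] at notperp; exact (notperp a b).elim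
      · exact r
  have hxmem : x ∈ Y ⊔ F ∙ y' := by
    rw [hye]; exact Submodule.add_mem_sup hy (Submodule.mem_span_singleton_self y')
  have hhmem : ∀ {z}, z ∈ Y → z ∈ Y ⊔ F ∙ y' := fun hz => Submodule.mem_sup_left hz
  have huu' : u ∉ F ∙ u' := by
    intro hm
    obtain ⟨m, hm⟩ := Submodule.mem_span_singleton.1 hm
    have e := congrArg (act g) hm
    rw [map_smul, hgu', ← hxdef] at e
    have e2 : (m - 1) • x + m • h = 0 := by rw [← sub_eq_zero.2 e]; module
    have e3 := congrArg (fun z => B z k) e2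
    simp only [B_add_left Q, B_smul_left Q, hxk, hhk, B_zero_left Q, mul_zero, zero_add, mul_one] at e3
    rw [e3, zero_smul, add_zero, zero_sub, neg_smul, one_smul, neg_eq_zero] at e2
    exact hy0 (hdisj y hy (by rw [show y = -y' from eq_neg_of_add_eq_zero_left (hye.symm.trans e2)]; exact (perp Q Y).neg_mem hy'))
  obtain ⟨z, hz, hzP, huz⟩ := exists_one_in hQ hW ((Submodule.span_singleton_le_iff_mem _ _).2 hu'W) hu huu'
  rintro _ ⟨w, hw, rfl⟩
  obtain ⟨α, β, γ, e⟩ := hG (w - B u w • z) (W.sub_mem hw (W.smul_mem _ hz))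
    (by rw [B_sub_right Q, B_smul_right Q, huz, mul_one, sub_self])
  obtain ⟨α', β', γ', e'⟩ := hG' z hz (hzP u' (Submodule.mem_span_singleton_self u'))
  have : act g w = (α • x + β • h + γ • k) + B u w • (α' • (x + h) + β' • h₂ + γ' • k₂) := by
    rw [← e, ← e', map_sub, map_smul, sub_add_cancel]
  rw [this]
  exact (Y ⊔ F ∙ y').add_mem
    ((Y ⊔ F ∙ y').add_mem ((Y ⊔ F ∙ y').add_mem (Submodule.smul_mem _ _ hxmem) (Submodule.smul_mem _ _ (hhmem hhY)))
      (Submodule.smul_mem _ _ (hhmem hkY)))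
    (Submodule.smul_mem _ _ ((Y ⊔ F ∙ y').add_mem ((Y ⊔ F ∙ y').add_mem
      (Submodule.smul_mem _ _ ((Y ⊔ F ∙ y').add_mem hxmem (hhmem hhY))) (Submodule.smul_mem _ _ (hhmem hh₂)))
      (Submodule.smul_mem _ _ (hhmem hk₂))))

end Core

/-- An element supported on a four-space moving a given line. -/
theorem exists_move_line {Y : Submodule F (ι → F)} (hY : NonDeg Q Y) (hd : finrank F Y = 4) {k : ι → F}
    (hk : k ∈ Y) (hk0 : k ≠ 0) :
    ∃ s ∈ Y, ∃ w ∈ Y, Q s = 0 ∧ B s w = 0 ∧ act (sg Q s w) k ∉ F ∙ k := by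
  obtain ⟨s, hs, hQs, hsk⟩ : ∃ s ∈ Y, Q s = 0 ∧ B s k ≠ 0 := by
    by_contra hc
    push Not at hc
    refine hk0 (hY k hk fun y hy => ?_)
    exact le_of_singular_le hQ hY (by omega) (N := LinearMap.ker (QuadraticMap.polarBilin Q k))
      (fun x hx hQx => (B_comm Q k x).trans (hc x hx hQx)) hy
  have hs0 : s ≠ 0 := fun e => hsk (by rw [e, B_zero_left Q])
  obtain ⟨w, ⟨hw, hws⟩, hwn⟩ := SetLike.not_le_iff_exists.1
    fun hle : Y ⊓ perp Q (F ∙ s) ≤ Submodule.span F (Set.range ![k, s]) => by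
      have h1 := (Submodule.finrank_mono hle).trans (finrank_span_list_le ![k, s])
      have h2 := finrank_inf_perp hQ hY ((Submodule.span_singleton_le_iff_mem _ _).2 hs)
      rw [finrank_span_singleton hs0] at h2
      omega
  have hsw : B s w = 0 := hws s (Submodule.mem_span_singleton_self s)
  refine ⟨s, hs, w, hw, hQs, hsw, fun hm => hwn ?_⟩
  rw [act_sg Q hQs hsw] at hm
  obtain ⟨c, hc⟩ := Submodule.mem_span_singleton.1 hm
  rw [mem_span_pair_iff_range]
  refine ⟨(B s k)⁻¹ * (c - 1), (B s k)⁻¹ * (B w k + Q w * B s k), ?_⟩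
  rw [← smul_smul, ← smul_smul, ← smul_add, sub_smul, one_smul, hc]
  match_scalars <;> field_simp <;> ring

include hwitt

theorem exists_plane {W : Submodule F (ι → F)} (hW : NonDeg Q W) (hd : finrank F W = 4)
    (hd' : finrank F (perp Q W) = 4) :
    (∃ U : Submodule F (ι → F), U ≤ W ∧ (∀ x ∈ U, Q x = 0) ∧ finrank F U = 2) ∨
      ∃ U : Submodule F (ι → F), U ≤ perp Q W ∧ (∀ x ∈ U, Q x = 0) ∧ finrank F U = 2 := by
  have key : ∀ Y : Submodule F (ι → F), NonDeg Q Y → finrank F Y = 4 →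
      (¬ ∃ U : Submodule F (ι → F), U ≤ Y ∧ (∀ x ∈ U, Q x = 0) ∧ finrank F U = 2) →
      ∃ s ∈ Y, s ≠ 0 ∧ Q s = 0 ∧ ∃ A : Submodule F (ι → F), A ≤ Y ∧ finrank F A = 2 ∧
        (∀ a ∈ A, Q a = 0 → a = 0) ∧ ∀ a ∈ A, B s a = 0 := by
    intro Y hY hYd hno
    obtain ⟨s, hs, t, ht, hQs, -, hst⟩ := exists_pair_in hQ hY (by omega)
    have hs0 : s ≠ 0 := fun e => by rw [e, B_zero_left Q] at hst; exact zero_ne_one hst
    set P := Submodule.span F (Set.range ![s, t]) with hP
    have h1 := finrank_inf_perp hQ hY (P := P)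
      (Submodule.span_le.2 (by rintro _ ⟨i, rfl⟩; fin_cases i <;> assumption))
    have h2 := finrank_span_list_le ![s, t]
    rw [← hP] at h2
    have han : ∀ a ∈ Y ⊓ perp Q P, Q a = 0 → a = 0 := by
      rintro a ⟨ha, haP⟩ hQa
      by_contra ha0
      refine hno ⟨Submodule.span F (Set.range ![s, a]),
        Submodule.span_le.2 (by rintro _ ⟨i, rfl⟩; fin_cases i <;> assumption),
        singular_pair hQs hQa (orth haP (Submodule.subset_span ⟨0, rfl⟩)), finrank_pair hs0 fun hm => ?_⟩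
      obtain ⟨c, hc⟩ := Submodule.mem_span_singleton.1 hm
      have := orth haP (Submodule.subset_span ⟨1, rfl⟩ : t ∈ P)
      rw [← hc, B_smul_right Q, B_comm Q t s, hst, mul_one] at this
      exact ha0 (by rw [← hc, this, zero_smul])
    refine ⟨s, hs, hs0, hQs, _, inf_le_left, ?_, han, fun a ha => orth ha.2 (Submodule.subset_span ⟨0, rfl⟩)⟩
    by_contra h3
    obtain ⟨a, ha, ha0, hQa⟩ := exists_singular Q (D := Y ⊓ perp Q P) (by omega)
    exact ha0 (han a ha hQa)
  by_contra hc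
  rw [not_or] at hc
  obtain ⟨s, hs, hs0, hQs, A, hA, hAd, hanA, hsA⟩ := key W hW hd hc.1
  obtain ⟨s', hs', hs'0, hQs', A', hA', hA'd, hanA', hsA'⟩ := key _ (nonDeg_perp hQ hW) hd' hc.2
  refine no_two_aniso hwitt (U := Submodule.span F (Set.range ![s, s'])) (singular_pair hQs hQs' (orth hs' hs))
    (finrank_pair hs0 fun hm => hs'0 ?_) hAd hanA hA'd hanA' (fun a ha a' ha' => orth (hA' ha') (hA ha)) ?_ ?_
  · obtain ⟨c, hc⟩ := Submodule.mem_span_singleton.1 hm
    exact (Submodule.eq_bot_iff _).1 (inf_perp hW) s' ⟨by rw [← hc]; exact W.smul_mem _ hs, hs'⟩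
  · intro z hz a ha
    obtain ⟨p, q, rfl⟩ := mem_span_pair_iff_range.1 hz
    rw [B_add_left Q, B_smul_left Q, B_smul_left Q, hsA a ha, B_comm Q s', orth hs' (hA ha)]; ring
  · intro z hz a ha
    obtain ⟨p, q, rfl⟩ := mem_span_pair_iff_range.1 hz
    rw [B_add_left Q, B_smul_left Q, B_smul_left Q, hsA' a ha, orth (hA' ha) hs]; ring

theorem exists_transfer {W : Submodule F (ι → F)} (hW : NonDeg Q W) (hd : finrank F W = 4)
    (hd' : finrank F (perp Q W) = 4)
    (hplane : ∃ U : Submodule F (ι → F), U ≤ W ∧ (∀ x ∈ U, Q x = 0) ∧ finrank F U = 2)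
    (hiso : ∀ g ∈ isometryGroup F Q, W.map (act g) ≠ perp Q W) {M : Subgroup (GL ι F)}
    (hS : ∀ u ∈ W, ∀ w ∈ W, sg Q u w ∈ M) (hS' : ∀ u ∈ perp Q W, ∀ w ∈ perp Q W, sg Q u w ∈ M)
    (hI : ∀ g ∈ M, g ∈ isometryGroup F Q) {g : GL ι F} (hgM : g ∈ M)
    (hgS : g ∉ Cfsg.Geo.subspaceStabilizer W) : ¬ (NoTransfer Q W M ∧ NoTransfer Q (perp Q W) M) := by
  rintro ⟨hno, hno'⟩
  obtain ⟨Y, hY, y', hy', hy'0, hle⟩ :=
    rank_one hQ hwitt hW hd hd' hplane hS hS' hno hno' hgM (hI g hgM) hgS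
  have hW' := nonDeg_perp hQ hW
  obtain ⟨hYn, hYd, hY'n, hY'd, hSY, hSY'⟩ : NonDeg Q Y ∧ finrank F Y = 4 ∧ NonDeg Q (perp Q Y) ∧
      finrank F (perp Q Y) = 4 ∧ (∀ u ∈ Y, ∀ w ∈ Y, sg Q u w ∈ M) ∧
      (∀ u ∈ perp Q Y, ∀ w ∈ perp Q Y, sg Q u w ∈ M) := by
    rcases hY with rfl | rfl
    · exact ⟨hW, hd, hW', hd', hS, hS'⟩
    · rw [perp_perp hQ]; exact ⟨hW', hd', hW, hd, hS', hS⟩
  have hdisj : ∀ a ∈ Y, a ∈ perp Q Y → a = 0 := fun a h1 h2 =>
    (Submodule.eq_bot_iff _).1 (inf_perp hYn) a ⟨h1, h2⟩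
  obtain ⟨K, hK⟩ : ∃ K, K = W.map (act g) ⊓ Y := ⟨_, rfl⟩
  have hKl : K ≤ W.map (act g) := hK.le.trans inf_le_left
  have hKr : K ≤ Y := hK.le.trans inf_le_right
  have hne : W.map (act g) ≠ Y := by
    rcases hY with rfl | rfl
    · exact fun e => hgS (mem_subspaceStabilizer_of_le fun w hw => e.le (Submodule.mem_map_of_mem hw))
    · exact hiso g (hI g hgM)
  have hKd : finrank F K = 3 := by
    have h1 := Submodule.finrank_sup_add_finrank_inf_eq (W.map (act g)) Y
    rw [finrank_map_act, hd, hYd, ← hK] at h1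
    have h2 : finrank F ↥(W.map (act g) ⊔ Y) ≤ 5 := by
      refine (Submodule.finrank_mono (sup_le hle le_sup_left)).trans ?_
      have h := Submodule.finrank_add_le_finrank_add_finrank Y (F ∙ y')
      rw [finrank_span_singleton hy'0, hYd] at h
      exact h
    have h3 : finrank F K < 4 := by
      by_contra h3
      refine hne ((Submodule.eq_of_le_of_finrank_le hKl ?_).symm.trans
        (Submodule.eq_of_le_of_finrank_le hKr ?_))
      · rw [finrank_map_act, hd]; omega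
      · rw [hYd]; omega
    omega
  obtain ⟨k, hkm, hk0⟩ := Submodule.exists_mem_ne_zero_of_ne_bot (p := Y ⊓ perp Q K) fun e => by
    have := finrank_inf_perp hQ hYn hKr
    rw [e, finrank_bot] at this
    omega
  obtain ⟨s, hs, w, hw, hQs, hsw, hk⟩ := exists_move_line hQ hYn hYd hkm.1 hk0
  obtain ⟨s', hs', w', hw', hQs', hsw', hky⟩ := exists_move_line hQ hY'n hY'd hy' hy'0
  set h := sg Q s w * sg Q s' w' with hh
  have hhM : h ∈ M := mul_mem (hSY s hs w hw) (hSY' s' hs' w' hw')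
  have fix' : ∀ z ∈ Y, act (sg Q s' w') z = z := fun z hz =>
    act_sg_fix Q hQs' hsw' ((B_comm Q s' z).trans (orth hs' hz)) ((B_comm Q w' z).trans (orth hw' hz))
  have fix : ∀ z ∈ perp Q Y, act (sg Q s w) z = z := fun z hz =>
    act_sg_fix Q hQs hsw (orth hz hs) (orth hz hw)
  have hhY : ∀ z ∈ Y, act h z ∈ Y := fun z hz => by
    rw [hh, act_mul, fix' z hz, act_sg Q hQs hsw]
    exact Y.sub_mem (Y.add_mem hz (Y.smul_mem _ hw)) (Y.smul_mem _ hs)
  have hhk : act h k = act (sg Q s w) k := by rw [hh, act_mul, fix' k hkm.1]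
  have hy2 : act (sg Q s' w') y' ∈ perp Q Y := by
    rw [act_sg Q hQs' hsw']
    exact (perp Q Y).sub_mem ((perp Q Y).add_mem hy' ((perp Q Y).smul_mem _ hw')) ((perp Q Y).smul_mem _ hs')
  have hhy : act h y' = act (sg Q s' w') y' := by rw [hh, act_mul, fix _ hy2]
  set g' := g⁻¹ * h * g with hg'
  have hg'M : g' ∈ M := mul_mem (mul_mem (inv_mem hgM) hhM) hgM
  have hmap : ∀ z, act g (act g' z) = act h (act g z) := fun z => by
    rw [hg', act_mul, act_mul, act_act_inv]
  -- the intersection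
  set J := Y ⊓ perp Q (Submodule.span F (Set.range ![k, act h k])) with hJ
  have hJd : finrank F J = 2 := by
    have h1 := finrank_inf_perp hQ hYn (P := Submodule.span F (Set.range ![k, act h k]))
      (Submodule.span_le.2 (by
        rintro _ ⟨i, rfl⟩; fin_cases i
        · exact hkm.1
        · exact hhY k hkm.1))
    rw [finrank_pair hk0 (by rw [hhk]; exact hk), ← hJ] at h1
    omega
  have hKh : K ⊓ K.map (act h) ≤ J := by
    rintro z ⟨hz, ⟨z₁, hz₁, rfl⟩⟩
    refine ⟨hKr hz, (mem_perp_span Q).2 ?_⟩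
    rintro _ ⟨i, rfl⟩
    fin_cases i
    · exact (B_comm Q k _).trans (hkm.2 _ hz)
    · show B (act h k) (act h z₁) = 0
      rw [B_act (hI h hhM)]
      exact (B_comm Q k _).trans (hkm.2 _ hz₁)
  have hup : finrank F ↥(W ⊓ W.map (act g')) ≤ 2 := by
    rw [← hJd, ← finrank_map_act g]
    refine Submodule.finrank_mono (le_trans ?_ hKh)
    rintro _ ⟨z, ⟨hz, ⟨z₁, hz₁, hz₁e⟩⟩, rfl⟩
    have e : act g z = act h (act g z₁) := by rw [← hz₁e, hmap]
    have hzW : act g z ∈ W.map (act g) := Submodule.mem_map_of_mem hz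
    have hz₁W : act g z₁ ∈ W.map (act g) := Submodule.mem_map_of_mem hz₁
    obtain ⟨p, hp, r, hr, hpr⟩ := Submodule.mem_sup.1 (hle hzW)
    obtain ⟨p₁, hp₁, r₁, hr₁, hpr₁⟩ := Submodule.mem_sup.1 (hle hz₁W)
    obtain ⟨m, rfl⟩ := Submodule.mem_span_singleton.1 hr
    obtain ⟨m₁, rfl⟩ := Submodule.mem_span_singleton.1 hr₁
    have e2 : p - act h p₁ = m₁ • act h y' - m • y' := by
      rw [← hpr, ← hpr₁, map_add, map_smul] at e
      linear_combination (norm := module) e
    have e3 := hdisj (p - act h p₁) (Y.sub_mem hp (hhY _ hp₁)) (by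
      rw [e2, hhy]
      exact (perp Q Y).sub_mem ((perp Q Y).smul_mem _ hy2) ((perp Q Y).smul_mem _ hy'))
    rw [e3, eq_comm, sub_eq_zero] at e2
    have hm₁ : m₁ = 0 := by
      by_contra h0
      refine hky (Submodule.mem_span_singleton.2 ⟨m₁⁻¹ * m, ?_⟩)
      rw [← smul_smul, ← e2, smul_smul, inv_mul_cancel₀ h0, one_smul, hhy]
    subst hm₁
    rw [zero_smul, eq_comm, smul_eq_zero] at e2
    rw [e2.resolve_right hy'0, zero_smul, add_zero] at hpr
    rw [zero_smul, add_zero] at hpr₁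
    exact ⟨hK ▸ ⟨hzW, hpr ▸ hp⟩, act g z₁, hK ▸ ⟨hz₁W, hpr₁ ▸ hp₁⟩, e.symm⟩
  have hlow : 2 ≤ finrank F ↥(W ⊓ W.map (act g')) := by
    have h1 : finrank F ↥(K ⊓ K.map (act h)) ≥ 2 := by
      have h2 := Submodule.finrank_sup_add_finrank_inf_eq K (K.map (act h))
      have h3 : finrank F ↥(K ⊔ K.map (act h)) ≤ 4 := by
        refine (Submodule.finrank_mono (sup_le hKr ?_)).trans_eq hYd
        rintro _ ⟨z, hz, rfl⟩
        exact hhY z (hKr hz)
      rw [finrank_map_act, hKd] at h2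
      omega
    refine h1.trans ((Submodule.finrank_mono ?_).trans_eq (finrank_map_act g _))
    subst hK
    rintro z ⟨⟨⟨w₁, hw₁, rfl⟩, -⟩, ⟨z₁, ⟨⟨w₂, hw₂, rfl⟩, -⟩, e⟩⟩
    refine ⟨w₁, ⟨hw₁, w₂, hw₂, act_injective g ?_⟩, rfl⟩
    rw [hmap, e]
  have hg'S : g' ∉ Cfsg.Geo.subspaceStabilizer W := fun hst => by
    have h1 : W.map (act g') = W := Submodule.eq_of_le_of_finrank_le
      (by rintro _ ⟨z, hz, rfl⟩; exact (mem_subspaceStabilizer.1 hst z).1 hz) (by rw [finrank_map_act])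
    rw [h1, inf_idem, hd] at hup
    omega
  obtain ⟨Z, hZ, z', -, hz'0, hleZ⟩ :=
    rank_one hQ hwitt hW hd hd' hplane hS hS' hno hno' hg'M (hI g' hg'M) hg'S
  have hZd : finrank F Z = 4 := by rcases hZ with rfl | rfl <;> assumption
  have h3 : 3 ≤ finrank F ↥(W.map (act g') ⊓ Z) := by
    have h1 := Submodule.finrank_sup_add_finrank_inf_eq (W.map (act g')) Z
    have h2 : finrank F ↥(W.map (act g') ⊔ Z) ≤ 5 := by
      refine (Submodule.finrank_mono (sup_le hleZ le_sup_left)).trans ?_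
      have h := Submodule.finrank_add_le_finrank_add_finrank Z (F ∙ z')
      rw [finrank_span_singleton hz'0, hZd] at h
      exact h
    rw [finrank_map_act, hd, hZd] at h1
    omega
  rcases hZ with rfl | rfl
  · rw [inf_comm] at h3; omega
  · have h1 := Submodule.finrank_sup_add_finrank_inf_eq (W ⊓ W.map (act g')) (W.map (act g') ⊓ perp Q W)
    have h2 : (W ⊓ W.map (act g')) ⊓ (W.map (act g') ⊓ perp Q W) = ⊥ := by
      rw [eq_bot_iff]
      rintro z ⟨⟨hz, -⟩, -, hz'⟩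
      exact (inf_perp hW).le ⟨hz, hz'⟩
    have h4 := Submodule.finrank_mono (sup_le (inf_le_right : W ⊓ W.map (act g') ≤ _)
      (inf_le_left : W.map (act g') ⊓ perp Q W ≤ _))
    rw [h2, finrank_bot] at h1
    rw [finrank_map_act, hd] at h4
    omega

/-- The stabiliser of a non-degenerate four-space is maximal. -/
theorem four_maximal (hn : 5 ≤ Fintype.card ι) {W : Submodule F (ι → F)} (hW : NonDeg Q W)
    (hd : finrank F W = 4) (hd' : finrank F (perp Q W) = 4)
    (hiso : ∀ g ∈ isometryGroup F Q, W.map (act g) ≠ perp Q W) :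
    Cfsg.Geo.IsMaximalIn (Cfsg.Geo.omegaGL Q) (Cfsg.Geo.subspaceStabilizer W ⊓ Cfsg.Geo.omegaGL Q) := by
  haveI := Fintype.ofFinite F
  suffices H : ∀ W : Submodule F (ι → F), NonDeg Q W → finrank F W = 4 → finrank F (perp Q W) = 4 →
      (∀ g ∈ isometryGroup F Q, W.map (act g) ≠ perp Q W) →
      (∃ U : Submodule F (ι → F), U ≤ W ∧ (∀ x ∈ U, Q x = 0) ∧ finrank F U = 2) →
      Cfsg.Geo.IsMaximalIn (Cfsg.Geo.omegaGL Q) (Cfsg.Geo.subspaceStabilizer W ⊓ Cfsg.Geo.omegaGL Q) by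
    rcases exists_plane hQ hwitt hW hd hd' with hp | hp
    · exact H W hW hd hd' hiso hp
    · rw [← stab_inf_omega_perp hQ hW]
      refine H _ (nonDeg_perp hQ hW) hd' (by rwa [perp_perp hQ]) (fun g hg e => hiso g⁻¹ (inv_mem hg) ?_) hp
      rw [perp_perp hQ] at e
      refine Submodule.eq_of_le_of_finrank_le ?_ (by rw [finrank_map_act, hd, hd'])
      rintro _ ⟨z, hz, rfl⟩
      obtain ⟨p, hp', rfl⟩ := (e.ge hz : z ∈ (perp Q W).map (act g))
      rwa [act_inv_act]
  intro W hW hd hd' hiso hplane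
  refine isMaximalIn_inf ?_ fun M hM hMK hout => ?_
  · obtain ⟨a, ha, ha0⟩ := Submodule.exists_mem_ne_zero_of_ne_bot (p := perp Q W) fun e => by
      rw [e, finrank_bot] at hd'; omega
    obtain ⟨s, hs, t, ht, hQs, -, hst⟩ := exists_pair_in hQ hW (by omega)
    refine ⟨sg Q s a, sg_mem_omega hQ hn s a, fun h => ha0 ?_⟩
    have h1 := (mem_subspaceStabilizer.1 h t).1 ht
    rw [act_sg Q hQs (orth ha hs), hst, B_comm Q a t, orth ha ht] at h1
    have : a ∈ W := by
      have e : a = (t + (1 : F) • a - (0 + Q a * 1) • s) - t + Q a • s := by module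
      rw [e]; exact W.add_mem (W.sub_mem h1 ht) (W.smul_mem _ hs)
    exact (Submodule.eq_bot_iff _).1 (inf_perp hW) a ⟨this, ha⟩
  obtain ⟨g, hgM, hgS⟩ := hout
  have mkS : ∀ Y : Submodule F (ι → F),
      Cfsg.Geo.subspaceStabilizer Y ⊓ Cfsg.Geo.omegaGL Q ≤ M → ∀ u ∈ Y, ∀ w ∈ Y, sg Q u w ∈ M := by
    intro Y hY u hu w hw
    by_cases h : Q u = 0 ∧ B u w = 0
    · refine hY ⟨mem_subspaceStabilizer_of_le fun y hy => ?_, sg_mem_omega hQ hn u w⟩
      rw [act_sg Q h.1 h.2]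
      exact Y.sub_mem (Y.add_mem hy (Y.smul_mem _ hw)) (Y.smul_mem _ hu)
    · rw [sg_of_not Q h]; exact one_mem _
  have hS := mkS W hM
  have hS' := mkS (perp Q W) ((stab_inf_omega_perp hQ hW).le.trans hM)
  have hnot := exists_transfer hQ hwitt hW hd hd' hplane hiso hS hS' (fun g hg => omega_le_iso (hMK hg)) hgM hgS
  rw [not_and_or, NoTransfer, NoTransfer] at hnot
  push Not at hnot
  rcases hnot with ⟨s, hs, hs0, hQs, a, ha, hmem, ha0⟩ | ⟨s, hs, hs0, hQs, a, ha, hmem, ha0⟩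
  · exact omega_le_of_one hQ hn hW hS hS' (by omega) (by omega) hs hs0 hQs ha ha0 hmem
  · exact omega_le_of_one hQ hn (nonDeg_perp hQ hW) hS' (by rwa [perp_perp hQ]) (by omega)
      (by rw [perp_perp hQ]; omega) hs hs0 hQs ha ha0 hmem

end Cfsg.Agent.MaxCl.Orth.Small
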