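/-
In characteristic two the stabiliser of a nonsingular point is maximal in `omegaGL`, from dimension eight on.
-/
import Cfsg.Agent.Lib.MaxCl.Small.OrthNondegFive

set_option autoImplicit false

namespace Cfsg.Agent.MaxCl.Orth.Small

open scoped MatrixGroups Matrix
open Module (finrank)

variable {ι : Type} [Fintype ι] [DecidableEq ι] {F : Type*} [Field F] {Q : QuadraticForm F (ι → F)}

set_option quotPrecheck false in
local notation "B" => QuadraticMap.polar (⇑Q)

variable [Fintype F] (hQ : (QuadraticMap.polarBilin Q).Nondegenerate)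
include hQ


/-- In characteristic two the stabiliser of a nonsingular point is maximal. -/
theorem point_maximal (h2 : (2 : F) = 0) (hn : 8 ≤ Fintype.card ι) {v : ι → F} (hv : Q v ≠ 0) :
    Cfsg.Geo.IsMaximalIn (Cfsg.Geo.omegaGL Q)
      (Cfsg.Geo.subspaceStabilizer (F ∙ v) ⊓ Cfsg.Geo.omegaGL Q) := by
  have hv0 : v ≠ 0 := fun e => hv (by rw [e, map_zero])
  have hvv : B v v = 0 := by rw [B_self Q, h2, zero_mul]
  obtain ⟨v', hv'⟩ : ∃ v', B v v' = 1 := by
    obtain ⟨y, hy⟩ := exists_B_ne_zero hQ hv0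
    exact ⟨(B v y)⁻¹ • y, by rw [B_smul_right Q, inv_mul_cancel₀ hy]⟩
  set P := Submodule.span F (Set.range ![v, v']) with hP
  have hvP : v ∈ P := Submodule.subset_span ⟨0, rfl⟩
  have hv'P : v' ∈ P := Submodule.subset_span ⟨1, rfl⟩
  have hPnd : NonDeg Q P := by
    intro x hx h
    obtain ⟨p, r, rfl⟩ := mem_span_pair_iff_range.1 hx
    have e1 := h v hvP
    have e2 := h v' hv'P
    simp only [B_add_left Q, B_smul_left Q, hvv, B_comm Q v' v, hv', B_self Q v', h2, zero_mul, mul_zero,
      mul_one, zero_add, add_zero] at e1 e2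
    rw [e1, e2]; simp
  set W := perp Q P with hWdef
  have hW : NonDeg Q W := nonDeg_perp hQ hPnd
  have hWP : perp Q W = P := perp_perp hQ P
  have hdimW : 6 ≤ finrank F W := by
    have := finrank_span_list_le ![v, v']
    rw [← hP] at this
    rw [hWdef, finrank_perp hQ]; omega
  have hfix : ∀ g ∈ Cfsg.Geo.omegaGL Q, act g v ∈ F ∙ v → act g v = v := by
    intro g hg h
    obtain ⟨c, hc⟩ := Submodule.mem_span_singleton.1 h
    have := Q_act (omega_le_iso hg) v
    rw [← hc, Q_smul Q] at this
    have h1 : (c - 1) * (c - 1) = 0 := by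
      have h0 : c * c = 1 := mul_right_cancel₀ hv (by linear_combination this)
      linear_combination h0 + (1 - c) * h2
    rw [← hc, sub_eq_zero.1 (mul_self_eq_zero.1 h1), one_smul]
  refine isMaximalIn_inf ?_ fun M hM hMK hout => ?_
  · obtain ⟨s, hs, t, ht, hQs, -, hst⟩ := exists_pair_in hQ hW (by omega)
    have hsv' : B s v' = 0 := (B_comm Q s v').trans (orth hs hv'P)
    refine ⟨sg Q s v', sg_mem_omega hQ (by omega) s v', fun h => ?_⟩
    have h1 := hfix _ (sg_mem_omega hQ (by omega) s v')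
      ((mem_subspaceStabilizer.1 h v).1 (Submodule.mem_span_singleton_self v))
    rw [act_sg Q hQs hsv', B_comm Q s v, orth hs hvP, B_comm Q v' v, hv'] at h1
    have h3 : B t s = 0 := by
      have := congrArg (B t) h1
      simp only [B_sub_right Q, B_add_right Q, B_smul_right Q] at this
      linear_combination -this
    rw [B_comm Q, hst] at h3
    exact one_ne_zero h3
  obtain ⟨g, hgM, hgS⟩ := hout
  have hgI := omega_le_iso (hMK hgM)
  have hn5 : 5 ≤ Fintype.card ι := by omega
  have hE : ∀ u w, B u v = 0 → B w v = 0 → sg Q u w ∈ M := by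
    intro u w hu hw
    by_cases h : Q u = 0 ∧ B u w = 0
    · refine hM ⟨mem_subspaceStabilizer_of_le fun y hy => ?_, sg_mem_omega hQ hn5 u w⟩
      obtain ⟨c, rfl⟩ := Submodule.mem_span_singleton.1 hy
      rw [map_smul, act_sg_fix Q h.1 h.2 hu hw]
      exact Submodule.smul_mem _ _ (Submodule.mem_span_singleton_self v)
    · rw [sg_of_not Q h]; exact one_mem _
  have hWv : ∀ w ∈ W, B w v = 0 := fun w hw => (B_comm Q w v).trans (orth hw hvP)
  have hS : ∀ u ∈ W, ∀ w ∈ W, sg Q u w ∈ M := fun u hu w hw => hE u w (hWv u hu) (hWv w hw)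
  -- a singular vector of `v⊥` moved out of `v⊥`
  obtain ⟨e, hev, hQe, hge⟩ : ∃ e, B e v = 0 ∧ Q e = 0 ∧ B (act g e) v ≠ 0 := by
    by_contra hc
    push Not at hc
    have hWker : ∀ w ∈ W, B (act g w) v = 0 := by
      intro w hw
      have := le_of_singular_le hQ hW (by omega)
        (N := LinearMap.ker ((QuadraticMap.polarBilin Q v) ∘ₗ act g))
        (fun e he hQe => (B_comm Q v (act g e)).trans (hc e (hWv e he) hQe)) hw
      exact (B_comm Q (act g w) v).trans this
    obtain ⟨s, hs, t, ht, hQs, hQt, hst⟩ := exists_pair_in hQ hW (by omega)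
    have hgv : B (act g v) v = 0 := by
      have h1 := hc (v + s + Q v • t)
        (by rw [B_add_left Q, B_add_left Q, B_smul_left Q, hvv, hWv s hs, hWv t ht]; ring)
        (by rw [Q_add Q, Q_add Q, B_add_left Q, Q_smul Q, B_smul_right Q, B_smul_right Q, hQs, hQt, hst,
              B_comm Q v s, hWv s hs, B_comm Q v t, hWv t ht]
            linear_combination Q v * h2)
      rwa [map_add, map_add, map_smul, B_add_left Q, B_add_left Q, B_smul_left Q, hWker s hs, hWker t ht,
        mul_zero, add_zero, add_zero] at h1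
    apply hgS
    refine mem_subspaceStabilizer_of_le fun y hy => ?_
    obtain ⟨c, rfl⟩ := Submodule.mem_span_singleton.1 hy
    rw [map_smul]
    refine Submodule.smul_mem _ _ ?_
    have hperp : F ∙ v = perp Q (perp Q (F ∙ v)) := (perp_perp hQ _).symm
    rw [hperp]
    intro x hx
    have hxv : B v x = 0 := orth hx (Submodule.mem_span_singleton_self v)
    obtain ⟨p, hp, w, hw, hxe⟩ := exists_split hQ hPnd x
    obtain ⟨i, j, rfl⟩ := mem_span_pair_iff_range.1 hp
    have hj : j = 0 := by
      rw [hxe, B_add_right Q, B_add_right Q, B_smul_right Q, B_smul_right Q, hvv, hv', orth hw hvP] at hxv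
      simpa using hxv
    subst hj
    show B x (act g v) = 0
    have hgw : ∀ y, B v y = 0 → B (act g y) v = 0 := by
      intro y hy
      obtain ⟨p', hp', w', hw', hye⟩ := exists_split hQ hPnd y
      obtain ⟨i', j', rfl⟩ := mem_span_pair_iff_range.1 hp'
      rw [hye, B_add_right Q, B_add_right Q, B_smul_right Q, B_smul_right Q, hvv, hv', orth hw' hvP] at hy
      have hj' : j' = 0 := by simpa using hy
      subst hj'
      rw [hye, map_add, map_add, map_smul, map_smul, B_add_left Q, B_add_left Q, B_smul_left Q,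
        B_smul_left Q, hgv, hWker w' hw']
      ring
    -- `g` maps `v⊥` onto itself
    have hle : (perp Q (F ∙ v)).map (act g) ≤ perp Q (F ∙ v) := by
      rintro _ ⟨y, hy, rfl⟩
      refine (mem_perp_span Q).2 fun z hz => ?_
      rw [Set.mem_singleton_iff.1 hz, B_comm Q]
      exact hgw y (orth hy (Submodule.mem_span_singleton_self v))
    have heq := Submodule.eq_of_le_of_finrank_eq hle (finrank_map_act g _)
    obtain ⟨y, hy, rfl⟩ := (heq.ge hx : x ∈ (perp Q (F ∙ v)).map (act g))
    rw [B_act hgI, B_comm Q]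
    exact orth hy (Submodule.mem_span_singleton_self v)
  set x := act g e with hxdef
  have hQx : Q x = 0 := by rw [hxdef, Q_act hgI, hQe]
  have hxne : x ∉ F ∙ v := fun h => by
    obtain ⟨c, hc⟩ := Submodule.mem_span_singleton.1 h
    rw [← hc, B_smul_left Q, hvv, mul_zero] at hge
    exact hge rfl
  obtain ⟨b₀, hb₀, hbE⟩ : ∃ b₀, (B e b₀ = 0 ∧ B b₀ v = 0) ∧
      act g b₀ ∉ Submodule.span F (Set.range ![x, v]) := by
    by_contra hc
    push Not at hc
    have hle : (perp Q (Submodule.span F (Set.range ![e, v]))).map (act g) ≤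
        Submodule.span F (Set.range ![x, v]) := by
      rintro _ ⟨y, hy, rfl⟩
      rw [SetLike.mem_coe, mem_perp_span] at hy
      exact hc y ⟨hy e ⟨0, rfl⟩, (B_comm Q y v).trans (hy v ⟨1, rfl⟩)⟩
    have h1 := Submodule.finrank_mono hle
    have h3 := finrank_span_list_le ![e, v]
    have h4 := finrank_span_list_le ![x, v]
    rw [finrank_map_act, finrank_perp hQ] at h1
    omega
  set b := act g b₀ with hbdef
  have hxb : B x b = 0 := by rw [hxdef, hbdef, B_act hgI, hb₀.1]
  have hr : sg Q x b ∈ M := by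
    have := mul_mem (mul_mem hgM (hE e b₀ hev hb₀.2)) (inv_mem hgM)
    rwa [conj_sg Q hgI] at this
  obtain ⟨t, ht, hbt⟩ := exists_perp_one hQ hbE
  rw [mem_perp_span] at ht
  have hxt : B x t = 0 := ht x ⟨0, rfl⟩
  have htv : B t v = 0 := (B_comm Q t v).trans (ht v ⟨1, rfl⟩)
  have hP3 := finrank_span_list_le ![x, b, t]
  obtain ⟨u, hu, huP, hu0, hQu⟩ := exists_singular_in hQ (W := W) (P := Submodule.span F (Set.range ![x, b, t]))
    (E := ⊥) (by rw [finrank_bot]; omega)
  rw [Submodule.mem_bot] at hu0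
  have hut : B u t = 0 := (B_comm Q u t).trans (huP t (Submodule.subset_span ⟨2, rfl⟩))
  have hxu : B x u = 0 := huP x (Submodule.subset_span ⟨0, rfl⟩)
  have hbu : B b u = 0 := huP b (Submodule.subset_span ⟨1, rfl⟩)
  have key := sg_sub_mem hQ hQx hxb hr hQu hut (hE u t (hWv u hu) htv) hxu hbu
  rw [hxt, hbt] at key
  obtain ⟨x₁, hx₁, x₂, hx₂, hxe⟩ := exists_split hQ hW x
  have hux1 : B u x₁ = 0 := by
    have := hxu
    rw [hxe, B_add_left Q, B_comm Q x₂, orth hx₂ hu, add_zero] at this
    rwa [B_comm Q]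
  have hmem : -x₂ ∈ transferSet Q W M := by
    refine mem_transferSet hQ hW (by omega) hS hu hu0 hQu ((perp Q W).neg_mem hx₂) ?_
    rw [show (0 : F) • b - (1 + Q b * 0) • x = -x₁ + -x₂ by rw [hxe]; module,
      ← sg_add Q hQu (by rw [B_neg_right Q, hux1, neg_zero])
        (by rw [B_neg_right Q, orth hx₂ hu, neg_zero])] at key
    exact (mul_mem_cancel_left (hS u hu _ (W.neg_mem hx₁))).1 key
  have hvT : v ∈ transferSet Q W M := ⟨by rw [hWP]; exact hvP, fun u hu _ => hE u v (hWv u hu) hvv⟩
  refine omega_le_of_transfer hQ hW (by omega) hS hn5 ?_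
  rw [hWP]
  have hx2P : x₂ ∈ P := hWP ▸ hx₂
  obtain ⟨i, j, hij⟩ := mem_span_pair_iff_range.1 hx2P
  have hj : j ≠ 0 := by
    intro e0
    apply hge
    rw [hxe, B_add_left Q, hWv x₁ hx₁, ← hij, e0, B_add_left Q, B_smul_left Q, B_smul_left Q, hvv]
    ring
  refine Submodule.span_le.2 ?_
  rintro _ ⟨idx, rfl⟩
  fin_cases idx
  · exact Submodule.subset_span hvT
  · show v' ∈ Submodule.span F (transferSet Q W M)
    have : v' = j⁻¹ • (-(-x₂) - i • v) := by
      rw [neg_neg, ← hij, show i • v + j • v' - i • v = j • v' by module, smul_smul, inv_mul_cancel₀ hj,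
        one_smul]
    rw [this]
    exact Submodule.smul_mem _ _ (Submodule.sub_mem _ (Submodule.neg_mem _ (Submodule.subset_span hmem))
      (Submodule.smul_mem _ _ (Submodule.subset_span hvT)))


end Cfsg.Agent.MaxCl.Orth.Small
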