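/-
Subfield groups of odd prime index in `omegaGL`, dimension at least eight: a Siegel element at a rational point with
irrational parameter spreads to the whole group.
-/
import Cfsg.Agent.Lib.MaxCl.OrthSubfieldMax

set_option autoImplicit false

namespace Cfsg.Agent.MaxCl.Orth.Small

open scoped MatrixGroups Matrix
open Module (finrank)

variable {ι : Type} [Fintype ι] [DecidableEq ι] {F : Type*} [Field F] {Q : QuadraticForm F (ι → F)}
  {F₀ : Subfield F} {P : GL ι F}

set_option quotPrecheck false in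
local notation "B" => QuadraticMap.polar (⇑Q)

variable [Finite F] (hP : ∀ x ∈ ratVec F₀ P, Q x ∈ F₀) (hQ : (QuadraticMap.polarBilin Q).Nondegenerate)
  (hn : 8 ≤ Fintype.card ι) {M : Subgroup (GL ι F)}
  (hS : ∀ u ∈ ratVec F₀ P, ∀ w ∈ ratVec F₀ P, sg Q u w ∈ M)
include hP hQ hn hS

/-- Moving the parameter of `sg u (c • t)` by a rational element or by one with parameter `d`. -/
theorem hop_mem {u t s t' : ι → F} (hQu : Q u = 0) (hQt : Q t = 0) (hut : B u t = 0) (hQs : Q s = 0)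
    (hus : B u s = 0) (hts : B t s = 1) (hQt' : Q t' = 0) (hut' : B u t' = 0) (hst' : B s t' = 0)
    (htt' : B t t' = 0) {c d : F} (hc : sg Q u (c • t) ∈ M) (hd : sg Q s (d • t') ∈ M) :
    sg Q u ((c * d) • t') ∈ M := by
  have hsd : B s (d • t') = 0 := by rw [B_smul_right Q, hst', mul_zero]
  have hfix : act (sg Q s (d • t')) u = u :=
    act_sg_fix Q hQs hsd ((B_comm Q s u).trans hus) (by rw [B_smul_left Q, B_comm Q t' u, hut', mul_zero])
  have h := (sg_diff_mem (sg_mem_iso Q s _) hd hQu (by rw [B_smul_right Q, hut, mul_zero]) hc hfix).2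
  rw [act_sg Q hQs hsd, B_smul_right Q, B_comm Q s t, hts, B_smul_left Q, B_smul_right Q, B_comm Q t' t, htt',
    Q_smul Q, hQt'] at h
  convert h using 2
  module

theorem coef_step {u t t₂ : ι → F} (h : IsRatLine Q F₀ P u t) (h₂ : IsRatLine Q F₀ P u t₂) (htt : B t t₂ = 0)
    (hind : t ∉ Submodule.span F (Set.range ![u, t₂])) {c : F} (hc : sg Q u (c • t) ∈ M) :
    sg Q u (c • t₂) ∈ M := by
  obtain ⟨hu, ht, hQu, hQt, hut, -, -⟩ := h
  obtain ⟨-, ht₂, -, hQt₂, hut₂, -, -⟩ := h₂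
  obtain ⟨s, hs, hQs, hsv, hts⟩ := exists_rat_partner hP hQ (v := ![u, t₂])
    (by intro i; fin_cases i <;> assumption) ht hQt
    (by intro i; fin_cases i <;> simp [hut, B_comm Q t₂ t, htt]) hind
  have h1 := hop_mem hP hQ hn hS hQu hQt hut hQs (hsv 0) hts hQt₂ hut₂
    ((B_comm Q s t₂).trans (hsv 1)) htt hc (d := 1) (by rw [one_smul]; exact hS s hs t₂ ht₂)
  rwa [mul_one] at h1

theorem coef_same {u t t₂ : ι → F} (h : IsRatLine Q F₀ P u t) (h₂ : IsRatLine Q F₀ P u t₂) {c : F}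
    (hc : sg Q u (c • t) ∈ M) : sg Q u (c • t₂) ∈ M := by
  obtain ⟨hu, ht, hQu, hQt, hut, hu0, htu⟩ := id h
  obtain ⟨-, ht₂, -, hQt₂, hut₂, -, ht₂u⟩ := id h₂
  by_cases hgood : B t t₂ = 0 ∧ t ∉ Submodule.span F (Set.range ![u, t₂])
  · exact coef_step hP hQ hn hS h h₂ hgood.1 hgood.2 hc
  obtain ⟨m, hm, hQm, hum, htm, ht₂m, hmt, hmt₂, hmu⟩ : ∃ m ∈ ratVec F₀ P, Q m = 0 ∧ B u m = 0 ∧ B t m = 0 ∧
      B t₂ m = 0 ∧ t ∉ Submodule.span F (Set.range ![u, m]) ∧ m ∉ Submodule.span F (Set.range ![u, t₂]) ∧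
      m ∉ F ∙ u := by
    have hflip : ∀ {p m : ι → F}, p ∉ F ∙ u → m ∉ Submodule.span F (Set.range ![u, p]) →
        p ∉ Submodule.span F (Set.range ![u, m]) := by
      intro p m hp hmp e
      obtain ⟨a, b, hab⟩ := mem_span_pair_iff_range.1 e
      rcases eq_or_ne b 0 with rfl | hb
      · exact hp (Submodule.mem_span_singleton.2 ⟨a, by rw [← hab, zero_smul, add_zero]⟩)
      · refine hmp (mem_span_pair_iff_range.2 ⟨-(b⁻¹ * a), b⁻¹, ?_⟩)
        rw [← hab, smul_add, smul_smul, smul_smul, inv_mul_cancel₀ hb, one_smul, neg_smul]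
        abel
    by_cases hB : B t t₂ = 0
    · have hdep : t ∈ Submodule.span F (Set.range ![u, t₂]) := by
        by_contra h'
        exact hgood ⟨hB, h'⟩
      have hv : ∀ i, ![u, t₂] i ∈ ratVec F₀ P := by intro i; fin_cases i <;> assumption
      obtain ⟨m, hm, hQm, -, hmv, hmn⟩ := exists_rat_singular hP hQ ![u, t₂] hv ![u, t₂] hv (by omega)
      have hle : Submodule.span F (Set.range ![u, t]) ≤ Submodule.span F (Set.range ![u, t₂]) := by
        rw [Submodule.span_le]
        rintro _ ⟨i, rfl⟩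
        fin_cases i
        · exact Submodule.subset_span ⟨0, rfl⟩
        · exact hdep
      obtain ⟨a, b, hab⟩ := mem_span_pair_iff_range.1 hdep
      refine ⟨m, hm, hQm, hmv 0, ?_, hmv 1, hflip htu fun h' => hmn (hle h'), hmn, fun e => hmn ?_⟩
      · rw [← hab, B_add_left Q, B_smul_left Q, B_smul_left Q]
        rw [show B u m = 0 from hmv 0, show B t₂ m = 0 from hmv 1]; ring
      · exact Submodule.span_mono (by rintro _ rfl; exact ⟨0, rfl⟩) e
    have hv : ∀ i, ![u, t, t₂] i ∈ ratVec F₀ P := by intro i; fin_cases i <;> assumption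
    obtain ⟨m, hm, hQm, -, hmv, hmn⟩ := exists_rat_singular hP hQ ![u, t, t₂] hv ![u]
      (fun i => by fin_cases i; exact hu) (by omega)
    have hnot : ∀ p, B p p = 0 → B u p = 0 → ∀ q, B p q ≠ 0 → B u q = 0 → B q m = 0 →
        m ∉ Submodule.span F (Set.range ![u, p]) := by
      intro p _ _ q hpq huq hqm e
      obtain ⟨a, b, hab⟩ := mem_span_pair_iff_range.1 e
      rw [← hab, B_add_right Q, B_smul_right Q, B_smul_right Q, B_comm Q q u, huq, mul_zero, zero_add,
        B_comm Q q p, mul_eq_zero, or_iff_left hpq] at hqm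
      subst hqm
      exact hmn (Submodule.mem_span_range_iff_exists_fun _ |>.2 ⟨fun _ => a, by
        simpa using hab⟩)
    refine ⟨m, hm, hQm, hmv 0, hmv 1, hmv 2,
      hflip htu (hnot t (B_self_of_singular Q hQt) hut t₂ hB hut₂ (hmv 2)),
      hnot t₂ (B_self_of_singular Q hQt₂) hut₂ t (by rwa [B_comm Q]) hut (hmv 1),
      fun e => hmn (Submodule.span_mono (by rintro _ rfl; exact ⟨0, rfl⟩) e)⟩
  have hline : IsRatLine Q F₀ P u m := ⟨hu, hm, hQu, hQm, hum, hu0, hmu⟩
  exact coef_step hP hQ hn hS hline h₂ ((B_comm Q m t₂).trans ht₂m) hmt₂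
    (coef_step hP hQ hn hS h hline htm hmt hc)

theorem coef_all {u t u' t' : ι → F} (h : IsRatLine Q F₀ P u t) (h' : IsRatLine Q F₀ P u' t') {c : F}
    (hc : sg Q u (c • t) ∈ M) : sg Q u' (c • t') ∈ M := by
  have hv : ∀ i, ![u, u'] i ∈ ratVec F₀ P := by
    intro i; fin_cases i
    · exact h.1
    · exact h'.1
  obtain ⟨m, hm, hQm, hm0, hmv, hmn⟩ := exists_rat_singular hP hQ ![u, u'] hv ![u, u'] hv (by omega)
  have hline : IsRatLine Q F₀ P u m := ⟨h.1, hm, h.2.2.1, hQm, hmv 0, h.2.2.2.2.2.1,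
    fun e => hmn (Submodule.span_mono (by rintro _ rfl; exact ⟨0, rfl⟩) e)⟩
  have hline' : IsRatLine Q F₀ P u' m := ⟨h'.1, hm, h'.2.2.1, hQm, hmv 1, h'.2.2.2.2.2.1,
    fun e => hmn (Submodule.span_mono (by rintro _ rfl; exact ⟨1, rfl⟩) e)⟩
  exact coef_same hP hQ hn hS hline' h' (swap_mem hline'.symm
    (coef_same hP hQ hn hS hline.symm hline'.symm (swap_mem hline (coef_same hP hQ hn hS h hline hc))))

omit hS in
theorem exists_rat_line : ∃ u t, IsRatLine Q F₀ P u t := by
  obtain ⟨u, hu, hQu, hu0, -, -⟩ := exists_rat_singular hP hQ (![] : Fin 0 → ι → F) (fun i => i.elim0)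
    (![] : Fin 0 → ι → F) (fun i => i.elim0) (by omega)
  obtain ⟨t, ht, hQt, -, htv, htn⟩ := exists_rat_singular hP hQ ![u] (fun i => by fin_cases i; exact hu) ![u]
    (fun i => by fin_cases i; exact hu) (by omega)
  exact ⟨u, t, hu, ht, hQu, hQt, htv 0, hu0, fun e => htn (Submodule.span_mono (by rintro _ rfl; exact ⟨0, rfl⟩) e)⟩

/-- A seed yields an irrational coefficient on a rational line. -/
theorem exists_coef_of_seed (hseed : Seed Q F₀ P M) :
    ∃ c : F, c ∉ F₀ ∧ ∀ u t, IsRatLine Q F₀ P u t → sg Q u (c • t) ∈ M := by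
  obtain ⟨u, hu, w, hQu, hu0, huw, hw, hirr⟩ := hseed
  have hu1 : ∀ i, ![u] i ∈ ratVec F₀ P := fun i => by fin_cases i; exact hu
  obtain ⟨s, hs, hQs, hs0, hus, hsu, hsw⟩ : ∃ s ∈ ratVec F₀ P, Q s = 0 ∧ s ≠ 0 ∧ B u s = 0 ∧
      s ∉ Submodule.span F (Set.range ![u]) ∧ B s w ∉ F₀ := by
    by_contra hno
    push Not at hno
    obtain ⟨v, hv, hv1, huv⟩ := exists_rat_dual hP hQ (![] : Fin 0 → ι → F) (fun i => i.elim0) hu
      (by simpa using hu0)
    let N : Submodule F₀ (ι → F) :=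
      { carrier := {y | B y w ∈ F₀}
        add_mem' := fun {a b} ha hb => by
          show B (a + b) w ∈ F₀
          rw [B_add_left Q]; exact F₀.add_mem ha hb
        zero_mem' := by show B 0 w ∈ F₀; rw [B_zero_left Q]; exact F₀.zero_mem
        smul_mem' := fun a y hy => by
          show B ((a : F) • y) w ∈ F₀
          rw [B_smul_left Q]; exact F₀.mul_mem a.2 hy }
    have hall := le_of_singular_rat hP hQ ![u] hu1 (by omega) N fun y hy hQy hy0 huy hyn =>
      hno y hy hQy hy0 (huy 0) hyn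
    refine hirr (-B v w) (mem_rat_of_pairing hP hQ fun y hy => ?_)
    have h1 : B (y - B u y • v) w ∈ F₀ := hall _ ((ratVec F₀ P).sub_mem hy (ratVec_smul (B_rat hP hu hy) hv))
      fun i => by
        fin_cases i
        show B u (y - B u y • v) = 0
        rw [B_sub_right Q, B_smul_right Q, huv]; ring
    rw [B_sub_left Q, B_smul_left Q] at h1
    rw [B_add_right Q, B_smul_right Q, B_comm Q y u]
    convert h1 using 1; ring
  have hv2 : ∀ i, ![u, s] i ∈ ratVec F₀ P := by intro i; fin_cases i <;> assumption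
  obtain ⟨t, ht, hQt, -, htv, htn⟩ := exists_rat_singular hP hQ ![u, s] hv2 ![u, s] hv2 (by omega)
  have hut : B u t = 0 := htv 0
  have hst : B s t = 0 := htv 1
  have hd := sg_diff_mem (sg_mem_iso Q s t) (hS s hs t ht) hQu huw hw
    (act_sg_fix Q hQs hst ((B_comm Q s u).trans hus) ((B_comm Q t u).trans hut))
  rw [act_sg_long hQs hQt hst] at hd
  obtain ⟨s', hs', hQs', hsv', hts'⟩ := exists_rat_partner hP hQ hv2 ht hQt htv htn
  have hv4 : ∀ i, ![u, s, t, s'] i ∈ ratVec F₀ P := by intro i; fin_cases i <;> assumption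
  obtain ⟨t', ht', hQt', -, htv', htn'⟩ := exists_rat_singular hP hQ ![u, s, t, s'] hv4 ![u] hu1 (by omega)
  have hst' : B s' t' = 0 := htv' 3
  have hd' := sg_diff_mem (sg_mem_iso Q s' t') (hS s' hs' t' ht') hQu hd.1 hd.2
    (act_sg_fix Q hQs' hst' ((B_comm Q s' u).trans (hsv' 0)) ((B_comm Q t' u).trans (htv' 0)))
  refine ⟨B s w, hsw, fun u' t'' h => coef_all hP hQ hn hS (u := u) (t := t') ⟨hu, ht', hQu, hQt', htv' 0, hu0,
    fun e => htn' (Submodule.span_mono (by rintro _ rfl; exact ⟨0, rfl⟩) e)⟩ h ?_⟩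
  have hB1 : B s' s = 0 := (B_comm Q s' s).trans (hsv' 1)
  have hB2 : B t' s = 0 := (B_comm Q t' s).trans (htv' 1)
  have hB3 : B t' t = 0 := (B_comm Q t' t).trans (htv' 2)
  convert hd'.2 using 2
  rw [act_sg_long hQs' hQt' hst']
  simp only [B_add_right Q, B_sub_right Q, B_smul_right Q, B_comm Q s' t, hts', hB1, hB2, hB3]
  module

theorem omega_le_of_seed (r : ℕ) (hr : r.Prime) (hcard : Nat.card F = Nat.card F₀ ^ r)
    (hseed : Seed Q F₀ P M) : Cfsg.Geo.omegaGL Q ≤ M := by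
  obtain ⟨c, hc, hcM⟩ := exists_coef_of_seed hP hQ hn hS hseed
  let C : Subalgebra F₀ F :=
    { carrier := {c | ∀ u t, IsRatLine Q F₀ P u t → sg Q u (c • t) ∈ M}
      add_mem' := fun {a b} ha hb u t h => by
        rw [add_smul, ← sg_add Q h.2.2.1 (by rw [B_smul_right Q, h.2.2.2.2.1, mul_zero])
          (by rw [B_smul_right Q, h.2.2.2.2.1, mul_zero])]
        exact mul_mem (ha u t h) (hb u t h)
      mul_mem' := fun {a b} ha hb u t h => by
        obtain ⟨hu, ht, hQu, hQt, hut, hu0, htu⟩ := id h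
        have hv : ∀ i, ![u, t] i ∈ ratVec F₀ P := by intro i; fin_cases i <;> assumption
        obtain ⟨m, hm, hQm, -, hmv, hmn⟩ := exists_rat_singular hP hQ ![u, t] hv ![u, t] hv (by omega)
        obtain ⟨s, hs, hQs, hsv, hms⟩ := exists_rat_partner hP hQ hv hm hQm hmv hmn
        refine hop_mem hP hQ hn hS hQu hQm (hmv 0) hQs (hsv 0) hms hQt hut ((B_comm Q s t).trans (hsv 1))
          ((B_comm Q m t).trans (hmv 1)) (ha u m ⟨hu, hm, hQu, hQm, hmv 0, hu0,
            fun e => hmn (Submodule.span_mono (by rintro _ rfl; exact ⟨0, rfl⟩) e)⟩)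
          (hb s t ⟨hs, ht, hQs, hQt, (B_comm Q s t).trans (hsv 1), fun e => ?_, fun e => ?_⟩)
        · rw [e, B_zero_right Q] at hms; exact zero_ne_one hms
        · obtain ⟨d, hd⟩ := Submodule.mem_span_singleton.1 e
          have h1 : B m (d • s) = 0 := by rw [hd, B_comm Q m t]; exact hmv 1
          rw [B_smul_right Q, hms, mul_one] at h1
          rw [h1, zero_smul] at hd
          exact htu (hd ▸ Submodule.zero_mem _)
      algebraMap_mem' := fun e u t h => hS u h.1 _ (ratVec_smul e.2 h.2.1) }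
  haveI := Fintype.ofFinite F₀
  have hrank : finrank F₀ F = r := by
    have e := Module.natCard_eq_pow_finrank (K := F₀) (V := F)
    rw [hcard] at e
    exact (Nat.pow_right_injective (Finite.one_lt_card (α := F₀)) e).symm
  haveI := Subalgebra.isSimpleOrder_of_finrank_prime F₀ F (hrank ▸ hr)
  have hC : C = ⊤ := (IsSimpleOrder.eq_bot_or_eq_top C).resolve_left fun h => hc (by
    have : c ∈ C := hcM
    rw [h, Algebra.mem_bot] at this
    obtain ⟨e, rfl⟩ := this
    exact e.2)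
  have full : ∀ u ∈ ratVec F₀ P, Q u = 0 → u ≠ 0 → Full Q M u := by
    intro u hu hQu hu0 w hw
    let N : Submodule F (ι → F) :=
      { carrier := {y | B u y = 0 ∧ ∀ c : F, sg Q u (c • y) ∈ M}
        add_mem' := fun {a b} ha hb => ⟨by rw [B_add_right Q, ha.1, hb.1, add_zero], fun c => by
          rw [smul_add, ← sg_add Q hQu (by rw [B_smul_right Q, ha.1, mul_zero])
            (by rw [B_smul_right Q, hb.1, mul_zero])]
          exact mul_mem (ha.2 c) (hb.2 c)⟩
        zero_mem' := ⟨B_zero_right Q u, fun c => by rw [smul_zero, sg_zero]; exact one_mem _⟩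
        smul_mem' := fun a y hy => ⟨by rw [B_smul_right Q, hy.1, mul_zero], fun c => by
          rw [smul_smul]; exact hy.2 _⟩ }
    have hall := le_of_singular_rat hP hQ ![u] (fun i => by fin_cases i; exact hu) (by omega)
      (N.restrictScalars F₀) fun y hy hQy hy0 huy hyn => ⟨huy 0, fun d =>
        (hC ▸ Algebra.mem_top : d ∈ C) u y ⟨hu, hy, hQu, hQy, huy 0, hu0,
          fun e => hyn (Submodule.span_mono (by rintro _ rfl; exact ⟨0, rfl⟩) e)⟩⟩
    obtain ⟨m, d, z, hd, hz, rfl⟩ := exists_decomp (F₀ := F₀) (P := P) w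
    have hz0 : ∀ j, B u (z j) = 0 := fun j => coeff_zero hd (fun j => B_rat hP hu (hz j)) (by
      rw [← hw]
      show _ = QuadraticMap.polarBilin Q u _
      simp [map_sum, mul_comm]) j
    have hmem : ∑ j, d j • z j ∈ N := N.sum_mem fun j _ => N.smul_mem _ (hall (z j) (hz j) fun i => by
      fin_cases i; exact hz0 j)
    have := hmem.2 1
    rwa [one_smul] at this
  obtain ⟨u, hu, hQu, hu0, -, -⟩ := exists_rat_singular hP hQ (![] : Fin 0 → ι → F) (fun i => i.elim0)
    (![] : Fin 0 → ι → F) (fun i => i.elim0) (by omega)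
  obtain ⟨v, hv, hQv, -, huv⟩ := exists_rat_partner hP hQ (v := (![] : Fin 0 → ι → F)) (fun i => i.elim0) hu hQu
    (fun i => i.elim0) (by simpa using hu0)
  exact omega_le_of_full hQ (by omega) hQu hQv (by rw [huv]; exact one_ne_zero) (full u hu hQu hu0)
    (full v hv hQv fun e => by rw [e, B_zero_right Q] at huv; exact zero_ne_one huv)

end Cfsg.Agent.MaxCl.Orth.Small
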