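/-
Subfield groups of odd prime index are maximal in `omegaGL` of a form of dimension at least eight without totally
singular four-spaces.

Without a seed an element of the overgroup carrying a rational singular point into a rational plane lies in the
subfield group, and a root element of the overgroup whose line lies in a rational totally singular three-space has a
rational line.  Conjugates of three rational long root elements outnumber the cosets, so two of them differ by a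
rational element; a rational long root element normalising the line of one of them then has a rational fixed point
on it.
-/
import Cfsg.Agent.Lib.MaxCl.Small.OrthSubfieldSeed

set_option autoImplicit false

namespace Cfsg.Agent.MaxCl.Orth.Small

open scoped MatrixGroups Matrix
open Module (finrank)

variable {ι : Type} [Fintype ι] [DecidableEq ι] {F : Type*} [Field F] {Q : QuadraticForm F (ι → F)}
  {F₀ : Subfield F} {P : GL ι F}

set_option quotPrecheck false in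
local notation "B" => QuadraticMap.polar (⇑Q)

theorem rat_pad {k : ℕ} (hk : k ≤ 2) {v : Fin k → ι → F} (hv : ∀ i, v i ∈ ratVec F₀ P) :
    ∃ w : Fin 2 → ι → F, (∀ i, w i ∈ ratVec F₀ P) ∧
      Submodule.span F (Set.range v) ≤ Submodule.span F (Set.range w) := by
  refine ⟨fun i => if h : (i : ℕ) < k then v ⟨i, h⟩ else 0, fun i => ?_, Submodule.span_mono ?_⟩
  · show (if h : (i : ℕ) < k then v ⟨i, h⟩ else 0) ∈ ratVec F₀ P
    split
    · exact hv _
    · exact (ratVec F₀ P).zero_mem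
  · rintro _ ⟨i, rfl⟩
    exact ⟨⟨i, by omega⟩, by simp [i.2]⟩

theorem singular_three {e₁ e₂ e₃ : ι → F} (h1 : Q e₁ = 0) (h2 : Q e₂ = 0) (h3 : Q e₃ = 0) (h12 : B e₁ e₂ = 0)
    (h13 : B e₁ e₃ = 0) (h23 : B e₂ e₃ = 0) (a b c : F) : Q (a • e₁ + b • e₂ + c • e₃) = 0 := by
  simp only [Q_add Q, Q_smul Q, B_add_left Q, B_smul_left Q, B_smul_right Q, h1, h2, h3, h12, h13, h23]
  ring

variable [Finite F]

/-- In an extension of odd prime degree a root of a non-trivial quadratic polynomial lies in the base field. -/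
theorem mem_of_quadratic {r : ℕ} (hr : r.Prime) (hodd : Odd r) (hcard : Nat.card F = Nat.card F₀ ^ r) {y a b c : F}
    (ha : a ∈ F₀) (hb : b ∈ F₀) (hc : c ∈ F₀) (hne : ¬ (a = 0 ∧ b = 0 ∧ c = 0))
    (h : a * (y * y) + b * y + c = 0) : y ∈ F₀ := by
  by_cases ha0 : a = 0
  · subst ha0
    by_cases hb0 : b = 0
    · subst hb0
      exact absurd ⟨rfl, rfl, by simpa using h⟩ hne
    · have e : y = -c / b := by
        rw [eq_div_iff hb0]
        linear_combination h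
      rw [e]
      exact F₀.div_mem (F₀.neg_mem hc) hb
  have hyy : y * y = -c / a + -b / a * y := by
    field_simp
    linear_combination h
  have hp : -c / a ∈ F₀ := F₀.div_mem (F₀.neg_mem hc) ha
  have hq : -b / a ∈ F₀ := F₀.div_mem (F₀.neg_mem hb) ha
  let C : Subalgebra F₀ F :=
    { carrier := {x | ∃ e f : F, e ∈ F₀ ∧ f ∈ F₀ ∧ x = e + f * y}
      add_mem' := fun {x x'} ⟨e, f, he, hf, hx⟩ ⟨e', f', he', hf', hx'⟩ =>
        ⟨e + e', f + f', F₀.add_mem he he', F₀.add_mem hf hf', by rw [hx, hx']; ring⟩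
      mul_mem' := fun {x x'} ⟨e, f, he, hf, hx⟩ ⟨e', f', he', hf', hx'⟩ =>
        ⟨e * e' + f * f' * (-c / a), e * f' + f * e' + f * f' * (-b / a),
          F₀.add_mem (F₀.mul_mem he he') (F₀.mul_mem (F₀.mul_mem hf hf') hp),
          F₀.add_mem (F₀.add_mem (F₀.mul_mem he hf') (F₀.mul_mem hf he')) (F₀.mul_mem (F₀.mul_mem hf hf') hq),
          by rw [hx, hx']; linear_combination (f * f') * hyy⟩
      algebraMap_mem' := fun e => ⟨e, 0, e.2, F₀.zero_mem, by show (e : F) = e + 0 * y; ring⟩ }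
  haveI := Fintype.ofFinite F₀
  have hrank : finrank F₀ F = r := by
    have e := Module.natCard_eq_pow_finrank (K := F₀) (V := F)
    rw [hcard] at e
    exact (Nat.pow_right_injective (Finite.one_lt_card (α := F₀)) e).symm
  haveI := Subalgebra.isSimpleOrder_of_finrank_prime F₀ F (hrank ▸ hr)
  rcases IsSimpleOrder.eq_bot_or_eq_top C with hC | hC
  · have : y ∈ C := ⟨0, 1, F₀.zero_mem, F₀.one_mem, by ring⟩
    rw [hC, Algebra.mem_bot] at this
    obtain ⟨e, rfl⟩ := this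
    exact e.2
  exfalso
  have hsur : Function.Surjective (fun p : F₀ × F₀ => (p.1 : F) + (p.2 : F) * y) := fun x => by
    obtain ⟨e, f, he, hf, hx⟩ : x ∈ C := hC ▸ Algebra.mem_top
    exact ⟨(⟨e, he⟩, ⟨f, hf⟩), hx.symm⟩
  have h1 := Nat.card_le_card_of_surjective _ hsur
  rw [Nat.card_prod, hcard, ← sq] at h1
  have h2 := (Nat.pow_le_pow_iff_right (Finite.one_lt_card (α := F₀))).1 h1
  obtain ⟨k, hk⟩ := hodd
  have := hr.two_le
  omega

variable (hP : ∀ x ∈ ratVec F₀ P, Q x ∈ F₀)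
include hP

/-- A singular vector of a rational plane is proportional to a rational one unless the plane is totally singular. -/
theorem rat_line {r : ℕ} (hr : r.Prime) (hodd : Odd r) (hcard : Nat.card F = Nat.card F₀ ^ r) {e f : ι → F}
    (he : e ∈ ratVec F₀ P) (hf : f ∈ ratVec F₀ P) (hne : ¬ (Q e = 0 ∧ Q f = 0 ∧ B e f = 0)) {α β : F}
    (h : Q (α • e + β • f) = 0) : ∃ z ∈ ratVec F₀ P, ∃ l : F, α • e + β • f = l • z := by
  rcases eq_or_ne β 0 with rfl | hβ
  · exact ⟨e, he, α, by simp⟩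
  have hy : α / β ∈ F₀ := by
    refine mem_of_quadratic hr hodd hcard (hP e he) (B_rat hP he hf) (hP f hf) (fun h => hne ⟨h.1, h.2.2, h.2.1⟩) ?_
    rw [Q_add Q, Q_smul Q, Q_smul Q, B_smul_left Q, B_smul_right Q] at h
    field_simp
    linear_combination h
  refine ⟨(α / β) • e + f, (ratVec F₀ P).add_mem (ratVec_smul hy he) hf, β, ?_⟩
  rw [smul_add, smul_smul, mul_div_cancel₀ _ hβ]

variable (hQ : (QuadraticMap.polarBilin Q).Nondegenerate)
include hQ

omit hQ hP in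
theorem isometry_mem_ratStab {r : ℕ} (hr : r.Prime) (hodd : Odd r) (hcard : Nat.card F = Nat.card F₀ ^ r)
    (hP : ∀ x ∈ ratVec F₀ P, Q x ∈ F₀) {u v : ι → F} (hu : u ∈ ratVec F₀ P) (hv : v ∈ ratVec F₀ P) (hQu : Q u = 0)
    (hQv : Q v = 0) (huv : B u v = 1) {g : GL ι F} (hg : g ∈ Cfsg.Geo.subfieldSubgroup F₀ P)
    (hgI : g ∈ isometryGroup F Q) : g ∈ ratStab F₀ P := by
  obtain ⟨γ, hγ⟩ := exists_of_mem_subfieldSubgroup F₀ P hg
  obtain ⟨y, hy, e⟩ := hγ _ ((ratVec F₀ P).add_mem hu hv)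
  have e1 : γ * γ * Q y = 1 := by
    rw [← Q_smul Q, ← e, Q_act hgI, Q_add Q, hQu, hQv, huv]; ring
  have hγF : γ ∈ F₀ := mem_of_quadratic hr hodd hcard (hP y hy) F₀.zero_mem (F₀.neg_mem F₀.one_mem)
    (fun h => by simp at h) (by linear_combination e1)
  intro x hx
  obtain ⟨z, hz, ez⟩ := hγ x hx
  rw [ez]; exact ratVec_smul hγF hz

variable (hn : 8 ≤ Fintype.card ι) {M : Subgroup (GL ι F)}
  (hS : ∀ u ∈ ratVec F₀ P, ∀ w ∈ ratVec F₀ P, sg Q u w ∈ M) (hns : ¬ Seed Q F₀ P M)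
include hn hS hns

/-- A Plücker coordinate of a root element of `M` in a rational totally singular three-space is rational. -/
theorem minor_rat {e₁ e₂ e₃ : ι → F} (he₁ : e₁ ∈ ratVec F₀ P) (he₂ : e₂ ∈ ratVec F₀ P) (he₃ : e₃ ∈ ratVec F₀ P)
    (h1 : Q e₁ = 0) (h2 : Q e₂ = 0) (h3 : Q e₃ = 0) (h12 : B e₁ e₂ = 0) (h13 : B e₁ e₃ = 0) (h23 : B e₂ e₃ = 0)
    (hi₂ : e₂ ∉ Submodule.span F (Set.range ![e₁, e₃])) (hi₃ : e₃ ∉ F ∙ e₁) (hi₁ : e₁ ≠ 0)
    {a₁ a₂ a₃ b₁ b₂ b₃ : F} {x y : ι → F} (hx : x = a₁ • e₁ + a₂ • e₂ + a₃ • e₃)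
    (hy : y = b₁ • e₁ + b₂ • e₂ + b₃ • e₃) (hr : sg Q x y ∈ M) : a₂ * b₃ - a₃ * b₂ ∈ F₀ := by
  obtain ⟨f, hf, hfv, hf2⟩ := exists_rat_dual hP hQ ![e₁, e₃] (by intro i; fin_cases i <;> assumption) he₂ hi₂
  have f1 : B e₁ f = 0 := hfv 0
  have f3 : B e₃ f = 0 := hfv 1
  have hQx : Q x = 0 := hx ▸ singular_three h1 h2 h3 h12 h13 h23 a₁ a₂ a₃
  have hQy : Q y = 0 := hy ▸ singular_three h1 h2 h3 h12 h13 h23 b₁ b₂ b₃
  have hxy : B x y = 0 := by
    simp only [hx, hy, B_add_left Q, B_add_right Q, B_smul_left Q, B_smul_right Q, B_self_of_singular Q h1,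
      B_self_of_singular Q h2, B_self_of_singular Q h3, h12, h13, h23, B_comm Q e₂ e₁, B_comm Q e₃ e₁,
      B_comm Q e₃ e₂]
    ring
  set h := sg Q e₁ f with hh
  have hhx : act h x = x - a₂ • e₁ := by
    rw [hh, act_sg Q h1 f1]
    simp only [hx, B_add_right Q, B_smul_right Q, B_self_of_singular Q h1, h12, h13, B_comm Q f e₁, f1,
      B_comm Q f e₂, hf2, B_comm Q f e₃, f3]
    module
  have hhy : act h y = y - b₂ • e₁ := by
    rw [hh, act_sg Q h1 f1]
    simp only [hy, B_add_right Q, B_smul_right Q, B_self_of_singular Q h1, h12, h13, B_comm Q f e₁, f1,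
      B_comm Q f e₂, hf2, B_comm Q f e₃, f3]
    module
  have hmem := mul_mem (mul_mem (hS e₁ he₁ f hf) hr) (inv_mem (hS e₁ he₁ f hf))
  rw [conj_sg Q (sg_mem_iso Q e₁ f), hhx, hhy] at hmem
  set μ := a₃ * b₂ - a₂ * b₃ with hμ
  have hQ3 : Q (μ • e₃) = 0 := by rw [Q_smul Q, h3, mul_zero]
  have hB3 : B e₁ (μ • e₃) = 0 := by rw [B_smul_right Q, h13, mul_zero]
  have e : sg Q (x - a₂ • e₁) (y - b₂ • e₁) = sg Q e₁ (μ • e₃) * sg Q x y := by
    apply gl_ext
    intro z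
    have hQx' : Q (x - a₂ • e₁) = 0 := by rw [← hhx, Q_act (sg_mem_iso Q e₁ f), hQx]
    have hQy' : Q (y - b₂ • e₁) = 0 := by rw [← hhy, Q_act (sg_mem_iso Q e₁ f), hQy]
    have hxy' : B (x - a₂ • e₁) (y - b₂ • e₁) = 0 := by rw [← hhx, ← hhy, B_act (sg_mem_iso Q e₁ f), hxy]
    rw [act_mul, act_sg_long hQx' hQy' hxy', act_sg_long hQx hQy hxy, act_sg_long h1 hQ3 hB3]
    simp only [hx, hy, hμ, B_add_left Q, B_sub_left Q, B_add_right Q, B_sub_right Q, B_smul_left Q, B_smul_right Q,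
      B_self_of_singular Q h1, B_self_of_singular Q h2, B_self_of_singular Q h3, h12, h13, h23,
      B_comm Q e₂ e₁, B_comm Q e₃ e₁, B_comm Q e₃ e₂]
    module
  rw [e, mul_mem_cancel_right hr] at hmem
  obtain ⟨c, hc⟩ := rat_of_noSeed hns he₁ h1 hi₁ hB3 hmem
  obtain ⟨d, hd, hdv, hd3⟩ := exists_rat_dual hP hQ ![e₁] (fun i => by fin_cases i; exact he₁) he₃ (by
    simpa [Matrix.range_cons, Matrix.range_empty] using hi₃)
  have h := F₀.neg_mem (B_rat hP hc hd)
  rwa [B_add_left Q, B_smul_left Q, B_smul_left Q, hd3, show B e₁ d = 0 from hdv 0,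
    show -(μ * 1 + c * 0) = a₂ * b₃ - a₃ * b₂ by rw [hμ]; ring] at h

variable {r : ℕ} (hr : r.Prime) (hodd : Odd r) (hcard : Nat.card F = Nat.card F₀ ^ r)
include hr hodd hcard

/-- The parameters of `M` at an irrational point of a rational plane lie in that plane. -/
theorem mem_span_of_sg {v : Fin 2 → ι → F} (hv : ∀ i, v i ∈ ratVec F₀ P) {x b : ι → F}
    (hx : x ∈ Submodule.span F (Set.range v)) (hQx : Q x = 0) (hirr : ∀ c : F, c ≠ 0 → c • x ∉ ratVec F₀ P)
    (hxb : B x b = 0) (hsg : sg Q x b ∈ M) : b ∈ Submodule.span F (Set.range v) := by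
  set e := v 0 with hedef
  set f := v 1 with hfdef
  have hev : v = ![e, f] := by funext i; fin_cases i <;> rfl
  rw [hev, mem_span_pair_iff_range] at hx
  obtain ⟨α, γ, hxe⟩ := hx
  have hiff : ∀ (z : ι → F) (l : F), z ∈ ratVec F₀ P → x = l • z → False := by
    intro z l hz h
    rcases eq_or_ne l 0 with rfl | hl
    · exact hirr 1 one_ne_zero (by rw [one_smul, h, zero_smul]; exact (ratVec F₀ P).zero_mem)
    · exact hirr l⁻¹ (inv_ne_zero hl) (by rw [h, inv_smul_smul₀ hl]; exact hz)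
  obtain ⟨hQe, hQf, hef⟩ : Q e = 0 ∧ Q f = 0 ∧ B e f = 0 := by
    by_contra hne
    obtain ⟨z, hz, l, hl⟩ := rat_line hP hr hodd hcard (hv 0) (hv 1) hne (α := α) (β := γ) (by rw [hxe, hQx])
    exact hiff z l hz (hxe.symm.trans hl)
  have hfe : ∀ d : F, d ∈ F₀ → f ≠ d • e := fun d hd h =>
    hiff e (α + γ * d) (hv 0) (by rw [← hxe, h, smul_smul, add_smul])
  have he0 : e ≠ 0 := fun h => hiff f γ (hv 1) (by rw [← hxe, h, smul_zero, zero_add])
  have hfn : f ∉ F ∙ e := fun h => by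
    obtain ⟨d, hd⟩ := Submodule.mem_span_singleton.1 h
    exact hfe d (smul_rat_mem (hv 0) he0 (by rw [hd]; exact hv 1)) hd.symm
  have hef' : e ∉ F ∙ f := fun h => by
    obtain ⟨d, hd⟩ := Submodule.mem_span_singleton.1 h
    have hd0 : d ≠ 0 := fun e0 => he0 (by rw [← hd, e0, zero_smul])
    exact hfn (Submodule.mem_span_singleton.2 ⟨d⁻¹, by rw [← hd, inv_smul_smul₀ hd0]⟩)
  refine mem_span_of_rat hP hQ v hv (by omega) fun s hs hQs hs0 hsv hsn => ?_
  by_contra hbs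
  rw [B_comm Q b s] at hbs
  have hes : B e s = 0 := hsv 0
  have hfs : B f s = 0 := hsv 1
  rw [hev] at hsn
  have hsnot : ∀ {p q : ι → F}, p ∈ Submodule.span F (Set.range ![e, f]) → q ∉ F ∙ p →
      q ∈ Submodule.span F (Set.range ![e, f]) → q ∉ Submodule.span F (Set.range ![p, s]) := by
    intro p q hp hqp hq h
    obtain ⟨a, c, hac⟩ := mem_span_pair_iff_range.1 h
    rcases eq_or_ne c 0 with rfl | hc
    · exact hqp (Submodule.mem_span_singleton.2 ⟨a, by rw [← hac, zero_smul, add_zero]⟩)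
    · refine hsn ?_
      have h1 : c • s = q - a • p := by rw [← hac]; abel
      rw [← inv_smul_smul₀ hc s, h1]
      exact Submodule.smul_mem _ _ (Submodule.sub_mem _ hq (Submodule.smul_mem _ _ hp))
  have hem : e ∈ Submodule.span F (Set.range ![e, f]) := Submodule.subset_span ⟨0, rfl⟩
  have hfm : f ∈ Submodule.span F (Set.range ![e, f]) := Submodule.subset_span ⟨1, rfl⟩
  obtain ⟨ze, hze, hzev, hze1⟩ := exists_rat_dual hP hQ ![f, s]
    (by intro i; fin_cases i; exacts [hv 1, hs]) (hv 0) (hsnot hfm hef' hem)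
  obtain ⟨zf, hzf, hzfv, hzf1⟩ := exists_rat_dual hP hQ ![e, s]
    (by intro i; fin_cases i; exacts [hv 0, hs]) (hv 1) (hsnot hem hfn hfm)
  obtain ⟨zs, hzs, hzsv, hzs1⟩ := exists_rat_dual hP hQ ![e, f]
    (by intro i; fin_cases i; exacts [hv 0, hv 1]) hs hsn
  set S6 := Submodule.span F (Set.range ![e, f, s, ze, zf, zs]) with hS6
  obtain ⟨t₀, ht₀, ht₀n⟩ : ∃ t₀ ∈ ratVec F₀ P, t₀ ∉ S6 := by
    by_contra hc
    push Not at hc
    have htop : (⊤ : Submodule F (ι → F)) ≤ S6 := fun z _ => by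
      obtain ⟨m, c, w, -, hw, rfl⟩ := exists_decomp (F₀ := F₀) (P := P) z
      exact Submodule.sum_mem _ fun j _ => Submodule.smul_mem _ _ (hc _ (hw j))
    have h1 := Submodule.finrank_mono htop
    have h2 := finrank_span_list_le ![e, f, s, ze, zf, zs]
    rw [finrank_top, Module.finrank_pi] at h1
    rw [← hS6] at h2
    omega
  set t := t₀ - B e t₀ • ze - B f t₀ • zf - B s t₀ • zs with htdef
  have htL : t ∈ ratVec F₀ P := (ratVec F₀ P).sub_mem ((ratVec F₀ P).sub_mem ((ratVec F₀ P).sub_mem ht₀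
    (ratVec_smul (B_rat hP (hv 0) ht₀) hze)) (ratVec_smul (B_rat hP (hv 1) ht₀) hzf))
    (ratVec_smul (B_rat hP hs ht₀) hzs)
  have htn : t ∉ Submodule.span F (Set.range ![e, f, s]) := fun h => ht₀n (by
    have e6 : ∀ i, ![e, f, s, ze, zf, zs] i ∈ S6 := fun i => Submodule.subset_span ⟨i, rfl⟩
    have hle : Submodule.span F (Set.range ![e, f, s]) ≤ S6 := by
      rw [Submodule.span_le]
      rintro _ ⟨i, rfl⟩
      fin_cases i
      exacts [e6 0, e6 1, e6 2]
    rw [show t₀ = t + B e t₀ • ze + B f t₀ • zf + B s t₀ • zs by rw [htdef]; abel]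
    exact S6.add_mem (S6.add_mem (S6.add_mem (hle h) (S6.smul_mem _ (e6 3))) (S6.smul_mem _ (e6 4)))
      (S6.smul_mem _ (e6 5)))
  have het : B e t = 0 := by
    rw [htdef, B_sub_right Q, B_sub_right Q, B_sub_right Q, B_smul_right Q, B_smul_right Q, B_smul_right Q, hze1,
      show B e zf = 0 from hzfv 0, show B e zs = 0 from hzsv 0]; ring
  have hft : B f t = 0 := by
    rw [htdef, B_sub_right Q, B_sub_right Q, B_sub_right Q, B_smul_right Q, B_smul_right Q, B_smul_right Q, hzf1,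
      show B f ze = 0 from hzev 0, show B f zs = 0 from hzsv 1]; ring
  have hst : B s t = 0 := by
    rw [htdef, B_sub_right Q, B_sub_right Q, B_sub_right Q, B_smul_right Q, B_smul_right Q, B_smul_right Q, hzs1,
      show B s ze = 0 from hzev 1, show B s zf = 0 from hzfv 1]; ring
  obtain ⟨t₂, ht₂, ht₂v, htt₂⟩ := exists_rat_dual hP hQ ![e, f, s]
    (by intro i; fin_cases i; exacts [hv 0, hv 1, hs]) htL htn
  have hst₂ : B s t₂ = 0 := ht₂v 2
  have fixx : ∀ w, B e w = 0 → B f w = 0 → B w x = 0 := fun w h1 h2 => by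
    rw [← hxe, B_add_right Q, B_smul_right Q, B_smul_right Q, B_comm Q w e, h1, B_comm Q w f, h2]; ring
  obtain ⟨hxy, hy⟩ := sg_diff_mem (sg_mem_iso Q s t) (hS s hs t htL) hQx hxb hsg
    (act_sg_fix Q hQs hst (fixx s hes hfs) (fixx t het hft))
  obtain ⟨-, hy₂⟩ := sg_diff_mem (sg_mem_iso Q s t₂) (hS s hs t₂ ht₂) hQx hxy hy
    (act_sg_fix Q hQs hst₂ (fixx s hes hfs) (fixx t₂ (ht₂v 0) (ht₂v 1)))
  set β := B s b with hβ
  have hb' : act (sg Q s t₂) (act (sg Q s t) b - b) - (act (sg Q s t) b - b) =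
      (0 : F) • e + (0 : F) • f + (-β) • s := by
    rw [act_sg Q hQs hst₂, act_sg Q hQs hst]
    simp only [B_sub_right Q, B_add_right Q, B_smul_right Q, hst, B_self_of_singular Q hQs, B_comm Q t₂ s, hst₂,
      B_comm Q t₂ t, htt₂]
    match_scalars <;> ring
  rw [hb'] at hy₂
  have hx3 : x = α • e + γ • f + (0 : F) • s := by rw [← hxe]; simp
  have m1 := minor_rat hP hQ hn hS hns (hv 0) (hv 1) hs hQe hQf hQs hef hes hfs
    (hsnot hem hfn hfm) (fun h => hsn (Submodule.span_mono (by rintro _ rfl; exact ⟨0, rfl⟩) h)) he0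
    hx3 rfl hy₂
  have m2 := minor_rat hP hQ hn hS hns (hv 1) (hv 0) hs hQf hQe hQs ((B_comm Q f e).trans hef) hfs hes
    (hsnot hfm hef' hem) (fun h => hsn (Submodule.span_mono (by rintro _ rfl; exact ⟨1, rfl⟩) h))
    (fun h => hiff e α (hv 0) (by rw [← hxe, show f = 0 from h, smul_zero, add_zero]))
    (a₁ := γ) (a₂ := α) (a₃ := 0) (b₁ := 0) (b₂ := 0) (b₃ := -β) (by rw [hx3]; abel) (by abel) hy₂
  refine hirr β hbs ?_
  rw [zero_mul, sub_zero] at m1 m2
  rw [← hxe, smul_add, smul_smul, smul_smul]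
  exact (ratVec F₀ P).add_mem (ratVec_smul (by simpa [mul_comm] using F₀.neg_mem m2) (hv 0))
    (ratVec_smul (by simpa [mul_comm] using F₀.neg_mem m1) (hv 1))

theorem exists_smul_rat {g : GL ι F} (hg : g ∈ M) (hgI : g ∈ isometryGroup F Q) {u : ι → F}
    (hu : u ∈ ratVec F₀ P) (hQu : Q u = 0) (hu0 : u ≠ 0) {v : Fin 2 → ι → F}
    (hv : ∀ i, v i ∈ ratVec F₀ P) (hgu : act g u ∈ Submodule.span F (Set.range v)) :
    ∃ c : F, c ≠ 0 ∧ c • act g u ∈ ratVec F₀ P := by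
  by_contra hno
  push Not at hno
  have hwm : ∀ w ∈ ratVec F₀ P, B u w = 0 → act g w ∈ Submodule.span F (Set.range v) := by
    intro w hw huw
    refine mem_span_of_sg hP hQ hn hS hns hr hodd hcard hv hgu (by rw [Q_act hgI, hQu]) hno (by rw [B_act hgI, huw]) ?_
    rw [← conj_sg Q hgI]
    exact mul_mem (mul_mem hg (hS u hu w hw)) (inv_mem hg)
  have hle : (perp Q (F ∙ u)).map (act g) ≤ Submodule.span F (Set.range v) := by
    rintro _ ⟨y, hy, rfl⟩
    have huy : B u y = 0 := hy u (Submodule.mem_span_singleton_self u)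
    obtain ⟨m, d, z, hd, hz, rfl⟩ := exists_decomp (F₀ := F₀) (P := P) y
    rw [map_sum]
    refine Submodule.sum_mem _ fun j _ => ?_
    rw [map_smul]
    refine Submodule.smul_mem _ _ (hwm _ (hz j) (coeff_zero hd (fun j => B_rat hP hu (hz j)) ?_ j))
    rw [← huy]
    show _ = QuadraticMap.polarBilin Q u _
    simp [map_sum, mul_comm]
  have h1 := Submodule.finrank_mono hle
  have h2 : finrank F ((perp Q (F ∙ u)).map (act g)) = finrank F (perp Q (F ∙ u)) :=
    LinearEquiv.finrank_eq (Submodule.equivMapOfInjective _ (act_injective g) _).symm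
  rw [h2, finrank_perp hQ, finrank_span_singleton hu0] at h1
  have h3 := finrank_span_list_le v
  omega

/-- An element of `M` mapping a rational singular point into a small rational subspace is in the subfield group. -/
theorem mem_subfield_of_point {g : GL ι F} (hg : g ∈ M) (hgI : g ∈ isometryGroup F Q) {u : ι → F}
    (hu : u ∈ ratVec F₀ P) (hQu : Q u = 0) (hu0 : u ≠ 0) {v : Fin 2 → ι → F}
    (hv : ∀ i, v i ∈ ratVec F₀ P) (hgu : act g u ∈ Submodule.span F (Set.range v)) :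
    g ∈ Cfsg.Geo.subfieldSubgroup F₀ P := by
  obtain ⟨c, hc0, hcu⟩ := exists_smul_rat hP hQ hn hS hns hr hodd hcard hg hgI hu hQu hu0 hv hgu
  have step : ∀ u v, u ∈ ratVec F₀ P → Q u = 0 → u ≠ 0 → v ∈ ratVec F₀ P → Q v = 0 → B u v = 0 →
      v ∉ F ∙ u → ∀ c : F, c ≠ 0 → c • act g u ∈ ratVec F₀ P → c⁻¹ • act g v ∈ ratVec F₀ P := by
    intro u v hu hQu hu0 hv hQv huv hvu c hc hcu
    set u' := c • act g u with hu'
    have hgu' : act g u = c⁻¹ • u' := by rw [hu', smul_smul, inv_mul_cancel₀ hc, one_smul]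
    have hu'0 : u' ≠ 0 :=
      smul_ne_zero hc fun e => hu0 (act_injective g (e.trans (map_zero _).symm))
    have hQu' : Q u' = 0 := by rw [hu', Q_smul Q, Q_act hgI, hQu, mul_zero]
    have hu'v : B u' (act g v) = 0 := by rw [hu', B_smul_left Q, B_act hgI, huv, mul_zero]
    have hmem : sg Q u' (c⁻¹ • act g v) ∈ M := by
      rw [← sg_smul_left Q hQu' hu'v, ← hgu', ← conj_sg Q hgI]
      exact mul_mem (mul_mem hg (hS u hu v hv)) (inv_mem hg)
    obtain ⟨e, hy⟩ := rat_of_noSeed hns hcu hQu' hu'0 (by rw [B_smul_right Q, hu'v, mul_zero]) hmem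
    set y := c⁻¹ • act g v + e • u' with hydef
    have hgv : act g v = c • y + (-(c * e)) • u' := by
      rw [hydef, smul_add, smul_smul, smul_smul, mul_inv_cancel₀ hc, one_smul]; module
    have hrat : ∀ i, ![y, u'] i ∈ ratVec F₀ P := by intro i; fin_cases i <;> assumption
    obtain ⟨a, ha, haL⟩ := exists_smul_rat hP hQ hn hS hns hr hodd hcard hg hgI hv hQv
      (fun e0 => hvu (by rw [e0]; exact Submodule.zero_mem _)) (v := ![y, u']) hrat
      (mem_span_pair_iff_range.2 ⟨c, -(c * e), hgv.symm⟩)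
    have hyu : y ∉ Submodule.span F (Set.range ![u']) := by
      intro hm
      obtain ⟨d, hd⟩ : ∃ d : F, d • u' = y := by simpa [Submodule.mem_span_singleton] using hm
      apply hvu
      refine Submodule.mem_span_singleton.2 ⟨(c * d - c * e) * c, act_injective g ?_⟩
      rw [map_smul, hgv, ← hd, hu', smul_smul, smul_smul, smul_smul, ← add_smul]
      congr 1; ring
    have huy : u' ∉ Submodule.span F (Set.range ![y]) := by
      intro hm
      obtain ⟨d, hd⟩ : ∃ d : F, d • y = u' := by simpa [Submodule.mem_span_singleton] using hm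
      refine hyu (Submodule.mem_span_range_iff_exists_fun _ |>.2 ⟨fun _ => d⁻¹, ?_⟩)
      have hd0 : d ≠ 0 := fun e => hu'0 (by rw [← hd, e, zero_smul])
      simp [← hd, smul_smul, inv_mul_cancel₀ hd0]
    obtain ⟨z, hz, hzu, hzy⟩ := exists_rat_dual hP hQ ![u'] (fun i => by fin_cases i; exact hcu) hy hyu
    obtain ⟨z', hz', hzy', hzu'⟩ := exists_rat_dual hP hQ ![y] (fun i => by fin_cases i; exact hy) hcu huy
    have h1 := B_rat hP haL hz
    have h2 := B_rat hP haL hz'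
    have e1 : B u' z = 0 := hzu 0
    have e2 : B y z' = 0 := hzy' 0
    simp only [hgv, smul_add, B_add_left Q, B_smul_left Q, e1, e2, hzy, hzu', mul_one, mul_zero, add_zero,
      zero_add] at h1 h2
    have heF : e ∈ F₀ := by
      have := F₀.neg_mem (F₀.div_mem h2 h1)
      rwa [show -(a * -(c * e) / (a * c)) = e by field_simp] at this
    have := (ratVec F₀ P).sub_mem hy (ratVec_smul heF hcu)
    rwa [hydef, add_sub_cancel_right] at this
  have hall : ∀ w ∈ ratVec F₀ P, Q w = 0 → c • act g w ∈ ratVec F₀ P := by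
    intro w hw hQw
    rcases eq_or_ne w 0 with rfl | hw0
    · simp [(ratVec F₀ P).zero_mem]
    have huw : ∀ i, ![u, w] i ∈ ratVec F₀ P := by intro i; fin_cases i <;> assumption
    obtain ⟨m, hm, hQm, hm0, hmv, hmn⟩ := exists_rat_singular hP hQ ![u, w] huw ![u, w] huw (by omega)
    have h1 := step u m hu hQu hu0 hm hQm (hmv 0)
      (fun e => hmn (Submodule.span_mono (by rintro _ rfl; exact ⟨0, rfl⟩) e)) c hc0 hcu
    have h2 := step m w hm hQm hm0 hw hQw ((B_comm Q m w).trans (hmv 1)) (fun e => ?_) c⁻¹ (inv_ne_zero hc0) h1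
    · rwa [inv_inv] at h2
    · obtain ⟨d, rfl⟩ := Submodule.mem_span_singleton.1 e
      have hd : d ≠ 0 := fun e => hw0 (by rw [e, zero_smul])
      apply hmn
      have : d • m ∈ Submodule.span F (Set.range ![u, d • m]) := Submodule.subset_span ⟨1, rfl⟩
      have := Submodule.smul_mem _ d⁻¹ this
      rwa [smul_smul, inv_mul_cancel₀ hd, one_smul] at this
  refine mem_subfieldSubgroup F₀ P (inv_ne_zero hc0) fun x hx => ?_
  rw [inv_inv]
  let N : Submodule F₀ (ι → F) := (ratVec F₀ P).comap ((c • act g).restrictScalars F₀)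
  exact le_of_singular_rat hP hQ (![] : Fin 0 → ι → F) (fun i => i.elim0) (by omega) N
    (fun y hy hQy _ _ _ => hall y hy hQy) x hx fun i => i.elim0


omit hr hodd hcard in
/-- A line of a root element of `M` through a rational point is rational. -/
theorem exists_rat_pair {x a : ι → F} (hQx : Q x = 0) (hQa : Q a = 0) (hxa : B x a = 0) (hmem : sg Q x a ∈ M)
    {p : ι → F} (hp : p ∈ ratVec F₀ P) (hp0 : p ≠ 0) {α γ : F} (he : p = α • x + γ • a) :
    ∃ w : Fin 2 → ι → F, (∀ i, w i ∈ ratVec F₀ P) ∧ x ∈ Submodule.span F (Set.range w) := by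
  rcases eq_or_ne γ 0 with rfl | hγ
  · refine ⟨![p, p], by intro i; fin_cases i <;> exact hp, mem_span_pair_iff_range.2 ⟨α⁻¹, 0, ?_⟩⟩
    have hα : α ≠ 0 := fun e => hp0 (by rw [he, e]; simp)
    rw [he, zero_smul, add_zero, zero_smul, add_zero, inv_smul_smul₀ hα]
  have hQp : Q p = 0 := by rw [he, Q_add Q, Q_smul Q, Q_smul Q, B_smul_left Q, B_smul_right Q, hQx, hQa, hxa]; ring
  set p' := γ⁻¹ • p with hp'
  have hxp : B x p' = 0 := by
    rw [hp', he, B_smul_right Q, B_add_right Q, B_smul_right Q, B_smul_right Q, B_self_of_singular Q hQx, hxa]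
    ring
  have hpx : B p (-(γ⁻¹ • x)) = 0 := by
    rw [hp', B_smul_right Q, mul_eq_zero, or_iff_right (inv_ne_zero hγ)] at hxp
    rw [B_neg_right Q, B_smul_right Q, B_comm Q p x, hxp, mul_zero, neg_zero]
  have e1 : sg Q x a = sg Q p (-(γ⁻¹ • x)) := by
    have hQp' : Q p' = 0 := by rw [hp', Q_smul Q, hQp, mul_zero]
    rw [← sg_add_smul Q hQx hxa (α / γ), show a + (α / γ) • x = p' by
      rw [hp', he, smul_add, smul_smul, smul_smul, inv_mul_cancel₀ hγ, one_smul, div_eq_inv_mul]; abel,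
      sg_antisymm hQx hQp' hxp, hp', sg_smul_left Q hQp (by
        rw [B_neg_right Q, B_comm Q p x]
        rw [hp', B_smul_right Q, mul_eq_zero, or_iff_right (inv_ne_zero hγ)] at hxp
        rw [hxp, neg_zero]), smul_neg]
  rw [e1] at hmem
  obtain ⟨c, hc⟩ := rat_of_noSeed hns hp hQp hp0 hpx hmem
  refine ⟨![p, -(γ⁻¹ • x) + c • p], by intro i; fin_cases i; exacts [hp, hc],
    mem_span_pair_iff_range.2 ⟨γ * c, -γ, ?_⟩⟩
  match_scalars <;> field_simp <;> ring

omit hr hodd hcard in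
/-- A root element of `M` inside a rational totally singular three-space has a rational line. -/
theorem exists_rat_pair_of_three {e₁ e₂ e₃ : ι → F} (he₁ : e₁ ∈ ratVec F₀ P) (he₂ : e₂ ∈ ratVec F₀ P)
    (he₃ : e₃ ∈ ratVec F₀ P) (h1 : Q e₁ = 0) (h2 : Q e₂ = 0) (h3 : Q e₃ = 0) (h12 : B e₁ e₂ = 0)
    (h13 : B e₁ e₃ = 0) (h23 : B e₂ e₃ = 0) (hli : ∀ a b c : F, a • e₁ + b • e₂ + c • e₃ = 0 → a = 0 ∧ b = 0 ∧ c = 0)
    {x y : ι → F} (hxy : y ∉ F ∙ x) (hx0 : x ≠ 0) {a₁ a₂ a₃ b₁ b₂ b₃ : F}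
    (hx : x = a₁ • e₁ + a₂ • e₂ + a₃ • e₃) (hy : y = b₁ • e₁ + b₂ • e₂ + b₃ • e₃) (hmem : sg Q x y ∈ M) :
    ∃ w : Fin 2 → ι → F, (∀ i, w i ∈ ratVec F₀ P) ∧ x ∈ Submodule.span F (Set.range w) := by
  have n0 : e₁ ≠ 0 ∧ e₂ ≠ 0 := by
    refine ⟨fun e => one_ne_zero (α := F) (hli 1 0 0 (by simp [e])).1, fun e => one_ne_zero (α := F) (hli 0 1 0 (by simp [e])).2.1⟩
  have n31 : e₃ ∉ F ∙ e₁ := fun h => by
    obtain ⟨c, hc⟩ := Submodule.mem_span_singleton.1 h
    exact one_ne_zero (α := F) (neg_eq_zero.1 (hli c 0 (-1) (by rw [← hc]; module)).2.2)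
  have n32 : e₃ ∉ F ∙ e₂ := fun h => by
    obtain ⟨c, hc⟩ := Submodule.mem_span_singleton.1 h
    exact one_ne_zero (α := F) (neg_eq_zero.1 (hli 0 c (-1) (by rw [← hc]; module)).2.2)
  have n21 : e₂ ∉ F ∙ e₁ := fun h => by
    obtain ⟨c, hc⟩ := Submodule.mem_span_singleton.1 h
    exact one_ne_zero (α := F) (neg_eq_zero.1 (hli c (-1) 0 (by rw [← hc]; module)).2.1)
  have s2 : e₂ ∉ Submodule.span F (Set.range ![e₁, e₃]) := fun h => by
    obtain ⟨a, c, hac⟩ := mem_span_pair_iff_range.1 h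
    exact one_ne_zero (α := F) (neg_eq_zero.1 (hli a (-1) c (by rw [← hac]; module)).2.1)
  have s1 : e₁ ∉ Submodule.span F (Set.range ![e₂, e₃]) := fun h => by
    obtain ⟨a, c, hac⟩ := mem_span_pair_iff_range.1 h
    exact one_ne_zero (α := F) (neg_eq_zero.1 (hli (-1) a c (by rw [← hac]; module)).1)
  have s3 : e₃ ∉ Submodule.span F (Set.range ![e₁, e₂]) := fun h => by
    obtain ⟨a, c, hac⟩ := mem_span_pair_iff_range.1 h
    exact one_ne_zero (α := F) (neg_eq_zero.1 (hli a c (-1) (by rw [← hac]; module)).2.2)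
  have m23 := minor_rat hP hQ hn hS hns he₁ he₂ he₃ h1 h2 h3 h12 h13 h23 s2 n31 n0.1 hx hy hmem
  have m13 := minor_rat hP hQ hn hS hns he₂ he₁ he₃ h2 h1 h3 ((B_comm Q e₂ e₁).trans h12) h23 h13 s1 n32 n0.2
    (x := x) (y := y) (a₁ := a₂) (a₂ := a₁) (a₃ := a₃) (b₁ := b₂) (b₂ := b₁) (b₃ := b₃) (by rw [hx]; abel)
    (by rw [hy]; abel) hmem
  have s2' : e₂ ∉ Submodule.span F (Set.range ![e₃, e₁]) := fun h => s2 (by
    obtain ⟨a, c, hac⟩ := mem_span_pair_iff_range.1 h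
    exact mem_span_pair_iff_range.2 ⟨c, a, by rw [← hac, add_comm]⟩)
  have n13 : e₁ ∉ F ∙ e₃ := fun h => by
    obtain ⟨c, hc⟩ := Submodule.mem_span_singleton.1 h
    exact one_ne_zero (α := F) (neg_eq_zero.1 (hli (-1) 0 c (by rw [← hc]; module)).1)
  have m12 := minor_rat hP hQ hn hS hns he₃ he₂ he₁ h3 h2 h1 ((B_comm Q e₃ e₂).trans h23)
    ((B_comm Q e₃ e₁).trans h13) ((B_comm Q e₂ e₁).trans h12) s2' n13
    (fun e => one_ne_zero (α := F) (hli 0 0 1 (by simp [e])).2.2) (x := x) (y := y) (a₁ := a₃) (a₂ := a₂)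
    (a₃ := a₁) (b₁ := b₃) (b₂ := b₂) (b₃ := b₁) (by rw [hx]; abel) (by rw [hy]; abel) hmem
  have pick : ∀ {f₁ f₂ f₃ : ι → F} {α₁ α₂ α₃ β₁ β₂ β₃ : F}, f₁ ∈ ratVec F₀ P → f₂ ∈ ratVec F₀ P →
      f₃ ∈ ratVec F₀ P → x = α₁ • f₁ + α₂ • f₂ + α₃ • f₃ → α₁ * β₃ - α₃ * β₁ ∈ F₀ → α₁ * β₂ - α₂ * β₁ ∈ F₀ →
      α₂ * β₃ - α₃ * β₂ ∈ F₀ → α₂ * β₃ - α₃ * β₂ ≠ 0 →
      ∃ w : Fin 2 → ι → F, (∀ i, w i ∈ ratVec F₀ P) ∧ x ∈ Submodule.span F (Set.range w) := by
    intro f₁ f₂ f₃ α₁ α₂ α₃ β₁ β₂ β₃ hf₁ hf₂ hf₃ hxf g13 g12 g23 hne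
    refine ⟨![(α₁ * β₃ - α₃ * β₁) • f₁ + (α₂ * β₃ - α₃ * β₂) • f₂,
        (-(α₁ * β₂ - α₂ * β₁)) • f₁ + (α₂ * β₃ - α₃ * β₂) • f₃], ?_,
      mem_span_pair_iff_range.2 ⟨α₂ / (α₂ * β₃ - α₃ * β₂), α₃ / (α₂ * β₃ - α₃ * β₂), ?_⟩⟩
    · intro i
      fin_cases i
      · exact (ratVec F₀ P).add_mem (ratVec_smul g13 hf₁) (ratVec_smul g23 hf₂)
      · exact (ratVec F₀ P).add_mem (ratVec_smul (F₀.neg_mem g12) hf₁) (ratVec_smul g23 hf₃)
    · rw [hxf]
      match_scalars <;> field_simp <;> ring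
  by_cases q23 : a₂ * b₃ - a₃ * b₂ = 0
  swap
  · exact pick he₁ he₂ he₃ hx m13 (by simpa using F₀.neg_mem m12) m23 q23
  by_cases q13 : a₁ * b₃ - a₃ * b₁ = 0
  swap
  · exact pick (f₁ := e₂) (f₂ := e₁) (f₃ := e₃) (α₁ := a₂) (α₂ := a₁) (α₃ := a₃) (β₁ := b₂) (β₂ := b₁) (β₃ := b₃)
      he₂ he₁ he₃ (by rw [hx]; abel) m23 m12 m13 q13
  by_cases q12 : a₁ * b₂ - a₂ * b₁ = 0
  swap
  · exact pick (f₁ := e₃) (f₂ := e₁) (f₃ := e₂) (α₁ := a₃) (α₂ := a₁) (α₃ := a₂) (β₁ := b₃) (β₂ := b₁) (β₃ := b₂)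
      he₃ he₁ he₂ (by rw [hx]; abel) (by simpa using F₀.neg_mem m23) (by simpa using F₀.neg_mem m13)
      (by simpa using F₀.neg_mem m12) q12
  exfalso
  apply hxy
  rw [Submodule.mem_span_singleton]
  have p : a₁ ≠ 0 ∨ a₂ ≠ 0 ∨ a₃ ≠ 0 := by
    by_contra hc
    push Not at hc
    exact hx0 (by rw [hx, hc.1, hc.2.1, hc.2.2]; simp)
  rcases p with h | h | h
  · refine ⟨b₁ / a₁, ?_⟩
    rw [hx, hy]
    match_scalars <;> field_simp
    · linear_combination -q12
    · linear_combination -q13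
  · refine ⟨b₂ / a₂, ?_⟩
    rw [hx, hy]
    match_scalars <;> field_simp
    · linear_combination q12
    · linear_combination -q23
  · refine ⟨b₃ / a₃, ?_⟩
    rw [hx, hy]
    match_scalars <;> field_simp
    · linear_combination q13
    · linear_combination q23

end Cfsg.Agent.MaxCl.Orth.Small
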