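/-
Subfield groups of odd prime index are maximal in `omegaGL`, dimension at least eight, no totally singular four-space.
-/
import Cfsg.Agent.Lib.MaxCl.Small.OrthSubfieldPoint

set_option autoImplicit false

namespace Cfsg.Agent.MaxCl.Orth.Small

open scoped MatrixGroups Matrix
open Module (finrank)

variable {ι : Type} [Fintype ι] [DecidableEq ι] {F : Type*} [Field F] {Q : QuadraticForm F (ι → F)}
  {F₀ : Subfield F} {P : GL ι F}

set_option quotPrecheck false in
local notation "B" => QuadraticMap.polar (⇑Q)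

variable [Finite F] (hP : ∀ x ∈ ratVec F₀ P, Q x ∈ F₀) (hQ : (QuadraticMap.polarBilin Q).Nondegenerate)
  (hn : 8 ≤ Fintype.card ι) {M : Subgroup (GL ι F)}
  (hS : ∀ u ∈ ratVec F₀ P, ∀ w ∈ ratVec F₀ P, sg Q u w ∈ M) (hns : ¬ Seed Q F₀ P M)
  {r : ℕ} (hr : r.Prime) (hodd : Odd r) (hcard : Nat.card F = Nat.card F₀ ^ r)
  (hwitt : ∀ U : Submodule F (ι → F), (∀ x ∈ U, Q x = 0) → finrank F U ≤ 3)
include hP hQ hn hS hns hr hodd hcard hwitt

/-- The line of a root element of `M` conjugate to a rational one is not skew to a second line with rational sum. -/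
theorem skew_false {g : GL ι F} (hgM : g ∈ M) (hgI : g ∈ isometryGroup F Q)
    (hgS : g ∉ Cfsg.Geo.subfieldSubgroup F₀ P) {u t : ι → F} (hu : u ∈ ratVec F₀ P) (ht : t ∈ ratVec F₀ P)
    (hQu : Q u = 0) (hQt : Q t = 0) (hut : B u t = 0) (hu0 : u ≠ 0) {x₂ a₂ : ι → F}
    (hQx₂ : Q x₂ = 0) (hQa₂ : Q a₂ = 0) (h2 : B x₂ a₂ = 0)
    (hli : LinearIndependent F ![act g u, act g t, x₂, a₂]) {k : ℕ} {v : Fin k → ι → F}
    (hv : ∀ i, v i ∈ ratVec F₀ P)
    (hR : Submodule.span F (Set.range v) = Submodule.span F (Set.range ![act g u, act g t, x₂, a₂])) : False := by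
  set x := act g u with hxdef
  set a := act g t with hadef
  set R := Submodule.span F (Set.range ![x, a, x₂, a₂]) with hRdef
  have hQx : Q x = 0 := by rw [hxdef, Q_act hgI, hQu]
  have hQa : Q a = 0 := by rw [hadef, Q_act hgI, hQt]
  have hxa : B x a = 0 := by rw [hxdef, hadef, B_act hgI, hut]
  have hmem : sg Q x a ∈ M := by
    rw [hxdef, hadef, ← conj_sg Q hgI]; exact mul_mem (mul_mem hgM (hS u hu t ht)) (inv_mem hgM)
  have hRd : finrank F R = 4 := by rw [hRdef, finrank_span_eq_card hli, Fintype.card_fin]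
  have hxR : x ∈ R := Submodule.subset_span ⟨0, rfl⟩
  have haR : a ∈ R := Submodule.subset_span ⟨1, rfl⟩
  have hx0 : x ≠ 0 := fun e => hu0 (act_injective g (e.trans (map_zero _).symm))
  have hind : ∀ α γ : F, α • x + γ • a = 0 → α = 0 ∧ γ = 0 := fun α γ h => by
    have h' := Fintype.linearIndependent_iff.1 hli ![α, γ, 0, 0] (by
      rw [Fin.sum_univ_four]; simpa using h)
    exact ⟨h' 0, h' 1⟩
  have hax : a ∉ F ∙ x := fun h => by
    obtain ⟨c, hc⟩ := Submodule.mem_span_singleton.1 h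
    exact one_ne_zero (α := F) (neg_eq_zero.1 (hind c (-1) (by rw [hc]; simp)).2)
  have finishPair : (∃ w : Fin 2 → ι → F, (∀ i, w i ∈ ratVec F₀ P) ∧ x ∈ Submodule.span F (Set.range w)) → False :=
    fun ⟨w, hw, hxw⟩ => hgS (mem_subfield_of_point hP hQ hn hS hns hr hodd hcard hgM hgI hu hQu hu0 hw hxw)
  have noPoint : ∀ p ∈ ratVec F₀ P, p ≠ 0 → ∀ α γ : F, p = α • x + γ • a → False := fun p hp hp0 α γ h =>
    finishPair (exists_rat_pair hP hQ hn hS hns hQx hQa hxa hmem hp hp0 h)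
  -- radical vectors of `R`
  have radQ : ∀ z ∈ R, (∀ w ∈ R, B z w = 0) → Q z = 0 := by
    intro z hz hrad
    obtain ⟨c, hc⟩ := (Submodule.mem_span_range_iff_exists_fun _).1 hz
    rw [Fin.sum_univ_four] at hc
    simp only [Matrix.cons_val] at hc
    have e := hrad (c 0 • x + c 1 • a) (R.add_mem (R.smul_mem _ hxR) (R.smul_mem _ haR))
    rw [← hc] at e ⊢
    simp only [Q_add Q, Q_smul Q, B_add_left Q, B_add_right Q, B_smul_left Q, B_smul_right Q, hQx, hQa, hQx₂,
      hQa₂, hxa, h2, B_self_of_singular Q hQx, B_self_of_singular Q hQa, B_comm Q a x, B_comm Q x₂ x,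
      B_comm Q x₂ a, B_comm Q a₂ x, B_comm Q a₂ a] at e ⊢
    linear_combination e
  have notBoth : ¬ ((∀ w ∈ R, B x w = 0) ∧ ∀ w ∈ R, B a w = 0) := by
    rintro ⟨hxr, har⟩
    have h4 := hwitt R fun z hz => by
      obtain ⟨c, hc⟩ := (Submodule.mem_span_range_iff_exists_fun _).1 hz
      rw [Fin.sum_univ_four] at hc
      simp only [Matrix.cons_val] at hc
      have e1 : B x x₂ = 0 := hxr x₂ (Submodule.subset_span ⟨2, rfl⟩)
      have e2 : B x a₂ = 0 := hxr a₂ (Submodule.subset_span ⟨3, rfl⟩)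
      have e3 : B a x₂ = 0 := har x₂ (Submodule.subset_span ⟨2, rfl⟩)
      have e4 : B a a₂ = 0 := har a₂ (Submodule.subset_span ⟨3, rfl⟩)
      rw [← hc]
      simp only [Q_add Q, Q_smul Q, B_add_left Q, B_smul_left Q, B_smul_right Q, hQx, hQa, hQx₂, hQa₂, hxa, h2,
        e1, e2, e3, e4]
      ring
    omega
  have hvR : ∀ i, v i ∈ R := fun i => hR.le (Submodule.subset_span ⟨i, rfl⟩)
  -- singular rational points of `R`
  choose v' hv' using fun i => exists_emb (hv i)
  set D := Submodule.span F₀ (Set.range v') with hD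
  have hDR : ∀ w ∈ D, emb F₀ P w ∈ R := by
    intro w hw
    induction hw using Submodule.span_induction with
    | mem y hy => obtain ⟨i, rfl⟩ := hy; rw [hv']; exact hvR i
    | zero => rw [map_zero]; exact R.zero_mem
    | add y z _ _ hy hz => rw [map_add]; exact R.add_mem hy hz
    | smul c y _ hy => rw [map_smul]; exact R.smul_mem (c : F) hy
  have hDd : 4 ≤ finrank F₀ D := by
    obtain ⟨w, hw, hws, hwli⟩ := Submodule.exists_fun_fin_finrank_span_eq F (Set.range v)
    choose σ hσ using hw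
    have hk4 : finrank F (Submodule.span F (Set.range v)) = 4 := by rw [hR, hRd]
    have hli' : LinearIndependent F₀ fun i => v' (σ i) := by
      rw [Fintype.linearIndependent_iff]
      intro c hc i
      have h0 := congrArg (emb F₀ P) hc
      rw [map_sum, map_zero] at h0
      simp only [map_smul, hv', hσ, Subfield.smul_def] at h0
      exact Subtype.ext (Fintype.linearIndependent_iff.1 hwli (fun j => (c j : F)) h0 i)
    refine le_trans ?_ (Submodule.finrank_mono
      (Submodule.span_mono (by rintro _ ⟨i, rfl⟩; exact ⟨σ i, rfl⟩) : Submodule.span F₀ (Set.range fun i => v' (σ i)) ≤ D))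
    rw [finrank_span_eq_card hli', Fintype.card_fin, hk4]
  have point : ∀ E : Submodule F₀ (ι → F₀), finrank F₀ E ≤ 1 →
      ∃ w ∈ D, w ∉ E ∧ Q (emb F₀ P w) = 0 := by
    intro E hE
    obtain ⟨w, hw, hwE, hQw⟩ := exists_singular_notMem (formSub hP) (D := D) (E := E) (by omega)
    exact ⟨w, hw, hwE, by rw [← formSub_apply hP, hQw]; rfl⟩
  -- a non-radical one
  obtain ⟨p, hp, hpR, hQp, i₀, hpi⟩ : ∃ p ∈ ratVec F₀ P, p ∈ R ∧ Q p = 0 ∧ ∃ i, B p (v i) ≠ 0 := by
    by_contra hc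
    push Not at hc
    have rad : ∀ p ∈ ratVec F₀ P, p ∈ R → Q p = 0 → ∀ w ∈ R, B p w = 0 := fun p hp hpR hQp w hw => by
      rw [← hR] at hw
      exact (B_comm Q p w).trans (B_span_eq_zero hw fun i => (B_comm Q (v i) p).trans (hc p hp hpR hQp i))
    obtain ⟨w₁, hw₁, hw₁n, hQw₁⟩ := point ⊥ (by simp)
    obtain ⟨w₂, hw₂, hw₂n, hQw₂⟩ := point (F₀ ∙ w₁) (by
      rw [finrank_span_singleton (by simpa using hw₁n)])
    set p₁ := emb F₀ P w₁ with hp₁
    set p₂ := emb F₀ P w₂ with hp₂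
    have hp₁0 : p₁ ≠ 0 := fun e => hw₁n (by
      rw [emb_injective (F₀ := F₀) (P := P) (e.trans (map_zero _).symm)]; exact Submodule.zero_mem _)
    have hp₂n : p₂ ∉ F ∙ p₁ := fun h => hw₂n (by
      obtain ⟨c, hc'⟩ := Submodule.mem_span_singleton.1 h
      have hcF : c ∈ F₀ := smul_rat_mem (emb_mem w₁) hp₁0 (by rw [hc']; exact emb_mem w₂)
      refine Submodule.mem_span_singleton.2 ⟨⟨c, hcF⟩, emb_injective (F₀ := F₀) (P := P) ?_⟩
      rw [map_smul]; exact hc')
    have r₁ := rad p₁ (emb_mem _) (hDR _ hw₁) hQw₁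
    have r₂ := rad p₂ (emb_mem _) (hDR _ hw₂) hQw₂
    set P2 := (F ∙ p₁) ⊔ F ∙ p₂ with hP2
    have hP2d : finrank F P2 = 2 := by
      rw [hP2, Submodule.finrank_sup_span_singleton hp₂n, finrank_span_singleton hp₁0]
    obtain ⟨i, hi⟩ : ∃ i, v i ∉ P2 := by
      by_contra h
      push Not at h
      have := Submodule.finrank_mono (hR.ge.trans (Submodule.span_le.2 (by rintro _ ⟨i, rfl⟩; exact h i)) : R ≤ P2)
      omega
    have hP3d : finrank F ↥(P2 ⊔ F ∙ v i) = 3 := by rw [Submodule.finrank_sup_span_singleton hi, hP2d]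
    obtain ⟨j, hj⟩ : ∃ j, v j ∉ P2 ⊔ F ∙ v i := by
      by_contra h
      push Not at h
      have := Submodule.finrank_mono
        (hR.ge.trans (Submodule.span_le.2 (by rintro _ ⟨i, rfl⟩; exact h i)) : R ≤ P2 ⊔ F ∙ v i)
      omega
    have hfull : P2 ⊔ F ∙ v i ⊔ F ∙ v j = R := by
      refine Submodule.eq_of_le_of_finrank_le (sup_le (sup_le (sup_le ?_ ?_) ?_) ?_) ?_
      any_goals rw [Submodule.span_singleton_le_iff_mem]
      · exact hDR _ hw₁
      · exact hDR _ hw₂
      · exact hvR i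
      · exact hvR j
      · rw [Submodule.finrank_sup_span_singleton hj, hP3d, hRd]
    have decomp : ∀ z ∈ R, ∃ ρ ∈ P2, ∃ α γ : F, z = α • v i + γ • v j + ρ := by
      intro z hz
      rw [← hfull] at hz
      obtain ⟨q, hq, _, hs, rfl⟩ := Submodule.mem_sup.1 hz
      obtain ⟨ρ, hρ, _, hs', rfl⟩ := Submodule.mem_sup.1 hq
      obtain ⟨γ, rfl⟩ := Submodule.mem_span_singleton.1 hs
      obtain ⟨α, rfl⟩ := Submodule.mem_span_singleton.1 hs'
      exact ⟨ρ, hρ, α, γ, by abel⟩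
    have hρ : ∀ ρ ∈ P2, ρ ∈ R ∧ ∀ w ∈ R, B ρ w = 0 := by
      intro ρ hρ
      obtain ⟨_, hs, _, hs', rfl⟩ := Submodule.mem_sup.1 hρ
      obtain ⟨α, rfl⟩ := Submodule.mem_span_singleton.1 hs
      obtain ⟨γ, rfl⟩ := Submodule.mem_span_singleton.1 hs'
      exact ⟨R.add_mem (R.smul_mem _ (hDR _ hw₁)) (R.smul_mem _ (hDR _ hw₂)), fun w hw => by
        rw [B_add_left Q, B_smul_left Q, B_smul_left Q, r₁ w hw, r₂ w hw]; ring⟩
    have key : ∀ l ∈ R, Q l = 0 → ∀ w ∈ R, B l w = 0 := by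
      intro l hl hQl
      obtain ⟨ρ, hρ2, α, γ, hle⟩ := decomp l hl
      obtain ⟨hρR, hρr⟩ := hρ ρ hρ2
      have hne : ¬ (Q (v i) = 0 ∧ Q (v j) = 0 ∧ B (v i) (v j) = 0) := by
        rintro ⟨ei, ej, -⟩
        apply notBoth
        have hall : ∀ z ∈ R, ∀ w ∈ R, B z w = 0 := by
          intro z hz w hw
          obtain ⟨ρ', hρ', α', γ', rfl⟩ := decomp z hz
          rw [B_add_left Q, B_add_left Q, B_smul_left Q, B_smul_left Q, (hρ ρ' hρ').2 w hw,
            rad _ (hv i) (hvR i) ei w hw, rad _ (hv j) (hvR j) ej w hw]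
          ring
        exact ⟨hall x hxR, hall a haR⟩
      have hQv : Q (α • v i + γ • v j) = 0 := by
        have h0 : α • v i + γ • v j = l - ρ := by rw [hle]; abel
        rw [h0, Q_sub Q, hQl, radQ ρ hρR hρr, B_comm Q l ρ, hρr l hl]; ring
      obtain ⟨z, hz, c, hzc⟩ := rat_line hP hr hodd hcard (hv i) (hv j) hne hQv
      rw [hle, hzc]
      intro w hw
      rw [B_add_left Q, B_smul_left Q, hρr w hw, add_zero]
      rcases eq_or_ne c 0 with rfl | hc0
      · rw [zero_mul]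
      · have hzR : z ∈ R := by
          rw [← inv_smul_smul₀ hc0 z, ← hzc]
          exact R.smul_mem _ (R.add_mem (R.smul_mem _ (hvR i)) (R.smul_mem _ (hvR j)))
        have hQz : Q z = 0 := by
          rw [← inv_smul_smul₀ hc0 z, ← hzc, Q_smul Q, hQv, mul_zero]
        rw [rad z hz hzR hQz w hw, mul_zero]
    exact notBoth ⟨key x hxR hQx, key a haR hQa⟩
  have hp0 : p ≠ 0 := fun e => hpi (by rw [e, B_zero_left Q])
  have hpF := B_rat hP hp (hv i₀)
  obtain ⟨q₀, hq₀⟩ : ∃ q₀, q₀ = (B p (v i₀))⁻¹ • v i₀ := ⟨_, rfl⟩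
  have hpq₀ : B p q₀ = 1 := by rw [hq₀, B_smul_right Q, inv_mul_cancel₀ hpi]
  obtain ⟨q, hqdef⟩ : ∃ q, q = q₀ - Q q₀ • p := ⟨_, rfl⟩
  have hq₀L : q₀ ∈ ratVec F₀ P := hq₀ ▸ ratVec_smul (F₀.inv_mem hpF) (hv i₀)
  have hqL : q ∈ ratVec F₀ P := hqdef ▸ (ratVec F₀ P).sub_mem hq₀L (ratVec_smul (hP _ hq₀L) hp)
  have hqR : q ∈ R := by
    rw [hqdef, hq₀]; exact R.sub_mem (R.smul_mem _ (hvR i₀)) (R.smul_mem _ hpR)
  have hpq : B p q = 1 := by rw [hqdef, B_sub_right Q, B_smul_right Q, hpq₀, B_self_of_singular Q hQp]; ring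
  have hQq : Q q = 0 := by
    rw [hqdef, Q_sub Q, Q_smul Q, B_smul_right Q, hQp, B_comm Q q₀ p, hpq₀]; ring
  have hqp : q ∉ F ∙ p := fun h => by
    obtain ⟨c, hc⟩ := Submodule.mem_span_singleton.1 h
    rw [← hc, B_smul_right Q, B_self_of_singular Q hQp, mul_zero] at hpq
    exact zero_ne_one hpq
  set P2 := (F ∙ p) ⊔ F ∙ q with hP2
  have hP2d : finrank F P2 = 2 := by
    rw [hP2, Submodule.finrank_sup_span_singleton hqp, finrank_span_singleton hp0]
  obtain ⟨i, hi⟩ : ∃ i, v i ∉ P2 := by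
    by_contra h
    push Not at h
    have := Submodule.finrank_mono (hR.ge.trans (Submodule.span_le.2 (by rintro _ ⟨i, rfl⟩; exact h i)) : R ≤ P2)
    omega
  have hP3d : finrank F ↥(P2 ⊔ F ∙ v i) = 3 := by rw [Submodule.finrank_sup_span_singleton hi, hP2d]
  obtain ⟨j, hj⟩ : ∃ j, v j ∉ P2 ⊔ F ∙ v i := by
    by_contra h
    push Not at h
    have := Submodule.finrank_mono
      (hR.ge.trans (Submodule.span_le.2 (by rintro _ ⟨i, rfl⟩; exact h i)) : R ≤ P2 ⊔ F ∙ v i)
    omega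
  have proj : ∀ w ∈ ratVec F₀ P, w ∈ R → w - B q w • p - B p w • q ∈ ratVec F₀ P ∧
      w - B q w • p - B p w • q ∈ R ∧ B p (w - B q w • p - B p w • q) = 0 ∧
      B q (w - B q w • p - B p w • q) = 0 := fun w hw hwR => ⟨(ratVec F₀ P).sub_mem ((ratVec F₀ P).sub_mem hw
      (ratVec_smul (B_rat hP hqL hw) hp)) (ratVec_smul (B_rat hP hp hw) hqL),
    R.sub_mem (R.sub_mem hwR (R.smul_mem _ hpR)) (R.smul_mem _ hqR), by
      rw [B_sub_right Q, B_sub_right Q, B_smul_right Q, B_smul_right Q, B_self_of_singular Q hQp, hpq]; ring, by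
      rw [B_sub_right Q, B_sub_right Q, B_smul_right Q, B_smul_right Q, B_self_of_singular Q hQq, B_comm Q q p, hpq]
      ring⟩
  obtain ⟨heL, heR, hpe, hqe⟩ := proj _ (hv i) (hvR i)
  obtain ⟨hfL, hfR, hpf, hqf⟩ := proj _ (hv j) (hvR j)
  set e := v i - B q (v i) • p - B p (v i) • q with hedef
  set f := v j - B q (v j) • p - B p (v j) • q with hfdef
  have hp2 : ∀ α β : F, α • p + β • q ∈ P2 := fun α β => Submodule.add_mem_sup
    (Submodule.smul_mem _ _ (Submodule.mem_span_singleton_self p))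
    (Submodule.smul_mem _ _ (Submodule.mem_span_singleton_self q))
  have hfull : R ≤ P2 ⊔ F ∙ e ⊔ F ∙ f := by
    have h1 : v i ∈ P2 ⊔ F ∙ e := by
      rw [show v i = (B q (v i) • p + B p (v i) • q) + e by rw [hedef]; abel]
      exact Submodule.add_mem_sup (hp2 _ _) (Submodule.mem_span_singleton_self e)
    have h2' : v j ∈ P2 ⊔ F ∙ e ⊔ F ∙ f := by
      rw [show v j = (B q (v j) • p + B p (v j) • q) + f by rw [hfdef]; abel]
      exact Submodule.add_mem_sup (Submodule.mem_sup_left (hp2 _ _)) (Submodule.mem_span_singleton_self f)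
    have h3 : P2 ⊔ F ∙ v i ⊔ F ∙ v j = R := by
      refine Submodule.eq_of_le_of_finrank_le (sup_le (sup_le (sup_le ?_ ?_) ?_) ?_) ?_
      any_goals rw [Submodule.span_singleton_le_iff_mem]
      · exact hpR
      · exact hqR
      · exact hvR i
      · exact hvR j
      · rw [Submodule.finrank_sup_span_singleton hj, hP3d, hRd]
    rw [← h3]
    refine sup_le (sup_le (le_sup_left.trans le_sup_left) ?_) ?_
    · rw [Submodule.span_singleton_le_iff_mem]; exact Submodule.mem_sup_left h1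
    · rwa [Submodule.span_singleton_le_iff_mem]
  have coord : ∀ z ∈ R, ∃ γ δ : F, z = B q z • p + B p z • q + γ • e + δ • f := by
    intro z hz
    obtain ⟨z₁, hz₁, _, hd', rfl⟩ := Submodule.mem_sup.1 (hfull hz)
    obtain ⟨z₀, hz₀, _, hc', rfl⟩ := Submodule.mem_sup.1 hz₁
    obtain ⟨_, ha', _, hb', rfl⟩ := Submodule.mem_sup.1 hz₀
    obtain ⟨α, rfl⟩ := Submodule.mem_span_singleton.1 ha'
    obtain ⟨β, rfl⟩ := Submodule.mem_span_singleton.1 hb'
    obtain ⟨γ, rfl⟩ := Submodule.mem_span_singleton.1 hc'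
    obtain ⟨δ, rfl⟩ := Submodule.mem_span_singleton.1 hd'
    refine ⟨γ, δ, ?_⟩
    simp only [B_add_right Q, B_smul_right Q, B_self_of_singular Q hQp, B_self_of_singular Q hQq, hpq,
      B_comm Q q p, hpe, hqe, hpf, hqf]
    module
  have indep : ∀ α β γ δ : F, α • p + β • q + γ • e + δ • f = 0 → α = 0 ∧ β = 0 ∧ γ = 0 ∧ δ = 0 := by
    intro α β γ δ h
    have hβ : β = 0 := by
      have := congrArg (B p) h
      simpa [B_add_right Q, B_smul_right Q, B_self_of_singular Q hQp, hpq, hpe, hpf, B_zero_right Q] using this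
    have hα : α = 0 := by
      have := congrArg (B q) h
      simpa [B_add_right Q, B_smul_right Q, B_self_of_singular Q hQq, B_comm Q q p, hpq, hqe, hqf,
        B_zero_right Q] using this
    rw [hα, hβ, zero_smul, zero_smul, zero_add, zero_add] at h
    rcases eq_or_ne δ 0 with rfl | hδ
    · rw [zero_smul, add_zero] at h
      refine ⟨hα, hβ, (smul_eq_zero.1 h).resolve_right fun e0 => hi ?_, rfl⟩
      rw [hedef, sub_sub, sub_eq_zero] at e0
      rw [e0]; exact hp2 _ _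
    · exfalso
      refine hj ?_
      have hf' : f = (-(δ⁻¹ * γ)) • e := by
        rw [← inv_smul_smul₀ hδ f, eq_neg_of_add_eq_zero_right h, smul_neg, smul_smul, neg_smul]
      rw [show v j = B q (v j) • p + B p (v j) • q + f by rw [hfdef]; abel, hf']
      exact Submodule.add_mem _ (Submodule.mem_sup_left (hp2 _ _)) (Submodule.smul_mem _ _ (by
        rw [hedef, sub_sub]
        exact Submodule.sub_mem _ (Submodule.mem_sup_right (Submodule.mem_span_singleton_self _))
          (Submodule.mem_sup_left (hp2 _ _))))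
  obtain ⟨γx, δx, hxc⟩ := coord x hxR
  obtain ⟨γa, δa, hac⟩ := coord a haR
  by_cases hperp : B p x = 0 ∧ B p a = 0
  · -- the point completes the line to a rational totally singular three-space
    by_cases hpL : ∃ α γ : F, p = α • x + γ • a
    · obtain ⟨α, γ, h⟩ := hpL
      exact noPoint p hp hp0 α γ h
    set Z := Submodule.span F (Set.range ![x, a, p]) with hZ
    have hZli : LinearIndependent F ![x, a, p] := by
      rw [Fintype.linearIndependent_iff]
      intro c hc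
      rw [Fin.sum_univ_three] at hc
      simp only [Matrix.cons_val] at hc
      have c2 : c 2 = 0 := by
        by_contra h0
        refine hpL ⟨-((c 2)⁻¹ * c 0), -((c 2)⁻¹ * c 1), ?_⟩
        rw [← sub_eq_zero, ← smul_eq_zero_iff_right h0, ← hc]
        match_scalars <;> field_simp <;> ring
      rw [c2, zero_smul, add_zero] at hc
      obtain ⟨c0, c1⟩ := hind _ _ hc
      intro l; fin_cases l <;> assumption
    have hZs : ∀ z ∈ Z, Q z = 0 := by
      intro z hz
      obtain ⟨c, rfl⟩ := (Submodule.mem_span_range_iff_exists_fun _).1 hz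
      rw [Fin.sum_univ_three]
      exact singular_three hQx hQa hQp hxa ((B_comm Q x p).trans hperp.1) ((B_comm Q a p).trans hperp.2) _ _ _
    have hZle : Z ≤ Submodule.span F (Set.range ![p, e, f]) := by
      rw [hZ, Submodule.span_le]
      rintro _ ⟨l, rfl⟩
      refine (Submodule.mem_span_range_iff_exists_fun _).2 ?_
      fin_cases l
      · exact ⟨![B q x, γx, δx], by
          rw [Fin.sum_univ_three]; conv_rhs => rw [show (![x, a, p] : Fin 3 → ι → F) ((fun i => i) ⟨0, by omega⟩) = x from rfl, hxc, hperp.1]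
          simp⟩
      · exact ⟨![B q a, γa, δa], by
          rw [Fin.sum_univ_three]; conv_rhs => rw [show (![x, a, p] : Fin 3 → ι → F) ((fun i => i) ⟨1, by omega⟩) = a from rfl, hac, hperp.2]
          simp⟩
      · exact ⟨![1, 0, 0], by rw [Fin.sum_univ_three]; simp⟩
    have hZeq : Z = Submodule.span F (Set.range ![p, e, f]) := Submodule.eq_of_le_of_finrank_le hZle (by
      rw [hZ, finrank_span_eq_card hZli, Fintype.card_fin]; exact finrank_span_list_le _)
    have hemem : e ∈ Z := hZeq ▸ Submodule.subset_span ⟨1, rfl⟩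
    have hfmem : f ∈ Z := hZeq ▸ Submodule.subset_span ⟨2, rfl⟩
    rw [hperp.1, zero_smul, add_zero] at hxc
    rw [hperp.2, zero_smul, add_zero] at hac
    exact finishPair (exists_rat_pair_of_three hP hQ hn hS hns hp heL hfL hQp (hZs e hemem) (hZs f hfmem) hpe hpf
      (B_eq_zero_of_singular hZs hemem hfmem)
      (fun α γ δ h => ⟨(indep α 0 γ δ (by rw [zero_smul, add_zero]; exact h)).1,
        (indep α 0 γ δ (by rw [zero_smul, add_zero]; exact h)).2.2⟩) hax hx0 hxc hac hmem)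
  by_cases hC : Q e = 0 ∧ Q f = 0 ∧ B e f = 0
  · -- the complement is the radical
    obtain ⟨hQe, hQf, hef⟩ := hC
    have hQz : ∀ z (γ δ : F), z = B q z • p + B p z • q + γ • e + δ • f → Q z = B q z * B p z := by
      intro z γ δ hz
      conv_lhs => rw [hz]
      simp only [Q_add Q, Q_smul Q, B_add_left Q, B_smul_left Q, B_smul_right Q, hQp, hQq, hQe, hQf, hef, hpq,
        hpe, hpf, hqe, hqf]
      ring
    have e1 := hQz x γx δx hxc
    have e2 := hQz a γa δa hac
    rw [hQx] at e1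
    rw [hQa] at e2
    have e3 : B q x * B p a + B p x * B q a = 0 := by
      rw [← hxa]
      conv_rhs => rw [hxc, hac]
      simp only [B_add_left Q, B_add_right Q, B_smul_left Q, B_smul_right Q, B_self_of_singular Q hQp,
        B_self_of_singular Q hQq, B_self_of_singular Q hQe, B_self_of_singular Q hQf, hef, hpq, hpe, hpf, hqe, hqf,
        B_comm Q q p, B_comm Q e p, B_comm Q e q, B_comm Q f p, B_comm Q f q, B_comm Q f e]
      ring
    obtain ⟨hqx, hqa⟩ : B q x = 0 ∧ B q a = 0 := by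
      rcases eq_or_ne (B p x) 0 with h0 | h0
      · have ha' : B p a ≠ 0 := fun h => hperp ⟨h0, h⟩
        rw [h0, zero_mul, add_zero, mul_eq_zero, or_iff_left ha'] at e3
        exact ⟨e3, (mul_eq_zero.1 e2.symm).resolve_right ha'⟩
      · have hx' : B q x = 0 := (mul_eq_zero.1 e1.symm).resolve_right h0
        rw [hx', zero_mul, zero_add, mul_eq_zero, or_iff_right h0] at e3
        exact ⟨hx', e3⟩
    rw [hqx, zero_smul, zero_add] at hxc
    rw [hqa, zero_smul, zero_add] at hac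
    exact finishPair (exists_rat_pair_of_three hP hQ hn hS hns hqL heL hfL hQq hQe hQf hqe hqf hef
      (fun α γ δ h => ⟨(indep 0 α γ δ (by rw [zero_smul, zero_add]; exact h)).2.1,
        (indep 0 α γ δ (by rw [zero_smul, zero_add]; exact h)).2.2⟩) hax hx0 hxc hac hmem)
  -- a rational root element normalising the line
  set X := B p a • x - B p x • a with hX
  have hX0 : X ≠ 0 := fun h => by
    obtain ⟨h1, h2'⟩ := hind (B p a) (-B p x) (by rw [neg_smul, ← sub_eq_add_neg]; exact h)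
    exact hperp ⟨neg_eq_zero.1 h2', h1⟩
  have hXR : X ∈ R := R.sub_mem (R.smul_mem _ hxR) (R.smul_mem _ haR)
  have hpX : B p X = 0 := by rw [hX, B_sub_right Q, B_smul_right Q, B_smul_right Q]; ring
  have hQX : Q X = 0 := by
    rw [hX, Q_sub Q, Q_smul Q, Q_smul Q, B_smul_left Q, B_smul_right Q, hQx, hQa, hxa]; ring
  obtain ⟨γ, δ, hXc⟩ := coord X hXR
  rw [hpX, zero_smul, add_zero] at hXc
  have hQC : Q (γ • e + δ • f) = 0 := by
    have h0 : γ • e + δ • f = X - B q X • p := by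
      conv_rhs => arg 1; rw [hXc]
      abel
    rw [h0, Q_sub Q, Q_smul Q, B_smul_right Q, hQX, hQp, B_comm Q X p, hpX]; ring
  obtain ⟨z, hz, l, hzl⟩ := rat_line hP hr hodd hcard heL hfL hC hQC
  rw [add_assoc, hzl] at hXc
  have hl : l ≠ 0 := by
    rintro rfl
    rw [zero_smul, add_zero] at hXc
    have hα : B q X ≠ 0 := fun h => hX0 (by rw [hXc, h, zero_smul])
    refine noPoint p hp hp0 ((B q X)⁻¹ * B p a) (-((B q X)⁻¹ * B p x)) ?_
    calc p = (B q X)⁻¹ • (B q X • p) := (inv_smul_smul₀ hα p).symm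
      _ = (B q X)⁻¹ • (B p a • x - B p x • a) := by rw [← hXc]
      _ = _ := by module
  obtain ⟨β, hβ⟩ : ∃ β, β = B q X := ⟨_, rfl⟩
  rw [← hβ] at hXc
  have hzC : z = l⁻¹ • (γ • e + δ • f) := by rw [hzl, inv_smul_smul₀ hl]
  have hQz : Q z = 0 := by rw [hzC, Q_smul Q, hQC, mul_zero]
  have hpz : B p z = 0 := by
    rw [hzC, B_smul_right Q, B_add_right Q, B_smul_right Q, B_smul_right Q, hpe, hpf]; ring
  set h := sg Q p z with hh
  have hhM : h ∈ M := hS p hp z hz
  have hhr : ∀ w, B X w = 0 → act h w = w + (B p w / l) • X := by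
    intro w hw
    have hzw : B z w = -(β / l) * B p w := by
      rw [hXc, B_add_left Q, B_smul_left Q, B_smul_left Q] at hw
      field_simp
      linear_combination hw
    rw [hh, act_sg_long hQp hQz hpz, hzw, hXc]
    match_scalars <;> field_simp <;> ring
  have hXx : B X x = 0 := by
    rw [hX, B_sub_left Q, B_smul_left Q, B_smul_left Q, B_self_of_singular Q hQx, B_comm Q a x, hxa]; ring
  have hXa : B X a = 0 := by
    rw [hX, B_sub_left Q, B_smul_left Q, B_smul_left Q, B_self_of_singular Q hQa, hxa]; ring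
  set X₀ := B p a • u - B p x • t with hX₀
  have hgX : act g X₀ = X := by rw [hX₀, map_sub, map_smul, map_smul]
  set m := g⁻¹ * h * g with hm
  have hmM : m ∈ M := mul_mem (mul_mem (inv_mem hgM) hhM) hgM
  have hmI : m ∈ isometryGroup F Q := mul_mem (mul_mem (inv_mem hgI) (sg_mem_iso Q p z)) hgI
  have hmu : act m u = u + (B p x / l) • X₀ := act_injective g (by
    rw [hm, act_mul, act_mul, act_act_inv, ← hxdef, hhr x hXx, map_add, map_smul, hgX])
  have hmt : act m t = t + (B p a / l) • X₀ := act_injective g (by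
    rw [hm, act_mul, act_mul, act_act_inv, ← hadef, hhr a hXa, map_add, map_smul, hgX])
  have hmS : m ∈ Cfsg.Geo.subfieldSubgroup F₀ P :=
    mem_subfield_of_point hP hQ hn hS hns hr hodd hcard hmM hmI hu hQu hu0 (v := ![u, t])
      (by intro l; fin_cases l <;> assumption) (by
        rw [hmu, mem_span_pair_iff_range]
        exact ⟨1 + (B p x / l) * B p a, -((B p x / l) * B p x), by rw [hX₀]; module⟩)
  obtain ⟨v₁, hv₁, hQv₁, -, huv₁⟩ := exists_rat_partner hP hQ (v := (![] : Fin 0 → ι → F)) (fun i => i.elim0) hu hQu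
    (fun i => i.elim0) (by simpa using hu0)
  have hmR := isometry_mem_ratStab hr hodd hcard hP hu hv₁ hQu hQv₁ huv₁ hmS hmI
  obtain ⟨μ, hμ, hμX⟩ : ∃ μ : F, μ ≠ 0 ∧ μ • X₀ ∈ ratVec F₀ P := by
    rcases eq_or_ne (B p x) 0 with h0 | h0
    · refine ⟨B p a / l, div_ne_zero (fun e0 => hperp ⟨h0, e0⟩) hl, ?_⟩
      have := (ratVec F₀ P).sub_mem (hmR t ht) ht
      rwa [hmt, add_sub_cancel_left] at this
    · refine ⟨B p x / l, div_ne_zero h0 hl, ?_⟩
      have := (ratVec F₀ P).sub_mem (hmR u hu) hu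
      rwa [hmu, add_sub_cancel_left] at this
  refine hgS (mem_subfield_of_point hP hQ hn hS hns hr hodd hcard hgM hgI hμX ?_ ?_ (v := ![p, z])
    (by intro l; fin_cases l <;> assumption) ?_)
  · rw [Q_smul Q, ← Q_act hgI X₀, hgX, hQX, mul_zero]
  · exact smul_ne_zero hμ fun e0 => hX0 (by rw [← hgX, e0, map_zero])
  · rw [map_smul, hgX, mem_span_pair_iff_range]
    exact ⟨μ * β, μ * l, by rw [hXc]; module⟩

variable (hMΩ : M ≤ Cfsg.Geo.omegaGL Q)
include hMΩ

theorem le_subfield_of_noSeed : M ≤ Cfsg.Geo.subfieldSubgroup F₀ P := by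
  classical
  by_contra hnle
  obtain ⟨g₀, hg₀M, hg₀⟩ := SetLike.not_le_iff_exists.1 hnle
  have hI : ∀ g ∈ M, g ∈ isometryGroup F Q := fun g hg => omega_le_iso (hMΩ hg)
  -- three rational lines through a rational point
  obtain ⟨u, t₁, hu, ht₁, hQu, hQt₁, hut₁, hu0, ht₁n⟩ := exists_rat_line hP hQ hn
  obtain ⟨v₁, hv₁, hQv₁, -, huv₁⟩ := exists_rat_partner hP hQ (v := (![] : Fin 0 → ι → F)) (fun i => i.elim0) hu hQu
    (fun i => i.elim0) (by simpa using hu0)
  have hrst : ∀ g : GL ι F, g ∈ Cfsg.Geo.subfieldSubgroup F₀ P → g ∈ isometryGroup F Q → g ∈ ratStab F₀ P :=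
    fun g hg hgI => isometry_mem_ratStab hr hodd hcard hP hu hv₁ hQu hQv₁ huv₁ hg hgI
  have hv2 : ∀ i, ![u, t₁] i ∈ ratVec F₀ P := by intro i; fin_cases i <;> assumption
  obtain ⟨t₂, ht₂, hQt₂, -, htv₂, ht₂n⟩ := exists_rat_singular hP hQ ![u, t₁] hv2 ![u, t₁] hv2 (by omega)
  have hut₂ : B u t₂ = 0 := htv₂ 0
  have h12 : B t₁ t₂ = 0 := htv₂ 1
  have indep : ∀ a b : F, a • t₁ + b • t₂ ∈ F ∙ u → a = 0 ∧ b = 0 := by
    intro a b h
    obtain ⟨d, hd⟩ := Submodule.mem_span_singleton.1 h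
    have hb : b = 0 := by
      by_contra hb
      refine ht₂n (Submodule.mem_span_range_iff_exists_fun _ |>.2 ⟨![b⁻¹ * d, -(b⁻¹ * a)], ?_⟩)
      rw [Fin.sum_univ_two]
      calc (b⁻¹ * d) • u + (-(b⁻¹ * a)) • t₁ = b⁻¹ • (d • u - a • t₁) := by module
        _ = b⁻¹ • (b • t₂) := by rw [hd]; congr 1; module
        _ = t₂ := inv_smul_smul₀ hb t₂
    subst hb
    refine ⟨?_, rfl⟩
    by_contra ha
    refine ht₁n (Submodule.mem_span_singleton.2 ⟨a⁻¹ * d, ?_⟩)
    calc (a⁻¹ * d) • u = a⁻¹ • (d • u) := by module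
      _ = a⁻¹ • (a • t₁) := by rw [hd]; congr 1; module
      _ = t₁ := inv_smul_smul₀ ha t₁
  let co : Fin 3 → Fin 2 → F := ![![1, 0], ![0, 1], ![1, 1]]
  let t : Fin 3 → ι → F := fun i => co i 0 • t₁ + co i 1 • t₂
  have hco : ∀ i j, co i j ∈ F₀ := by
    intro i j; fin_cases i <;> fin_cases j <;> simp [co, F₀.one_mem, F₀.zero_mem]
  have htL : ∀ i, t i ∈ ratVec F₀ P := fun i => (ratVec F₀ P).add_mem
    (ratVec_smul (hco i 0) ht₁) (ratVec_smul (hco i 1) ht₂)
  have hQt : ∀ i, Q (t i) = 0 := fun i => by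
    simp only [t, Q_add Q, Q_smul Q, B_smul_left Q, B_smul_right Q, hQt₁, hQt₂, h12]
    ring
  have hut : ∀ i, B u (t i) = 0 := fun i => by
    simp only [t, B_add_right Q, B_smul_right Q, hut₁, hut₂]; ring
  have htn : ∀ i, t i ∉ F ∙ u := fun i h => by
    have := indep _ _ h
    fin_cases i <;> simp [co] at this
  have htd : ∀ i j, i ≠ j → t j - t i ∉ F ∙ u := fun i j hij h => by
    have h' : (co j 0 - co i 0) • t₁ + (co j 1 - co i 1) • t₂ ∈ F ∙ u := by
      convert h using 1; simp only [t]; module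
    have := indep _ _ h'
    fin_cases i <;> fin_cases j <;> simp [co] at this hij
  -- the colliding pair of conjugates
  set H : Subgroup M := (Cfsg.Geo.subfieldSubgroup F₀ P).subgroupOf M with hH
  haveI : Finite M := Subgroup.instFiniteSubtypeMem M
  haveI := Fintype.ofFinite (M ⧸ H)
  let one : M ⧸ H := QuotientGroup.mk 1
  have hN : 2 ≤ Fintype.card (M ⧸ H) := by
    refine Fintype.one_lt_card_iff.2 ⟨QuotientGroup.mk ⟨g₀, hg₀M⟩, one, fun e => hg₀ ?_⟩
    have h1 := QuotientGroup.eq.1 e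
    rw [mul_one] at h1
    exact inv_mem_iff.1 h1
  let c : Fin 3 → M := fun i => ⟨sg Q u (t i), hS u hu _ (htL i)⟩
  obtain ⟨⟨⟨q₁, hq₁⟩, i⟩, ⟨⟨q₂, hq₂⟩, j⟩, hne, heq⟩ := Fintype.exists_ne_map_eq_of_card_lt
    (fun p : {q : M ⧸ H // q ≠ one} × Fin 3 => (QuotientGroup.mk (p.1.1.out * c p.2 * p.1.1.out⁻¹) : M ⧸ H))
    (by
      rw [Fintype.card_prod, Fintype.card_fin, Fintype.card_subtype_compl, Fintype.card_subtype_eq]
      omega)
  have hout : ∀ q : M ⧸ H, q ≠ one → (q.out : GL ι F) ∉ Cfsg.Geo.subfieldSubgroup F₀ P := by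
    intro q hq h
    apply hq
    rw [← q.out_eq']
    exact QuotientGroup.eq.2 (by rw [mul_one]; exact H.inv_mem h)
  set g₁ : GL ι F := ((q₁.out : M) : GL ι F) with hg₁
  set g₂ : GL ι F := ((q₂.out : M) : GL ι F) with hg₂
  have hg₁M : g₁ ∈ M := q₁.out.2
  have hg₂M : g₂ ∈ M := q₂.out.2
  have hg₁I := hI _ hg₁M
  have hg₂I := hI _ hg₂M
  obtain ⟨d, hddef⟩ : ∃ d, d = (g₁ * sg Q u (t i) * g₁⁻¹)⁻¹ * (g₂ * sg Q u (t j) * g₂⁻¹) := ⟨_, rfl⟩
  have hdI : d ∈ isometryGroup F Q := by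
    rw [hddef]
    exact mul_mem (inv_mem (mul_mem (mul_mem hg₁I (sg_mem_iso Q _ _)) (inv_mem hg₁I)))
      (mul_mem (mul_mem hg₂I (sg_mem_iso Q _ _)) (inv_mem hg₂I))
  have hd : d ∈ ratStab F₀ P := hrst d (by
    rw [hddef]; exact Subgroup.mem_subgroupOf.1 (QuotientGroup.eq.1 heq)) hdI
  obtain ⟨v, hv, hR⟩ := exists_rat_range hP hQ hd
  have finish : finrank F (LinearMap.range (act d - LinearMap.id)) ≤ 2 →
      act g₁ u ∈ LinearMap.range (act d - LinearMap.id) → False := fun hk h => by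
    obtain ⟨w, hw, hwv⟩ := rat_pad hk hv
    exact hout q₁ hq₁ (mem_subfield_of_point hP hQ hn hS hns hr hodd hcard hg₁M hg₁I hu hQu hu0 hw (hwv (hR ▸ h)))
  rw [conj_sg Q hg₁I, conj_sg Q hg₂I] at hddef
  set x₁ := act g₁ u with hx₁
  set a₁ := act g₁ (t i) with ha₁
  set x₂ := act g₂ u with hx₂
  set a₂ := act g₂ (t j) with ha₂
  have hQx₁ : Q x₁ = 0 := by rw [hx₁, Q_act hg₁I, hQu]
  have hQa₁ : Q a₁ = 0 := by rw [ha₁, Q_act hg₁I, hQt]
  have hQx₂ : Q x₂ = 0 := by rw [hx₂, Q_act hg₂I, hQu]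
  have hQa₂ : Q a₂ = 0 := by rw [ha₂, Q_act hg₂I, hQt]
  have h1 : B x₁ a₁ = 0 := by rw [hx₁, ha₁, B_act hg₁I, hut]
  have h2 : B x₂ a₂ = 0 := by rw [hx₂, ha₂, B_act hg₂I, hut]
  have hx₁0 : x₁ ≠ 0 := fun e => hu0 (act_injective g₁ (e.trans (map_zero _).symm))
  have ha₁n : a₁ ∉ F ∙ x₁ := fun h => by
    obtain ⟨s, hs⟩ := Submodule.mem_span_singleton.1 h
    exact htn i (Submodule.mem_span_singleton.2 ⟨s, act_injective g₁ (by rw [map_smul]; exact hs)⟩)
  have ha₂n : a₂ ∉ F ∙ x₂ := fun h => by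
    obtain ⟨s, hs⟩ := Submodule.mem_span_singleton.1 h
    exact htn j (Submodule.mem_span_singleton.2 ⟨s, act_injective g₂ (by rw [map_smul]; exact hs)⟩)
  by_cases hq : q₁ = q₂
  · subst hq
    have hij : i ≠ j := fun e => hne (by rw [e])
    set y := a₂ - a₁ with hy
    have hxy : B x₁ y = 0 := by rw [hy, B_sub_right Q, h1]; simpa [hx₁, hx₂] using h2
    have hQy : Q y = 0 := by
      rw [hy, ha₁, ha₂, ← map_sub, Q_act hg₁I, Q_sub Q, hQt, hQt]
      simp only [t, B_add_left Q, B_add_right Q, B_smul_left Q, B_smul_right Q, B_self_of_singular Q hQt₁,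
        B_self_of_singular Q hQt₂, h12, B_comm Q t₂ t₁]
      ring
    have hde : d = sg Q x₁ y := by
      rw [hddef, ← sg_neg Q hQx₁ h1, hy, sub_eq_add_neg, add_comm a₂]
      exact sg_add Q hQx₁ (by rw [B_neg_right Q, h1, neg_zero]) (by simpa [hx₁, hx₂] using h2)
    have hyn : y ∉ F ∙ x₁ := fun h => by
      obtain ⟨s, hs⟩ := Submodule.mem_span_singleton.1 h
      exact htd i j hij (Submodule.mem_span_singleton.2 ⟨s, act_injective g₁ (by
        rw [map_smul, map_sub]; exact hs)⟩)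
    refine finish ?_ ?_
    · have hle : LinearMap.range (act d - LinearMap.id) ≤ Submodule.span F (Set.range ![x₁, y]) := by
        rintro _ ⟨z, rfl⟩
        rw [LinearMap.sub_apply, LinearMap.id_apply, hde, act_sg_long hQx₁ hQy hxy, mem_span_pair_iff_range]
        exact ⟨-B y z, B x₁ z, by module⟩
      have h3 := Submodule.finrank_mono hle
      have h4 := finrank_span_list_le ![x₁, y]
      omega
    · obtain ⟨z, hz, hz1⟩ := exists_perp_one hQ hyn
      have hxz : B x₁ z = 0 := hz x₁ (Submodule.mem_span_singleton_self x₁)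
      refine ⟨-z, ?_⟩
      rw [map_neg, LinearMap.sub_apply, LinearMap.id_apply, hde, act_sg_long hQx₁ hQy hxy, hxz, hz1]
      module
  have hk : g₂⁻¹ * g₁ ∉ Cfsg.Geo.subfieldSubgroup F₀ P := fun h => hq (by
    rw [← q₁.out_eq', ← q₂.out_eq']
    exact QuotientGroup.eq.2 (by
      have := H.inv_mem (show q₂.out⁻¹ * q₁.out ∈ H from h)
      rwa [_root_.mul_inv_rev, inv_inv] at this))
  have hna₁ : B x₁ (-a₁) = 0 := by rw [B_neg_right Q, h1, neg_zero]
  have hdz : ∀ z, act d z = act (sg Q x₁ (-a₁)) (z + (B x₂ z • a₂ - B a₂ z • x₂)) := by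
    intro z
    rw [hddef, ← sg_neg Q hQx₁ h1, act_mul, act_sg_long hQx₂ hQa₂ h2, add_sub_assoc]
  have he₁ : ∀ z, act (sg Q x₁ (-a₁)) z = z + (B a₁ z • x₁ - B x₁ z • a₁) := by
    intro z
    rw [act_sg_long hQx₁ (by rw [Q_neg Q, hQa₁]) hna₁, B_neg_left Q]
    module
  have hx₁B : x₁ ∉ Submodule.span F (Set.range ![x₂, a₂]) := by
    intro h
    obtain ⟨s, s', hs⟩ := mem_span_pair_iff_range.1 h
    refine hk (mem_subfield_of_point hP hQ hn hS hns hr hodd hcard (mul_mem (inv_mem hg₂M) hg₁M)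
      (mul_mem (inv_mem hg₂I) hg₁I) hu hQu hu0 (v := ![u, t j])
      (by intro l; fin_cases l; exacts [hu, htL j]) ?_)
    rw [act_mul, ← hx₁, ← hs, map_add, map_smul, map_smul, hx₂, ha₂, act_inv_act, act_inv_act]
    exact mem_span_pair_iff_range.2 ⟨s, s', rfl⟩
  by_cases htest : a₁ ∈ Submodule.span F (Set.range ![x₁, x₂, a₂])
  swap
  · -- the two lines are skew
    have hli : LinearIndependent F ![x₁, a₁, x₂, a₂] := by
      rw [Fintype.linearIndependent_iff]
      intro f hf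
      rw [Fin.sum_univ_four] at hf
      simp only [Matrix.cons_val] at hf
      have f1 : f 1 = 0 := by
        by_contra h0
        refine htest ((Submodule.mem_span_range_iff_exists_fun _).2
          ⟨![-((f 1)⁻¹ * f 0), -((f 1)⁻¹ * f 2), -((f 1)⁻¹ * f 3)], ?_⟩)
        rw [Fin.sum_univ_three]
        simp only [Matrix.cons_val]
        rw [← sub_eq_zero, ← smul_eq_zero_iff_right (neg_ne_zero.2 h0), ← hf]
        match_scalars <;> field_simp <;> ring
      rw [f1, zero_smul, add_zero] at hf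
      have f0 : f 0 = 0 := by
        by_contra h0
        refine hx₁B (mem_span_pair_iff_range.2 ⟨-((f 0)⁻¹ * f 2), -((f 0)⁻¹ * f 3), ?_⟩)
        rw [← sub_eq_zero, ← smul_eq_zero_iff_right (neg_ne_zero.2 h0), ← hf]
        match_scalars <;> field_simp <;> ring
      rw [f0, zero_smul, zero_add] at hf
      have f3 : f 3 = 0 := by
        by_contra h0
        refine ha₂n (Submodule.mem_span_singleton.2 ⟨-((f 3)⁻¹ * f 2), ?_⟩)
        rw [← sub_eq_zero, ← smul_eq_zero_iff_right (neg_ne_zero.2 h0), ← hf]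
        match_scalars <;> field_simp <;> ring
      rw [f3, zero_smul, add_zero] at hf
      have f2 : f 2 = 0 := (smul_eq_zero.1 hf).resolve_right fun e0 =>
        hu0 (act_injective g₂ (e0.trans (map_zero _).symm))
      intro l; fin_cases l <;> assumption
    have hRle : LinearMap.range (act d - LinearMap.id) ≤ Submodule.span F (Set.range ![x₁, a₁, x₂, a₂]) := by
      rintro _ ⟨z, rfl⟩
      rw [LinearMap.sub_apply, LinearMap.id_apply, hdz, he₁, Submodule.mem_span_range_iff_exists_fun]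
      refine ⟨![B a₁ (z + (B x₂ z • a₂ - B a₂ z • x₂)), -B x₁ (z + (B x₂ z • a₂ - B a₂ z • x₂)),
        -B a₂ z, B x₂ z], ?_⟩
      rw [Fin.sum_univ_four]
      simp only [Matrix.cons_val]
      module
    have hR4 : LinearMap.range (act d - LinearMap.id) = Submodule.span F (Set.range ![x₁, a₁, x₂, a₂]) := by
      refine le_antisymm hRle (Submodule.span_le.2 ?_)
      have dual : ∀ i : Fin 4, ∃ z, ∀ j, B (![x₁, a₁, x₂, a₂] j) z = if j = i then 1 else 0 := by
        intro i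
        obtain ⟨z, hz, hz1⟩ := exists_perp_one hQ (hli.notMem_span_image (s := {j | j ≠ i}) (x := i) (by simp))
        refine ⟨z, fun j => ?_⟩
        split
        · next e0 => rw [e0]; exact hz1
        · next e0 => exact hz _ (Submodule.subset_span ⟨j, e0, rfl⟩)
      have rng : ∀ z, act d z - z = act (sg Q x₁ (-a₁)) (z + (B x₂ z • a₂ - B a₂ z • x₂)) - z := fun z => by
        rw [hdz]
      have mx : x₁ ∈ LinearMap.range (act d - LinearMap.id) := by
        obtain ⟨z, hz⟩ := dual 1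
        have k0 : B x₁ z = 0 := hz 0
        have k1 : B a₁ z = 1 := hz 1
        have k2 : B x₂ z = 0 := hz 2
        have k3 : B a₂ z = 0 := hz 3
        refine ⟨z, ?_⟩
        rw [LinearMap.sub_apply, LinearMap.id_apply, rng, k2, k3, zero_smul, zero_smul, sub_zero, add_zero, he₁,
          k0, k1]
        module
      have ma : a₁ ∈ LinearMap.range (act d - LinearMap.id) := by
        obtain ⟨z, hz⟩ := dual 0
        have k0 : B x₁ z = 1 := hz 0
        have k1 : B a₁ z = 0 := hz 1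
        have k2 : B x₂ z = 0 := hz 2
        have k3 : B a₂ z = 0 := hz 3
        refine ⟨-z, ?_⟩
        rw [map_neg, LinearMap.sub_apply, LinearMap.id_apply, rng, k2, k3, zero_smul, zero_smul, sub_zero, add_zero,
          he₁, k0, k1]
        module
      rintro _ ⟨l, rfl⟩
      fin_cases l
      · exact mx
      · exact ma
      · obtain ⟨z, hz⟩ := dual 3
        have k2 : B x₂ z = 0 := hz 2
        have k3 : B a₂ z = 1 := hz 3
        show x₂ ∈ LinearMap.range (act d - LinearMap.id)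
        have e0 : x₂ = B a₁ (z + (B x₂ z • a₂ - B a₂ z • x₂)) • x₁ - B x₁ (z + (B x₂ z • a₂ - B a₂ z • x₂)) • a₁ -
            (act d - LinearMap.id : (ι → F) →ₗ[F] (ι → F)) z := by
          rw [LinearMap.sub_apply, LinearMap.id_apply, rng, he₁, k2, k3]; module
        rw [e0]
        exact Submodule.sub_mem _ (Submodule.sub_mem _ (Submodule.smul_mem _ _ mx) (Submodule.smul_mem _ _ ma))
          (LinearMap.mem_range_self _ z)
      · obtain ⟨z, hz⟩ := dual 2
        have k2 : B x₂ z = 1 := hz 2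
        have k3 : B a₂ z = 0 := hz 3
        show a₂ ∈ LinearMap.range (act d - LinearMap.id)
        have e0 : a₂ = (act d - LinearMap.id : (ι → F) →ₗ[F] (ι → F)) z - (B a₁ (z + (B x₂ z • a₂ - B a₂ z • x₂)) • x₁ -
            B x₁ (z + (B x₂ z • a₂ - B a₂ z • x₂)) • a₁) := by
          rw [LinearMap.sub_apply, LinearMap.id_apply, rng, he₁, k2, k3]; module
        rw [e0]
        exact Submodule.sub_mem _ (LinearMap.mem_range_self _ z)
          (Submodule.sub_mem _ (Submodule.smul_mem _ _ mx) (Submodule.smul_mem _ _ ma))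
    exact skew_false hP hQ hn hS hns hr hodd hcard hwitt hg₁M hg₁I (hout q₁ hq₁) hu (htL i) hQu (hQt i) (hut i)
      hu0 hQx₂ hQa₂ h2 hli hv (hR.symm.trans hR4)
  obtain ⟨e, he⟩ := (Submodule.mem_span_range_iff_exists_fun _).1 htest
  rw [Fin.sum_univ_three] at he
  simp only [Matrix.cons_val] at he
  set P₀ := a₁ - e 0 • x₁ with hP₀
  have hP₀B : P₀ = e 1 • x₂ + e 2 • a₂ := by rw [hP₀, ← he]; abel
  have hP₀0 : P₀ ≠ 0 := fun h => ha₁n (Submodule.mem_span_singleton.2 ⟨e 0, (sub_eq_zero.1 h).symm⟩)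
  have hxP : B x₁ P₀ = 0 := by
    rw [hP₀, B_sub_right Q, B_smul_right Q, h1, B_self_of_singular Q hQx₁]; ring
  have haP : B a₁ P₀ = 0 := by
    rw [hP₀, B_sub_right Q, B_smul_right Q, B_self_of_singular Q hQa₁, B_comm Q a₁ x₁, h1]; ring
  have hQP : Q P₀ = 0 := by
    rw [hP₀, Q_sub Q, Q_smul Q, B_smul_right Q, hQa₁, hQx₁, B_comm Q a₁ x₁, h1]; ring
  have hPR : P₀ ∈ LinearMap.range (act d - LinearMap.id) := by
    obtain ⟨z, kx, kP, kne⟩ : ∃ z, B x₁ z = 0 ∧ B P₀ z = 0 ∧ ¬ (B x₂ z = 0 ∧ B a₂ z = 0) := by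
      by_contra hno
      push Not at hno
      have key : ∀ y ∈ ({x₂, a₂} : Set (ι → F)), ∃ b : F, b • P₀ = y := by
        intro y hy
        have hy' : y ∈ Submodule.span F (Set.range ![x₁, P₀]) := by
          by_contra hyn
          obtain ⟨z, hz, hz1⟩ := exists_perp_one hQ hyn
          rw [mem_perp_span] at hz
          obtain ⟨k2, k3⟩ := hno z (hz x₁ ⟨0, rfl⟩) (hz P₀ ⟨1, rfl⟩)
          rcases hy with rfl | hy
          · rw [k2] at hz1; exact zero_ne_one hz1
          · rw [Set.mem_singleton_iff.1 hy, k3] at hz1; exact zero_ne_one hz1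
        obtain ⟨a, b, hab⟩ := mem_span_pair_iff_range.1 hy'
        refine ⟨b, ?_⟩
        rcases eq_or_ne a 0 with rfl | ha
        · rwa [zero_smul, zero_add] at hab
        · exfalso
          apply hx₁B
          have hyB : y ∈ Submodule.span F (Set.range ![x₂, a₂]) := by
            rcases hy with rfl | hy
            · exact Submodule.subset_span ⟨0, rfl⟩
            · rw [Set.mem_singleton_iff.1 hy]; exact Submodule.subset_span ⟨1, rfl⟩
          rw [show x₁ = a⁻¹ • (y - b • P₀) by rw [← hab, add_sub_cancel_right, inv_smul_smul₀ ha]]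
          exact Submodule.smul_mem _ _ (Submodule.sub_mem _ hyB (Submodule.smul_mem _ _
            (hP₀B ▸ mem_span_pair_iff_range.2 ⟨_, _, rfl⟩)))
      obtain ⟨b, hb⟩ := key x₂ (Set.mem_insert _ _)
      obtain ⟨b', hb'⟩ := key a₂ (Set.mem_insert_of_mem _ rfl)
      rcases eq_or_ne b 0 with rfl | hb0
      · rw [zero_smul] at hb
        exact hu0 (act_injective g₂ (hb.symm.trans (map_zero _).symm))
      · exact ha₂n (Submodule.mem_span_singleton.2 ⟨b' * b⁻¹, by
          rw [← hb, smul_smul, mul_assoc, inv_mul_cancel₀ hb0, mul_one, hb']⟩)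
    have hrel : e 1 * B x₂ z + e 2 * B a₂ z = 0 := by
      rw [hP₀B, B_add_left Q, B_smul_left Q, B_smul_left Q] at kP; exact kP
    obtain ⟨μ, hμ, hμ0⟩ : ∃ μ : F, B x₂ z • a₂ - B a₂ z • x₂ = μ • P₀ ∧ μ ≠ 0 := by
      rcases eq_or_ne (e 2) 0 with he2 | he2
      · have he1 : e 1 ≠ 0 := fun h => hP₀0 (by rw [hP₀B, h, he2]; simp)
        have hx2z : B x₂ z = 0 := by simpa [he2, he1] using hrel
        refine ⟨-B a₂ z / e 1, ?_, div_ne_zero (neg_ne_zero.2 fun h => kne ⟨hx2z, h⟩) he1⟩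
        rw [hP₀B, hx2z, he2]
        match_scalars <;> field_simp <;> ring
      · refine ⟨B x₂ z / e 2, ?_, div_ne_zero (fun h => kne ⟨h, ?_⟩) he2⟩
        · rw [hP₀B]
          match_scalars
          · field_simp
          · field_simp
            linear_combination -hrel
        · simpa [h, he2] using hrel
    have kA : B a₁ z = 0 := by
      rw [show a₁ = P₀ + e 0 • x₁ by rw [hP₀]; abel, B_add_left Q, B_smul_left Q, kP, kx]; ring
    refine ⟨μ⁻¹ • z, ?_⟩
    rw [map_smul, LinearMap.sub_apply, LinearMap.id_apply, hdz, hμ, he₁, B_add_right Q, B_add_right Q,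
      B_smul_right Q, B_smul_right Q, kA, kx, haP, hxP]
    simp [inv_smul_smul₀ hμ0]
  have hmemP : sg Q P₀ (-x₁) ∈ M := by
    rw [← sg_antisymm hQx₁ hQP hxP,
      ← sg_add_smul Q hQx₁ hxP (e 0), show P₀ + e 0 • x₁ = a₁ by rw [hP₀]; abel, ha₁, hx₁, ← conj_sg Q hg₁I]
    exact mul_mem (mul_mem hg₁M (hS u hu _ (htL i))) (inv_mem hg₁M)
  have hPn : B P₀ (-x₁) = 0 := by rw [B_neg_right Q, B_comm Q P₀ x₁, hxP, neg_zero]
  obtain ⟨m, hm⟩ : ∃ m, ∀ z, B x₂ z • a₂ - B a₂ z • x₂ = B P₀ z • m - B m z • P₀ := by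
    rcases eq_or_ne (e 2) 0 with he2 | he2
    · have he1 : e 1 ≠ 0 := fun h => hP₀0 (by rw [hP₀B, h, he2]; simp)
      refine ⟨(e 1)⁻¹ • a₂, fun z => ?_⟩
      rw [hP₀B, he2]
      simp only [B_add_left Q, B_smul_left Q]
      match_scalars <;> field_simp <;> ring
    · refine ⟨-((e 2)⁻¹ • x₂), fun z => ?_⟩
      rw [hP₀B]
      simp only [B_add_left Q, B_smul_left Q, B_neg_left Q]
      match_scalars <;> field_simp <;> ring
  have hrank : finrank F (LinearMap.range (act d - LinearMap.id)) ≤ 2 := by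
    refine (Submodule.finrank_mono ?_).trans (finrank_span_list_le ![P₀, m + x₁])
    rintro _ ⟨z, rfl⟩
    have hPN : B P₀ (B P₀ z • m - B m z • P₀) = 0 := by
      rw [← hm z, hP₀B]
      simp only [B_add_left Q, B_sub_right Q, B_smul_left Q, B_smul_right Q, B_self_of_singular Q hQx₂,
        B_self_of_singular Q hQa₂, h2, B_comm Q a₂ x₂]
      ring
    rw [LinearMap.sub_apply, LinearMap.id_apply, hdz, hm, he₁, mem_span_pair_iff_range,
      show a₁ = P₀ + e 0 • x₁ by rw [hP₀]; abel]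
    refine ⟨-B m z - B x₁ (z + (B P₀ z • m - B m z • P₀)), B P₀ z, ?_⟩
    simp only [B_add_left Q, B_add_right Q, B_smul_left Q, hPN]
    match_scalars <;> ring
  by_cases hrat : ∀ c : F, c ≠ 0 → c • P₀ ∉ ratVec F₀ P
  · obtain ⟨w, hw, hwv⟩ := rat_pad hrank hv
    have := mem_span_of_sg hP hQ hn hS hns hr hodd hcard hw (hwv (hR ▸ hPR)) hQP hrat hPn hmemP
    exact hout q₁ hq₁ (mem_subfield_of_point hP hQ hn hS hns hr hodd hcard hg₁M hg₁I hu hQu hu0 hw
      (by simpa [← hx₁] using Submodule.neg_mem _ this))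
  push Not at hrat
  obtain ⟨s, hs0, hs⟩ := hrat
  have hQp : Q (s • P₀) = 0 := by rw [Q_smul Q, hQP, mul_zero]
  have hp0 : s • P₀ ≠ 0 := smul_ne_zero hs0 hP₀0
  have hBp : B (s • P₀) (-(s⁻¹ • x₁)) = 0 := by
    rw [B_neg_right Q, B_smul_left Q, B_smul_right Q, B_comm Q P₀ x₁, hxP]; ring
  obtain ⟨c', hc'⟩ := rat_of_noSeed hns hs hQp hp0 hBp (by
    rw [sg_smul_left Q hQP (by rw [B_neg_right Q, B_smul_right Q, B_comm Q P₀ x₁, hxP, mul_zero, neg_zero]),
      smul_neg, smul_inv_smul₀ hs0]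
    exact hmemP)
  refine hout q₁ hq₁ (mem_subfield_of_point hP hQ hn hS hns hr hodd hcard hg₁M hg₁I hu hQu hu0
    (v := ![s • P₀, -(s⁻¹ • x₁) + c' • (s • P₀)]) (by intro l; fin_cases l; exacts [hs, hc']) ?_)
  rw [mem_span_pair_iff_range]
  refine ⟨c' * s, -s, ?_⟩
  rw [← hx₁]
  match_scalars <;> field_simp <;> ring

end Cfsg.Agent.MaxCl.Orth.Small
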