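/-
Subfield groups of odd prime index are maximal in `omegaGL` of a form of dimension at least eight without totally
singular four-spaces.
-/
import Cfsg.Agent.Lib.MaxCl.Small.OrthSubfieldSkew

set_option autoImplicit false

namespace Cfsg.Agent.MaxCl.Orth.Small

open scoped MatrixGroups Matrix
open Module (finrank)

variable {ι : Type} [Fintype ι] [DecidableEq ι] {F : Type*} [Field F] {Q : QuadraticForm F (ι → F)}
  {F₀ : Subfield F} {P : GL ι F}

set_option quotPrecheck false in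
local notation "B" => QuadraticMap.polar (⇑Q)

variable [Finite F] (hP : ∀ x ∈ ratVec F₀ P, Q x ∈ F₀) (hQ : (QuadraticMap.polarBilin Q).Nondegenerate)
  (hn : 8 ≤ Fintype.card ι)
include hP hQ hn

theorem orth_subfield_maximal {r : ℕ} (hr : r.Prime) (hodd : Odd r) (hcard : Nat.card F = Nat.card F₀ ^ r)
    (hwitt : ∀ U : Submodule F (ι → F), (∀ x ∈ U, Q x = 0) → finrank F U ≤ 3) :
    Cfsg.Geo.IsMaximalIn (Cfsg.Geo.omegaGL Q)
      (Cfsg.Geo.subfieldSubgroup F₀ P ⊓ Cfsg.Geo.omegaGL Q) := by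
  have hn5 : 5 ≤ Fintype.card ι := by omega
  refine isMaximalIn_inf ?_ fun M hM hMΩ hout => ?_
  · obtain ⟨u, t, hu, ht, hQu, hQt, hut, hu0, htu⟩ := exists_rat_line hP hQ hn
    obtain ⟨c, hc⟩ : ∃ c : F, c ∉ F₀ := by
      by_contra h; push Not at h
      have e : Nat.card F₀ = Nat.card F := Nat.card_congr (Equiv.subtypeUnivEquiv h)
      rw [hcard] at e
      have h1 := hr.two_le
      have h2 : Nat.card F₀ ^ 1 < Nat.card F₀ ^ r := Nat.pow_lt_pow_right Finite.one_lt_card (by omega)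
      rw [pow_one] at h2
      omega
    have hct : B u (c • t) = 0 := by rw [B_smul_right Q, hut, mul_zero]
    refine ⟨sg Q u (c • t), sg_mem_omega hQ hn5 u _, fun h => hc ?_⟩
    obtain ⟨γ, hγ⟩ := exists_of_mem_subfieldSubgroup F₀ P h
    obtain ⟨y, hy, ey⟩ := hγ u hu
    rw [act_sg_fix Q hQu hct (B_self_of_singular Q hQu)
      (by rw [B_smul_left Q, B_comm Q t u, hut, mul_zero])] at ey
    have hγ0 : γ ≠ 0 := fun e => hu0 (by rw [ey, e, zero_smul])
    have hγF : γ ∈ F₀ := by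
      have := smul_rat_mem hu hu0 (a := γ⁻¹) (by rw [ey, inv_smul_smul₀ hγ0]; exact hy)
      simpa using F₀.inv_mem this
    have hnot : u ∉ Submodule.span F (Set.range ![t]) := by
      simp only [Matrix.range_cons, Matrix.range_empty, Set.union_empty]
      exact (IsRatLine.symm ⟨hu, ht, hQu, hQt, hut, hu0, htu⟩).2.2.2.2.2.2
    obtain ⟨z, hz, hzt, huz⟩ := exists_rat_dual hP hQ ![t] (fun i => by fin_cases i; exact ht) hu hnot
    obtain ⟨y', hy', ey'⟩ := hγ z hz
    have htz : B t z = 0 := hzt 0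
    rw [act_sg_long hQu (by rw [Q_smul Q, hQt, mul_zero]) hct, huz, B_smul_left Q, htz, mul_zero, zero_smul,
      sub_zero, one_smul] at ey'
    refine smul_rat_mem ht (fun e => htu (by rw [e]; exact Submodule.zero_mem _)) ?_
    rw [show c • t = γ • y' - z by rw [← ey', add_sub_cancel_left]]
    exact (ratVec F₀ P).sub_mem (ratVec_smul hγF hy') hz
  have hS : ∀ u ∈ ratVec F₀ P, ∀ w ∈ ratVec F₀ P, sg Q u w ∈ M := by
    intro u hu w hw
    refine hM ⟨ratStab_le fun x hx => ?_, sg_mem_omega hQ hn5 u w⟩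
    by_cases h : Q u = 0 ∧ B u w = 0
    · rw [act_sg Q h.1 h.2]
      exact (ratVec F₀ P).sub_mem ((ratVec F₀ P).add_mem hx (ratVec_smul (B_rat hP hu hx) hw))
        (ratVec_smul (F₀.add_mem (B_rat hP hw hx) (F₀.mul_mem (hP w hw) (B_rat hP hu hx))) hu)
    · rw [sg_of_not Q h, act_one]; exact hx
  by_cases hseed : Seed Q F₀ P M
  · exact omega_le_of_seed hP hQ hn hS r hr hcard hseed
  · obtain ⟨g, hgM, hg⟩ := hout
    exact absurd (le_subfield_of_noSeed hP hQ hn hS hseed hr hodd hcard hwitt hMΩ hgM) hg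

end Cfsg.Agent.MaxCl.Orth.Small
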