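/-
Maximality in `omegaGL` of a ten-dimensional form: the pieces of the two geometric lists, wrapped around the general
theorems of `MaxCl`.
-/
import Cfsg.Agent.Lib.MaxCl.FieldSubalgebra
import Cfsg.Agent.Lib.MaxCl.Mono.Maximal
import Cfsg.Agent.Lib.MaxCl.OrthDecompMax
import Cfsg.Agent.Lib.MaxCl.OrthExtMax
import Cfsg.Agent.Lib.MaxCl.OrthUnitary
import Cfsg.Agent.Lib.MaxCl.Small.OddLists
import Cfsg.Agent.Lib.MaxCl.Small.OrthPointEight

set_option autoImplicit false
set_option linter.unusedSectionVars false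

namespace Cfsg.Agent.MaxCl.Orth.Ten

open scoped MatrixGroups Matrix
open Module (finrank)

variable {F : Type*} [Field F] [Fintype F] {Q : QuadraticForm F (Fin 10 → F)}

set_option quotPrecheck false in
local notation "B" => QuadraticMap.polar (⇑Q)

theorem two_ne (hodd : Odd (Fintype.card F)) : (2 : F) ≠ 0 := Ring.two_ne_zero fun hc => by
  have := Nat.odd_iff.1 hodd
  have := FiniteField.even_card_iff_char_two.1 hc
  omega

theorem two_eq (heven : ¬ Odd (Fintype.card F)) : (2 : F) = 0 := by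
  rw [Nat.odd_iff] at heven
  have hc : ringChar F = 2 := FiniteField.even_card_iff_char_two.2 (by omega)
  have := CharP.cast_eq_zero F (ringChar F)
  rwa [hc, Nat.cast_ofNat] at this

variable (hQ : (QuadraticMap.polarBilin Q).Nondegenerate)
include hQ

/-- Totally singular subspaces. -/
theorem parabolic {W : Submodule F (Fin 10 → F)} (hW0 : W ≠ ⊥)
    (hW : Cfsg.Geo.IsTotallySingularQuad Q W)
    (h4 : finrank F W = 4 → ¬ Cfsg.Geo.IsPlusTypeOn Q ⊤) :
    Cfsg.Geo.IsMaximalIn (Cfsg.Geo.omegaGL Q) (Cfsg.Geo.subspaceStabilizer W ⊓ Cfsg.Geo.omegaGL Q) := by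
  refine parabolic_maximal hQ (by rw [Fintype.card_fin]; omega) hW0 hW fun U hU hUd h => ?_
  rw [Fintype.card_fin] at h hUd
  refine h4 (by omega) ⟨U, le_top, hU, ?_⟩
  rw [finrank_top, Module.finrank_pi, Fintype.card_fin]
  exact hUd

/-- Non-degenerate subspaces of dimension other than five. -/
theorem nondeg {W : Submodule F (Fin 10 → F)} (hW : Cfsg.Geo.IsNondegenerateOn (QuadraticMap.polar ⇑Q) W)
    (h0 : W ≠ ⊥) (h1 : W ≠ ⊤) (h5 : finrank F W ≠ 5)
    (hex : Fintype.card F ≤ 3 → finrank F W = 2 → ¬ Cfsg.Geo.IsPlusTypeOn Q W)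
    (hex' : Fintype.card F ≤ 3 → finrank F W ≠ 8) :
    Cfsg.Geo.IsMaximalIn (Cfsg.Geo.omegaGL Q) (Cfsg.Geo.subspaceStabilizer W ⊓ Cfsg.Geo.omegaGL Q) := by
  have hWn := nonDeg_of_isNondegenerateOn hW
  have hp := finrank_perp hQ W
  rw [Fintype.card_fin] at hp
  have hk : finrank F W ≤ 10 :=
    (Submodule.finrank_le W).trans_eq (by rw [Module.finrank_pi, Fintype.card_fin])
  have hperp0 : perp Q W ≠ ⊥ := fun e => h1 (by
    have := sup_perp hQ hWn; rwa [e, sup_bot_eq] at this)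
  rcases Nat.lt_or_ge (finrank F W) (finrank F (perp Q W)) with hlt | hge
  · rw [← stab_inf_omega_perp hQ hWn]
    refine Small.nondeg_maximal hQ (nonDeg_perp hQ hWn) (by omega) (by rwa [perp_perp hQ])
      (by rw [perp_perp hQ]; omega) ?_ fun g _ e => ?_
    · rw [perp_perp hQ]
      rintro ⟨hq3, h2, s, hs, hs0, hQs⟩
      exact hex hq3 h2 (isPlusTypeOn_of_singular h2 hs hs0 hQs)
    · have := finrank_map_act g (perp Q W)
      rw [e, perp_perp hQ] at this
      omega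
  · refine Small.nondeg_maximal hQ hWn (by omega) hperp0 hge (fun h => hex' h.1 (by omega)) fun g _ e => ?_
    have := finrank_map_act g W
    rw [e] at this
    omega

/-- Non-singular points in characteristic two. -/
theorem point (h2 : (2 : F) = 0) {v : Fin 10 → F} (hv : Q v ≠ 0) :
    Cfsg.Geo.IsMaximalIn (Cfsg.Geo.omegaGL Q)
      (Cfsg.Geo.subspaceStabilizer (F ∙ v) ⊓ Cfsg.Geo.omegaGL Q) :=
  Small.point_maximal hQ h2 (by rw [Fintype.card_fin]; omega) hv

/-- Frames over a prime field. -/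
theorem lines {p : ℕ} (hp : p.Prime) (hcard : Fintype.card F = p) (hodd : p % 2 = 1)
    {D : Fin 10 → Submodule F (Fin 10 → F)} (hD : Cfsg.Geo.IsOrthogonalMDecomposition Q 1 D) :
    Cfsg.Geo.IsMaximalIn (Cfsg.Geo.omegaGL Q) (Cfsg.Geo.decompositionStabilizer D ⊓ Cfsg.Geo.omegaGL Q) :=
  Mono.monomial_maximal (Nat.odd_iff.2 (by rw [hcard]; exact hodd)) (by rw [hcard]; exact hp) hD
    (Or.inr (by rw [Fintype.card_fin]; omega))

/-- Five planes: the singular planes need at least seven field elements. -/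
theorem planes (h3 : Fintype.card F ≠ 3) {D : Fin 5 → Submodule F (Fin 10 → F)}
    (hD : Cfsg.Geo.IsOrthogonalMDecomposition Q 2 D)
    (hbig : Cfsg.Geo.IsPlusTypeOn Q ⊤ → 7 ≤ Fintype.card F) :
    Cfsg.Geo.IsMaximalIn (Cfsg.Geo.omegaGL Q) (Cfsg.Geo.decompositionStabilizer D ⊓ Cfsg.Geo.omegaGL Q) := by
  refine PlaneBlocks.maximal ⟨hD, hQ, by rw [Fintype.card_fin], h3, fun i s hs hs0 hQs => hbig ?_⟩
  have hsing : ∀ j, ∃ x ∈ D j, x ≠ 0 ∧ Q x = 0 := fun j => by
    obtain ⟨φ, hφ⟩ := hD.isometric i j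
    refine ⟨_, (φ ⟨s, hs⟩).2, fun e => hs0 ?_, (hφ _).trans hQs⟩
    exact congrArg Subtype.val (φ.map_eq_zero_iff.1 (Subtype.ext e))
  choose v hv hv0 hQv using hsing
  have hind : LinearIndependent F v := hD.decomp.decomp.indep.linearIndependent D hv hv0
  refine ⟨Submodule.span F (Set.range v), le_top, fun w hw => ?_, ?_⟩
  · obtain ⟨a, rfl⟩ := (Submodule.mem_span_range_iff_exists_fun F).1 hw
    rw [Q_sum_comps hD fun l => (D l).smul_mem _ (hv l)]
    exact Finset.sum_eq_zero fun l _ => by rw [Q_smul Q, hQv, mul_zero]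
  · rw [finrank_span_eq_card hind, finrank_top, Module.finrank_pi, Fintype.card_fin, Fintype.card_fin]

/-- Two isometric five-spaces. -/
theorem halves {D : Fin 2 → Submodule F (Fin 10 → F)} (hD : Cfsg.Geo.IsOrthogonalMDecomposition Q 5 D) :
    Cfsg.Geo.IsMaximalIn (Cfsg.Geo.omegaGL Q) (Cfsg.Geo.decompositionStabilizer D ⊓ Cfsg.Geo.omegaGL Q) :=
  BigBlocks.maximal ⟨hD, hQ, by rw [Fintype.card_fin]; omega, by omega, fun h => by omega, fun h => by omega⟩

/-- Two five-spaces which are not isometric. -/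
theorem halves_not_iso {D : Fin 2 → Submodule F (Fin 10 → F)}
    (hD : Cfsg.Geo.IsNondegenerateMDecomposition (QuadraticMap.polar ⇑Q) 5 D)
    (hiso : ¬ Cfsg.Geo.AreIsometricFor Q (D 0) (D 1)) :
    Cfsg.Geo.IsMaximalIn (Cfsg.Geo.omegaGL Q) (Cfsg.Geo.decompositionStabilizer D ⊓ Cfsg.Geo.omegaGL Q) := by
  have hWn := nonDeg_of_isNondegenerateOn (hD.nondegenerate 0)
  have hd : ∀ i, finrank F (D i) = 5 := hD.decomp.finrank_eq
  have hperp : perp Q (D 0) = D 1 := by
    refine (Submodule.eq_of_le_of_finrank_le (fun y hy => (mem_perp Q).2 fun x hx => ?_) ?_).symm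
    · exact hD.orthogonal 0 1 (by decide) x hx y hy
    · rw [finrank_perp hQ, Fintype.card_fin, hd, hd]
  have hno : ∀ g ∈ isometryGroup F Q, (D 0).map (act g) ≠ perp Q (D 0) := by
    intro g hg e
    rw [hperp] at e
    refine hiso ⟨(Submodule.equivMapOfInjective (act g) (act_injective g) (D 0)).trans
      (LinearEquiv.ofEq _ _ e), fun w => ?_⟩
    show Q (act g (w : Fin 10 → F)) = Q w
    exact Q_act hg _
  have heq : Cfsg.Geo.decompositionStabilizer D ⊓ Cfsg.Geo.omegaGL Q =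
      Cfsg.Geo.subspaceStabilizer (D 0) ⊓ Cfsg.Geo.omegaGL Q := by
    refine le_antisymm ?_ fun g hg => ⟨⟨1, fun i => ?_⟩, hg.2⟩
    · rintro g ⟨⟨σ, hσ⟩, hgΩ⟩
      refine ⟨mem_subspaceStabilizer_of_le fun y hy => ?_, hgΩ⟩
      have h := hσ 0
      rcases Fin.exists_fin_two.1 ⟨σ 0, rfl⟩ with h0 | h0
      · rw [h0] at h; exact h.le ⟨y, hy, rfl⟩
      · exfalso
        rw [h0] at h
        exact hno g (omega_le_iso hgΩ) (by rw [hperp, ← toLin'_eq_act]; exact h)
    · have h1 : g ∈ Cfsg.Geo.subspaceStabilizer (perp Q (D 0)) := ((stab_inf_omega_perp hQ hWn).ge hg).1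
      have key : ∀ W : Submodule F (Fin 10 → F), g ∈ Cfsg.Geo.subspaceStabilizer W → W.map (act g) = W :=
        fun W hW => Submodule.eq_of_le_of_finrank_le
          (fun y hy => by
            obtain ⟨x, hx, rfl⟩ := Submodule.mem_map.1 hy
            exact (mem_subspaceStabilizer.1 hW x).1 hx) (by rw [finrank_map_act])
      rw [toLin'_eq_act]
      rcases Fin.exists_fin_two.1 ⟨i, rfl⟩ with rfl | rfl
      · exact key _ hg.1
      · rw [hperp] at h1; exact key _ h1
  rw [heq]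
  refine Small.nondeg_maximal hQ hWn (hd 0).ge ?_ (by rw [hperp, hd, hd]) ?_ hno
  · rw [hperp]; intro e; have := hd 1; rw [e, finrank_bot] at this; omega
  · rintro ⟨-, h, -⟩; rw [hperp, hd] at h; omega

/-- Normalisers of self-adjoint quadratic subfields. -/
theorem ext_two (h2 : (2 : F) ≠ 0) {K : Subalgebra F (Matrix (Fin 10) (Fin 10) F)}
    (hK : Cfsg.Geo.IsFieldSubalgebra 2 K) (hsa : Cfsg.Geo.IsSelfAdjointFor (QuadraticMap.polar ⇑Q) K) :
    Cfsg.Geo.IsMaximalIn (Cfsg.Geo.omegaGL Q) (Cfsg.Geo.subalgebraNormalizer K ⊓ Cfsg.Geo.omegaGL Q) := by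
  classical
  have hfield : IsField K :=
    { exists_pair_ne := ⟨0, 1, fun h => zero_ne_one (α := Matrix (Fin 10) (Fin 10) F) (congrArg Subtype.val h)⟩
      mul_comm := fun a b => Subtype.ext (hK.comm a.1 a.2 b.1 b.2)
      mul_inv_cancel := fun {a} ha => by
        obtain ⟨y, hy, hxy⟩ := hK.inv a.1 a.2 (fun h => ha (Subtype.ext h))
        exact ⟨⟨y, hy⟩, Subtype.ext hxy⟩ }
  letI : Field K := hfield.toField
  letI : Module K (Fin 10 → F) :=
    { smul := fun a v => (a : Matrix (Fin 10) (Fin 10) F) *ᵥ v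
      one_smul := fun v => Matrix.one_mulVec v
      mul_smul := fun a b v => (Matrix.mulVec_mulVec v _ _).symm
      smul_zero := fun a => Matrix.mulVec_zero _
      smul_add := fun a v w => Matrix.mulVec_add _ v w
      add_smul := fun a b v => Matrix.add_mulVec _ _ v
      zero_smul := fun v => Matrix.zero_mulVec v }
  have hsmul : ∀ (a : K) (v : Fin 10 → F), a • v = (a : Matrix (Fin 10) (Fin 10) F) *ᵥ v := fun a v => rfl
  haveI : IsScalarTower F K (Fin 10 → F) := ⟨fun c a v => by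
    rw [hsmul, hsmul]
    exact Matrix.smul_mulVec c _ v⟩
  haveI : Module.Finite F K := Module.finite_of_finrank_pos (hK.finrank_eq ▸ Nat.two_pos)
  have hr' : (Module.finrank F K).Prime := hK.finrank_eq.symm ▸ Nat.prime_two
  have hdim := Module.finrank_mul_finrank F K (Fin 10 → F)
  rw [Module.finrank_fintype_fun_eq_card, hK.finrank_eq, Fintype.card_fin] at hdim
  obtain ⟨d, hd⟩ : ∃ d, d = Module.finrank K (Fin 10 → F) := ⟨_, rfl⟩
  rw [← hd] at hdim
  have hd5 : d = 5 := by omega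
  have h5 : 5 ≤ Fintype.card (Fin 10) := by rw [Fintype.card_fin]; omega
  obtain ⟨Φ, htr, hsym⟩ := MaxCl.OExt.exists_kform (K := K) (Q := Q) fun k x y => hsa k.1 k.2 x y
  have hsemi : ∀ g : GL (Fin 10) F, g ∈ Cfsg.Geo.subalgebraNormalizer K ↔ MaxCl.ExtF.IsSemi K g :=
    fun g => MaxCl.ExtF.mem_normalizer_iff K g
  have hamb : ∀ M : Subgroup (GL (Fin 10) F), Cfsg.Geo.subalgebraNormalizer K ⊓ Cfsg.Geo.omegaGL Q ≤ M →
      M ≤ Cfsg.Geo.omegaGL Q → MaxCl.OExt.Amb Q Φ M := fun M h1 hle =>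
    ⟨htr, hsym, hQ, h2, h5, fun g hg hl => h1 ⟨(hsemi g).2 fun k => ⟨k, hl k⟩, hg⟩, hle⟩
  refine isMaximalIn_inf ?_ fun M hHM hMS hout => ?_
  · obtain ⟨g, hg, hns⟩ := MaxCl.OExt.exists_not_semi (hamb _ le_rfl inf_le_right) hr' (hd ▸ by omega)
    exact ⟨g, hg, fun h => hns ((hsemi g).1 h)⟩
  · obtain ⟨g, hgM, hg⟩ := hout
    exact MaxCl.OExt.omega_le (hamb M hHM hMS) hr' (hd ▸ by omega) (fun _ => hd ▸ by omega) hgM
      fun h => hg ((hsemi g).2 h)

/-- Normalisers of quadratic subfields with a unitary structure. -/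
theorem unitary {K : Subalgebra F (Matrix (Fin 10) (Fin 10) F)} (hK : Cfsg.Geo.IsFieldSubalgebra 2 K)
    (hac : Cfsg.Geo.IsAdjointClosedFor (QuadraticMap.polar ⇑Q) K)
    (hnsa : ¬ Cfsg.Geo.IsSelfAdjointFor (QuadraticMap.polar ⇑Q) K)
    (hsc : ∀ k ∈ K, ∃ c : F, ∀ v : Fin 10 → F, Q (Matrix.mulVec k v) = c * Q v) :
    Cfsg.Geo.IsMaximalIn (Cfsg.Geo.omegaGL Q) (Cfsg.Geo.subalgebraNormalizer K ⊓ Cfsg.Geo.omegaGL Q) := by
  obtain ⟨j, s, c, hJ, hK2⟩ := exists_unitary_generator hQ K hK hac hnsa hsc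
  exact unitary_normalizer_maximal hQ (by rw [Fintype.card_fin]) j hJ K hK2

/-- Subfield groups. -/
theorem subfield (F₀ : Subfield F) (r : ℕ) (P : GL (Fin 10) F) (ζ : F) (hr : r.Prime)
    (hcard : Fintype.card F = Nat.card F₀ ^ r) (hζ : ζ ≠ 0)
    (hP : Cfsg.Geo.IsQuadFormRationalStructure (fun v : Fin 10 → F => ζ * Q v) F₀ P) :
    Cfsg.Geo.IsMaximalIn (Cfsg.Geo.omegaGL Q) (Cfsg.Geo.subfieldSubgroup F₀ P ⊓ Cfsg.Geo.omegaGL Q) := by
  have hiso : isometryGroup F (⇑(ζ • Q)) = isometryGroup F ⇑Q := by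
    ext g
    simp only [mem_iso, smul_eq_mul, mul_right_inj' hζ, QuadraticMap.smul_apply]
  have hnd' : (QuadraticMap.polarBilin (ζ • Q)).Nondegenerate := by
    have key : ∀ x y, QuadraticMap.polar (⇑(ζ • Q)) x y = ζ * B x y := fun x y => by
      simp only [QuadraticMap.polar, QuadraticMap.smul_apply, smul_eq_mul]; ring
    refine ⟨fun x hx => hQ.1 x fun y => ?_, fun y hy => hQ.2 y fun x => ?_⟩
    · have := hx y
      rw [QuadraticMap.polarBilin_apply_apply, key] at this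
      exact (mul_eq_zero.1 this).resolve_left hζ
    · have := hy x
      rw [QuadraticMap.polarBilin_apply_apply, key] at this
      exact (mul_eq_zero.1 this).resolve_left hζ
  rw [← omega_congr Q hiso]
  refine orth_subfield_maximal' (Q := ζ • Q) ?_ hnd' (by rw [Fintype.card_fin]; omega)
    (Or.inl (by rw [Fintype.card_fin]; omega)) hr (by rw [Nat.card_eq_fintype_card (α := F)]; exact hcard)
  rintro _ ⟨u, hu, rfl⟩
  rw [act_apply, QuadraticMap.smul_apply, smul_eq_mul]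
  exact hP u hu

end Cfsg.Agent.MaxCl.Orth.Ten
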